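import Cfsg.Agent.H749.TwoStab

/-!
# The complements of the standard forms, and the exact orders (helper749)

`cmp_of_frame`; `spF_cmp`, `plusF_cmp`, `oddF_cmp`, `minusF_cmp` : instances of `Cmp`.
`two_finrank_le` : `2 dim W ≤ dim V` for totally singular `W`; `no_disj`.
`card_exact` : `|F.iso| = p^a |Om k| |GL_k| |F'.iso|`.
-/

set_option autoImplicit false

open scoped ComplexConjugate
open Cfsg

namespace Cfsg.Agent.H749.Two

open Cfsg.Agent.OddOrderCharacters.Clifford Cfsg.Agent.Characters MulAction Module Cfsg.Agent.H53.HC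
open Cfsg.Agent.H477.HC

universe u v w

section

variable {K : Type u} [Field K] {V : Type v} [AddCommGroup V] [Module K V] {X : Type w} [AddCommGroup X] [Module K X]
variable {F : CForm K V} {F' : CForm K X} {j : X →ₗ[K] V} {W₀ : Submodule K V}

theorem cmp_of_frame [FiniteDimensional K V] (hσ : F.σ = F'.σ) {k : ℕ} {e f : Fin k → V}
    (hee : ∀ i l, F.B (e i) (e l) = 0)
    (hff : ∀ i l, F.B (f i) (f l) = 0)
    (hef : ∀ i l, F.B (e i) (f l) = if i = l then 1 else 0) (hQe : ∀ i, F.Q (e i) = 0)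
    (hjB : ∀ x y, F.B (j x) (j y) = F'.B x y) (hjQ : ∀ x, F.Q (j x) = F'.Q x)
    (hje : ∀ x i, F.B (j x) (e i) = 0) (hjf : ∀ x i, F.B (j x) (f i) = 0)
    (hdim : finrank K V = finrank K X + 2 * k) :
    Submodule.span K (Set.range e) ∈ F.Om k ∧ Cmp F F' j (Submodule.span K (Set.range e)) := by
  classical
  refine ⟨F.frame_mem_Om hee hef hQe, hσ, (F.frame_mem_Om hee hef hQe).1, hjB, hjQ, fun x w hw => ?_, fun v hv => ?_⟩
  · obtain ⟨g, rfl⟩ := (Submodule.mem_span_range_iff_exists_fun K).1 hw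
    rw [CForm.B_sum_right]
    exact Finset.sum_eq_zero fun i _ => by rw [hje, mul_zero]
  · have hw : ∑ i, F.B v (f i) • e i ∈ Submodule.span K (Set.range e) :=
      (Submodule.mem_span_range_iff_exists_fun K).2 ⟨_, rfl⟩
    obtain ⟨x, hx⟩ := F.frame_decomp F' j hee hff hef hjB hje hjf hdim (v - ∑ i, F.B v (f i) • e i)
      (fun i => by
        rw [F.B_sub_left, hv _ (Submodule.subset_span ⟨i, rfl⟩), CForm.B_sum_left,
          Finset.sum_eq_zero (fun l _ => by rw [hee, mul_zero]), sub_zero])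
      (fun i => by
        rw [F.B_sub_left, CForm.B_sum_left, Finset.sum_eq_single i]
        · rw [hef, if_pos rfl, mul_one, sub_self]
        · intro l _ hl
          rw [hef, if_neg hl, mul_zero]
        · intro h; exact absurd (Finset.mem_univ _) h)
    exact ⟨_, hw, x, by rw [← hx]; abel⟩

/-- totally singular subspaces have at most half the dimension -/
theorem two_finrank_le [FiniteDimensional K V] {W : Submodule K V} (hW : F.TS W) :
    2 * finrank K W ≤ finrank K V := by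
  obtain ⟨W', hW', h0⟩ := F.exists_opp (k := finrank K W) ⟨hW, rfl⟩
  have h1 : W ⊓ W' = ⊥ := by
    rw [Submodule.eq_bot_iff]
    rintro x ⟨hx, hx'⟩
    have : x ∈ W ⊓ F.perp W' := ⟨hx, hW'.1.le_perp hx'⟩
    rw [h0] at this
    exact (Submodule.mem_bot K).1 this
  have h2 := Submodule.finrank_sup_add_finrank_inf_eq W W'
  rw [h1, finrank_bot, add_zero, hW'.2] at h2
  have h3 := Submodule.finrank_le (W ⊔ W')
  omega

/-- no orthogonal disjoint pair in `Om k` -/
theorem no_disj {m k : ℕ} [FiniteDimensional K V] (hm : ∀ W : Submodule K V, F.TS W → finrank K W ≤ m) (hk : m < 2 * k)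
    {W : Submodule K V} (hW : W ∈ F.Om k) : ∀ W' ∈ F.Om k, W ≤ F.perp W' → W ⊓ W' = ⊥ → False := by
  intro W' hW' h1 h2
  have h3 := hm _ (F.TS_sup hW.1 hW'.1 h1)
  have h4 := Submodule.finrank_sup_add_finrank_inf_eq W W'
  rw [h2, finrank_bot, add_zero, hW.2, hW'.2] at h4
  omega

/-- **the exact order** -/
theorem card_exact [FiniteDimensional K V] [Finite V] [Finite K] (h : Cmp F F' j W₀) {p : ℕ} [Fact p.Prime] [CharP K p]
    {k : ℕ} (hW₀ : W₀ ∈ F.Om k) :
    ∃ a, Nat.card F.iso = p ^ a * (Nat.card (F.Om k) * Nat.card (GL (Fin k) K) * Nat.card F'.iso) := by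
  classical
  have hfV : Finite (V ≃ₗ[K] V) := Finite.of_injective (fun e : V ≃ₗ[K] V => (e : V → V)) DFunLike.coe_injective
  have hjinj : Function.Injective j := by
    rw [injective_iff_map_eq_zero]
    intro x hx
    refine F'.nondeg x fun y => ?_
    rw [← h.jB, hx, F.B_zero_left]
  have hfX : Finite X := Finite.of_injective j hjinj
  have hfd : FiniteDimensional K X := Module.Finite.of_finite
  have hfXi : Finite (X ≃ₗ[K] X) := Finite.of_injective (fun e : X ≃ₗ[K] X => (e : X → X)) DFunLike.coe_injective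
  have hfW : Finite (W₀ ≃ₗ[K] W₀) := Finite.of_injective (fun e : W₀ ≃ₗ[K] W₀ => (e : W₀ → W₀)) DFunLike.coe_injective
  obtain ⟨ρ, hρ1, hρ2, hρ3⟩ := h.exists_rho
  let f₃ : stabW F.iso.subtype W₀ →* (W₀ ≃ₗ[K] W₀) × F'.iso := (resHom F.iso.subtype W₀).prod ρ
  have hf₃ : Function.Surjective f₃ := by
    rintro ⟨a, b⟩
    obtain ⟨g, hg, hg'⟩ := hρ3 a b
    refine ⟨g, Prod.ext ?_ hg⟩
    ext w
    exact hg' w
  -- the kernel
  have hker : IsPGroup p f₃.ker := by
    rintro ⟨g, hg⟩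
    refine ⟨2, ?_⟩
    have hg' := MonoidHom.mem_ker.1 hg
    have h1 : resHom F.iso.subtype W₀ g = 1 := congrArg Prod.fst hg'
    have h2 : ρ g = 1 := congrArg Prod.snd hg'
    have h1' : ∀ w ∈ W₀, ((g : F.iso) : V ≃ₗ[K] V) w = w := by
      intro w hw
      have := congrArg (fun e : W₀ ≃ₗ[K] W₀ => ((e ⟨w, hw⟩ : W₀) : V)) h1
      exact this
    have h3 : ∀ v ∈ F.perp W₀, ((g : F.iso) : V ≃ₗ[K] V) v - v ∈ W₀ := by
      intro v hv
      obtain ⟨w, hw, x, rfl⟩ := h.j2 v hv
      have h4 := hρ1 g x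
      rw [h2] at h4
      rw [map_add, h1' w hw, add_sub_add_left_eq_sub]
      exact h4
    have h4 : ∀ v, ((g : F.iso) : V ≃ₗ[K] V) v - v ∈ F.perp W₀ := by
      intro v w hw
      rw [F.B_sub_left]
      nth_rewrite 1 [← h1' w hw]
      rw [F.iso_B, sub_self]
    let N : V →ₗ[K] V := (((g : F.iso) : V ≃ₗ[K] V) : V →ₗ[K] V) - LinearMap.id
    have hNv : ∀ v, N v = ((g : F.iso) : V ≃ₗ[K] V) v - v := fun v => rfl
    have hN3 : ∀ v, N (N (N v)) = 0 := by
      intro v
      have h5 : N (N v) ∈ W₀ := h3 _ (h4 v)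
      rw [hNv, h1' _ h5, sub_self]
    have hcast : ∀ n : ℕ, p ∣ n → ∀ v : V, n • v = 0 := by
      intro n hn v
      have h6 : (n : K) = 0 := (CharP.cast_eq_zero_iff K p n).2 hn
      have h7 : (n : K) • v = n • v := Nat.cast_smul_eq_nsmul K n v
      rw [← h7, h6, zero_smul]
    have hpp : p.Prime := Fact.out
    have hp2 : 2 ≤ p := hpp.two_le
    apply Subtype.ext
    apply Subtype.ext
    apply Subtype.ext
    ext v
    change ((((g : F.iso) : V ≃ₗ[K] V)) ^ (p ^ 2)) v = v
    rw [CForm.pow_unip (g := ((g : F.iso) : V ≃ₗ[K] V)) (N := N) (fun v => by rw [hNv]; abel) hN3,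
      hcast _ (dvd_pow_self p two_ne_zero),
      hcast _ (hpp.dvd_choose_pow two_ne_zero (by nlinarith)), add_zero, add_zero]
  obtain ⟨a, ha⟩ := (IsPGroup.iff_card (p := p)).1 hker
  refine ⟨a, ?_⟩
  have e1 : Nat.card (stabW F.iso.subtype W₀) = Nat.card f₃.ker * Nat.card ((W₀ ≃ₗ[K] W₀) × F'.iso) := by
    rw [Subgroup.card_eq_card_quotient_mul_card_subgroup f₃.ker, mul_comm]
    congr 1
    exact Nat.card_congr (QuotientGroup.quotientKerEquivOfSurjective f₃ hf₃).toEquiv
  have e3 : Nat.card (W₀ ≃ₗ[K] W₀) = Nat.card (GL (Fin k) K) :=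
    Nat.card_congr (glE (finBasisOfFinrankEq K W₀ hW₀.2)).toEquiv
  rw [F.card_iso_eq hW₀, e1, ha, Nat.card_prod, e3]
  ring

end

section models

variable (K : Type u) [Field K]

open CForm

theorem spF_cmp (k n : ℕ) : ∃ W₀, W₀ ∈ (spF K (k + n)).Om k ∧ Cmp (spF K (k + n)) (spF K n) (jmap K k n) W₀ := by
  classical
  have hee : ∀ i l : Fin k, (spF K (k + n)).B (Pi.single (.inl (Fin.castAdd n i)) 1)
      (Pi.single (.inl (Fin.castAdd n l)) 1) = 0 := by
    intro i l
    simp [spF_B]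
  have hff : ∀ i l : Fin k, (spF K (k + n)).B (Pi.single (.inr (Fin.castAdd n i)) 1)
      (Pi.single (.inr (Fin.castAdd n l)) 1) = 0 := by
    intro i l
    simp [spF_B]
  have hef : ∀ i l : Fin k, (spF K (k + n)).B (Pi.single (.inl (Fin.castAdd n i)) 1)
      (Pi.single (.inr (Fin.castAdd n l)) 1) = if i = l then 1 else 0 := by
    intro i l
    simp [spF_B, Pi.single_apply, eq_comm]
  refine ⟨_, cmp_of_frame (F := spF K (k + n)) (F' := spF K n) (j := jmap K k n) rfl hee hff hef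
    (fun _ => rfl) ?_ (fun _ => rfl) ?_ ?_ ?_⟩
  · intro x y
    simp [spF_B, Fin.sum_univ_add]
  · intro x i
    simp [spF_B, Pi.single_apply]
  · intro x i
    simp [spF_B, Pi.single_apply]
  · simp
    ring

theorem plusF_cmp (k n : ℕ) :
    ∃ W₀, W₀ ∈ (plusF K (k + n)).Om k ∧ Cmp (plusF K (k + n)) (plusF K n) (jmap K k n) W₀ := by
  classical
  have hee : ∀ i l : Fin k, (plusF K (k + n)).B (Pi.single (.inl (Fin.castAdd n i)) 1)
      (Pi.single (.inl (Fin.castAdd n l)) 1) = 0 := by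
    intro i l
    simp [plusF_B, hypB]
  have hff : ∀ i l : Fin k, (plusF K (k + n)).B (Pi.single (.inr (Fin.castAdd n i)) 1)
      (Pi.single (.inr (Fin.castAdd n l)) 1) = 0 := by
    intro i l
    simp [plusF_B, hypB]
  have hef : ∀ i l : Fin k, (plusF K (k + n)).B (Pi.single (.inl (Fin.castAdd n i)) 1)
      (Pi.single (.inr (Fin.castAdd n l)) 1) = if i = l then 1 else 0 := by
    intro i l
    simp [plusF_B, hypB, Pi.single_apply, eq_comm]
  have hQe : ∀ i : Fin k, (plusF K (k + n)).Q (Pi.single (.inl (Fin.castAdd n i)) 1) = 0 := by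
    intro i
    simp [plusF_Q, quadFormPlus]
  refine ⟨_, cmp_of_frame (F := plusF K (k + n)) (F' := plusF K n) (j := jmap K k n) rfl hee hff hef hQe
    hypB_jmap quadFormPlus_jmap ?_ ?_ ?_⟩
  · intro x i
    simp [plusF_B, hypB, Pi.single_apply]
  · intro x i
    simp [plusF_B, hypB, Pi.single_apply]
  · simp
    ring

theorem oddF_cmp (h2 : (2 : K) ≠ 0) (k n : ℕ) :
    ∃ W₀, W₀ ∈ (oddF K (k + n) h2).Om k ∧ Cmp (oddF K (k + n) h2) (oddF K n h2) (jodd K k n) W₀ := by
  classical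
  have hee : ∀ i l : Fin k, (oddF K (k + n) h2).B (Pi.single (.inr (.inl (Fin.castAdd n i))) 1)
      (Pi.single (.inr (.inl (Fin.castAdd n l))) 1) = 0 := by
    intro i l
    simp [oddF_B, oddB, hypB]
  have hff : ∀ i l : Fin k, (oddF K (k + n) h2).B (Pi.single (.inr (.inr (Fin.castAdd n i))) 1)
      (Pi.single (.inr (.inr (Fin.castAdd n l))) 1) = 0 := by
    intro i l
    simp [oddF_B, oddB, hypB]
  have hef : ∀ i l : Fin k, (oddF K (k + n) h2).B (Pi.single (.inr (.inl (Fin.castAdd n i))) 1)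
      (Pi.single (.inr (.inr (Fin.castAdd n l))) 1) = if i = l then 1 else 0 := by
    intro i l
    simp [oddF_B, oddB, hypB, Pi.single_apply, eq_comm]
  have hQe : ∀ i : Fin k, (oddF K (k + n) h2).Q (Pi.single (.inr (.inl (Fin.castAdd n i))) 1) = 0 := by
    intro i
    simp [oddF_Q, quadFormOdd]
  refine ⟨_, cmp_of_frame (F := oddF K (k + n) h2) (F' := oddF K n h2) (j := jodd K k n) rfl hee hff hef hQe
    ?_ ?_ ?_ ?_ ?_⟩
  · intro x y
    simp [oddF_B, oddB, hypB_jmap]
  · intro x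
    have h := quadFormPlus_jmap (K := K) (k := k) (fun i => x (.inr i))
    change x (.inl ()) ^ 2 + quadFormPlus (k + n) K (jmap K k n (fun i => x (.inr i))) = _
    rw [h]
    rfl
  · intro x i
    simp [oddF_B, oddB, hypB, Pi.single_apply]
  · intro x i
    simp [oddF_B, oddB, hypB, Pi.single_apply]
  · simp
    ring

theorem minusF_cmp [Finite K] {a b : K}
    (hab : ∀ z₁ z₂ : K, z₁ ^ 2 + a * z₁ * z₂ + b * z₂ ^ 2 = 0 → z₁ = 0 ∧ z₂ = 0) (k n : ℕ) :
    ∃ W₀, W₀ ∈ (minusF K (k + n) a b hab).Om k ∧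
      Cmp (minusF K (k + n) a b hab) (minusF K n a b hab) (jminus K k n) W₀ := by
  classical
  have hee : ∀ i l : Fin k, (minusF K (k + n) a b hab).B (Pi.single (.inl (.inl (Fin.castAdd n i))) 1)
      (Pi.single (.inl (.inl (Fin.castAdd n l))) 1) = 0 := by
    intro i l
    simp [minusF_B, minusB, hypB]
  have hff : ∀ i l : Fin k, (minusF K (k + n) a b hab).B (Pi.single (.inl (.inr (Fin.castAdd n i))) 1)
      (Pi.single (.inl (.inr (Fin.castAdd n l))) 1) = 0 := by
    intro i l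
    simp [minusF_B, minusB, hypB]
  have hef : ∀ i l : Fin k, (minusF K (k + n) a b hab).B (Pi.single (.inl (.inl (Fin.castAdd n i))) 1)
      (Pi.single (.inl (.inr (Fin.castAdd n l))) 1) = if i = l then 1 else 0 := by
    intro i l
    simp [minusF_B, minusB, hypB, Pi.single_apply, eq_comm]
  have hQe : ∀ i : Fin k, (minusF K (k + n) a b hab).Q (Pi.single (.inl (.inl (Fin.castAdd n i))) 1) = 0 := by
    intro i
    simp [minusF_Q, quadFormMinus]
  refine ⟨_, cmp_of_frame (F := minusF K (k + n) a b hab) (F' := minusF K n a b hab) (j := jminus K k n) rfl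
    hee hff hef hQe ?_ ?_ ?_ ?_ ?_⟩
  · intro x y
    simp [minusF_B, minusB, hypB_jmap]
  · intro x
    have h := quadFormPlus_jmap (K := K) (k := k) (fun i => x (.inl i))
    change quadFormPlus (k + n) K (jmap K k n (fun i => x (.inl i))) + _ = _
    rw [h]
    rfl
  · intro x i
    simp [minusF_B, minusB, hypB, Pi.single_apply]
  · intro x i
    simp [minusF_B, minusB, hypB, Pi.single_apply]
  · simp
    ring

end models

end Cfsg.Agent.H749.Two
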