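import Mathlib
import Cfsg.Agent.H749.MonF

/-!
# Block-diagonal, block-permutation and Fourier isometries of `W^ι ⊥ W₀` (helper749)

* `Iso f` : the group of the linear automorphisms preserving the function `f : V → V → F`;
* `sumForm b b₀` on `(ι → W) × W₀`; `dg`, `pm` : block-diagonal and block-permutation maps;
* `xt s` : extension of an automorphism of `κ → W` along the injection `s : κ → ι`;
* `fou` : the Fourier transformation on `p` blocks; it conjugates the block shift to a block-diagonal map (`fou_shift`),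
  and preserves the sum form for biadditive `b` (`fou_mem`) and for quadratic forms (`fou_mem_quad`).
-/

set_option autoImplicit false
set_option linter.unusedSectionVars false

namespace Cfsg.Agent.H749

open Equiv

section iso

variable {F V : Type*} [Field F] [AddCommGroup V] [Module F V]

/-- the linear automorphisms preserving the function `f` -/
def Iso (f : V → V → F) : Subgroup (V ≃ₗ[F] V) where
  carrier := {g | ∀ u v, f (g u) (g v) = f u v}
  one_mem' := fun _ _ => rfl
  mul_mem' := by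
    intro a b ha hb u v
    show f (a (b u)) (a (b v)) = f u v
    rw [ha, hb]
  inv_mem' := by
    intro a ha u v
    have h := ha (a⁻¹ u) (a⁻¹ v)
    have e : ∀ w, a (a⁻¹ w) = w := fun w => a.apply_symm_apply w
    rw [e, e] at h
    exact h.symm

theorem mem_Iso {f : V → V → F} {g : V ≃ₗ[F] V} : g ∈ Iso f ↔ ∀ u v, f (g u) (g v) = f u v := Iff.rfl

end iso

section block

variable {F : Type*} [Field F] {ι : Type*} [Fintype ι] [DecidableEq ι] {W W₀ : Type*} [AddCommGroup W] [Module F W]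
  [AddCommGroup W₀] [Module F W₀]

/-- the orthogonal sum -/
def sumForm (b : W → W → F) (b₀ : W₀ → W₀ → F) (u v : (ι → W) × W₀) : F :=
  (∑ i, b (u.1 i) (v.1 i)) + b₀ u.2 v.2

/-- block-diagonal maps -/
def dg : (ι → (W ≃ₗ[F] W)) →* (((ι → W) × W₀) ≃ₗ[F] ((ι → W) × W₀)) where
  toFun x := LinearEquiv.prodCongr (LinearEquiv.piCongrRight x) (LinearEquiv.refl F W₀)
  map_one' := rfl
  map_mul' _ _ := rfl

theorem dg_fst (x : ι → (W ≃ₗ[F] W)) (v : (ι → W) × W₀) (i : ι) : (dg x v).1 i = x i (v.1 i) := rfl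

theorem dg_snd (x : ι → (W ≃ₗ[F] W)) (v : (ι → W) × W₀) : (dg x v).2 = v.2 := rfl

/-- block permutations -/
def pm : Perm ι →* (((ι → W) × W₀) ≃ₗ[F] ((ι → W) × W₀)) where
  toFun π := LinearEquiv.prodCongr (LinearEquiv.funCongrLeft F W π.symm) (LinearEquiv.refl F W₀)
  map_one' := rfl
  map_mul' _ _ := rfl

theorem pm_fst (π : Perm ι) (v : (ι → W) × W₀) (i : ι) : ((pm (F := F) π) v).1 i = v.1 (π.symm i) := rfl

theorem pm_snd (π : Perm ι) (v : (ι → W) × W₀) : ((pm (F := F) π) v).2 = v.2 := rfl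

theorem pm_conj (π : Perm ι) (x : ι → (W ≃ₗ[F] W)) :
    pm π * dg x * (pm π)⁻¹ = (dg (W₀ := W₀) fun i => x (π.symm i)) := by
  rw [mul_inv_eq_iff_eq_mul]
  refine LinearEquiv.ext fun v => Prod.ext (funext fun i => ?_) rfl
  show (pm (F := F) π (dg x v)).1 i = (dg (fun i => x (π.symm i)) (pm (F := F) π v)).1 i
  rw [pm_fst, dg_fst, dg_fst, pm_fst]

variable {b : W → W → F} {b₀ : W₀ → W₀ → F}

theorem dg_mem {x : ι → (W ≃ₗ[F] W)} (hx : ∀ i, x i ∈ Iso b) : dg x ∈ Iso (sumForm b b₀) := by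
  intro u v
  unfold sumForm
  simp only [dg_fst, dg_snd]
  congr 1
  exact Finset.sum_congr rfl fun i _ => hx i _ _

theorem pm_mem (π : Perm ι) : pm π ∈ Iso (F := F) (sumForm (ι := ι) b b₀) := by
  intro u v
  unfold sumForm
  simp only [pm_fst, pm_snd]
  congr 1
  exact Equiv.sum_comp π.symm fun i => b (u.1 i) (v.1 i)

theorem dg_injective : Function.Injective (dg (F := F) (ι := ι) (W := W) (W₀ := W₀)) := by
  intro x y h
  funext i
  refine LinearEquiv.ext fun w => ?_
  have h1 := congrArg (fun g : (((ι → W) × W₀) ≃ₗ[F] ((ι → W) × W₀)) => (g (fun _ => w, 0)).1 i) h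
  exact h1

/-- only the trivial block permutation is block-diagonal -/
theorem eq_one_of_dg_mul_pm [Nontrivial W] {x : ι → (W ≃ₗ[F] W)} {π : Perm ι}
    (h : (dg x : ((ι → W) × W₀) ≃ₗ[F] ((ι → W) × W₀)) * pm π = 1) : x = 1 ∧ π = 1 := by
  have hπ : π = 1 := by
    obtain ⟨w, hw⟩ := exists_ne (0 : W)
    by_contra hc
    obtain ⟨i, hi⟩ : ∃ i, π i ≠ i := by
      by_contra h2
      push Not at h2
      exact hc (Perm.ext h2)
    have h1 := congrArg (fun g : (((ι → W) × W₀) ≃ₗ[F] ((ι → W) × W₀)) => (g (Pi.single i w, 0)).1 (π i)) h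
    have h2 : (((dg x : ((ι → W) × W₀) ≃ₗ[F] ((ι → W) × W₀)) * pm π : ((ι → W) × W₀) ≃ₗ[F] ((ι → W) × W₀))
        (Pi.single i w, 0)).1 (π i) = x (π i) w := by
      show x (π i) ((Pi.single i w : ι → W) (π.symm (π i))) = _
      rw [Equiv.symm_apply_apply, Pi.single_eq_same]
    have h3 : ((1 : ((ι → W) × W₀) ≃ₗ[F] ((ι → W) × W₀)) (Pi.single i w, 0)).1 (π i) = 0 := by
      show (Pi.single i w : ι → W) (π i) = 0
      rw [Pi.single_eq_of_ne hi]
    have h4 : x (π i) w = 0 := h2.symm.trans (h1.trans h3)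
    exact hw ((x (π i)).map_eq_zero_iff.1 h4)
  refine ⟨?_, hπ⟩
  rw [hπ, map_one, mul_one] at h
  exact dg_injective (h.trans (map_one dg).symm)

end block

section extend

variable {F : Type*} [Field F] {ι κ : Type*} [Fintype ι] [DecidableEq ι] [Fintype κ] {W W₀ : Type*} [AddCommGroup W]
  [Module F W] [AddCommGroup W₀] [Module F W₀] (s : κ → ι) (hs : Function.Injective s)

/-- the extension of a linear map of `κ → W` along `s` -/
noncomputable def xtl (g : (κ → W) →ₗ[F] (κ → W)) : (ι → W) →ₗ[F] (ι → W) where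
  toFun w := Function.extend s (g (w ∘ s)) w
  map_add' u v := by
    rw [show (u + v) ∘ s = u ∘ s + v ∘ s from rfl, map_add, Function.extend_add]
  map_smul' c u := by
    rw [show (c • u) ∘ s = c • (u ∘ s) from rfl, map_smul]
    exact Function.extend_smul c s _ _

theorem xtl_apply (g : (κ → W) →ₗ[F] (κ → W)) (w : ι → W) : xtl s g w = Function.extend s (g (w ∘ s)) w := rfl

variable {s}

theorem xtl_range (g : (κ → W) →ₗ[F] (κ → W)) (w : ι → W) (i : κ) (hs : Function.Injective s) :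
    xtl s g w (s i) = g (w ∘ s) i := by
  rw [xtl_apply, hs.extend_apply]

theorem xtl_comp (g : (κ → W) →ₗ[F] (κ → W)) (w : ι → W) (hs : Function.Injective s) :
    xtl s g w ∘ s = g (w ∘ s) := funext fun i => xtl_range g w i hs

theorem xtl_not (g : (κ → W) →ₗ[F] (κ → W)) (w : ι → W) {x : ι} (hx : ¬ ∃ i, s i = x) : xtl s g w x = w x := by
  rw [xtl_apply, Function.extend_apply' _ _ _ hx]

theorem xtl_mul (hs : Function.Injective s) (g h : (κ → W) →ₗ[F] (κ → W)) (w : ι → W) :
    xtl s g (xtl s h w) = xtl s (g ∘ₗ h) w := by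
  funext x
  by_cases hx : ∃ i, s i = x
  · obtain ⟨i, rfl⟩ := hx
    rw [xtl_range _ _ _ hs, xtl_range _ _ _ hs, xtl_comp _ _ hs]
    rfl
  · rw [xtl_not _ _ hx, xtl_not _ _ hx, xtl_not _ _ hx]

theorem xtl_id (w : ι → W) : xtl s (LinearMap.id : (κ → W) →ₗ[F] (κ → W)) w = w := by
  funext x
  rw [xtl_apply]
  by_cases hx : ∃ i, s i = x
  · obtain ⟨i, hi⟩ := hx
    show Function.extend s (w ∘ s) w x = w x
    rw [Function.extend_def]
    split_ifs with h
    · show w (s _) = w x
      rw [Classical.choose_spec h]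
    · rfl
  · rw [Function.extend_apply' _ _ _ hx]

/-- the extension of a linear automorphism of `κ → W` along `s` -/
noncomputable def xt (hs : Function.Injective s) (g : (κ → W) ≃ₗ[F] (κ → W)) :
    ((ι → W) × W₀) ≃ₗ[F] ((ι → W) × W₀) :=
  LinearEquiv.prodCongr
    (LinearEquiv.ofLinearMap (xtl s g.toLinearMap) (xtl s g.symm.toLinearMap)
      (LinearMap.ext fun w => by
        show xtl s g.toLinearMap (xtl s g.symm.toLinearMap w) = w
        rw [xtl_mul hs, LinearEquiv.comp_symm, xtl_id])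
      (LinearMap.ext fun w => by
        show xtl s g.symm.toLinearMap (xtl s g.toLinearMap w) = w
        rw [xtl_mul hs, LinearEquiv.symm_comp, xtl_id]))
    (LinearEquiv.refl F W₀)

theorem xt_fst (g : (κ → W) ≃ₗ[F] (κ → W)) (v : (ι → W) × W₀) : (xt hs g v).1 = xtl s g.toLinearMap v.1 := rfl

theorem xt_snd (g : (κ → W) ≃ₗ[F] (κ → W)) (v : (ι → W) × W₀) : (xt hs g v).2 = v.2 := rfl

include hs in
theorem xt_mem {b : W → W → F} {b₀ : W₀ → W₀ → F} {g : (κ → W) ≃ₗ[F] (κ → W)}
    (hg : g ∈ Iso (fun u v : κ → W => ∑ i, b (u i) (v i))) : xt hs g ∈ Iso (sumForm b b₀) := by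
  classical
  intro u v
  unfold sumForm
  rw [xt_snd, xt_snd]
  congr 1
  rw [xt_fst, xt_fst]
  have key : ∀ f : ι → F, ∑ x, f x = (∑ i, f (s i)) + ∑ x ∈ Finset.univ.filter (fun x => ¬ ∃ i, s i = x), f x := by
    intro f
    rw [← Finset.sum_filter_add_sum_filter_not Finset.univ (fun x => ∃ i, s i = x) f]
    congr 1
    rw [show Finset.univ.filter (fun x => ∃ i, s i = x) = Finset.univ.map ⟨s, hs⟩ by ext x; simp, Finset.sum_map]
    rfl
  rw [key, key (fun x => b (u.1 x) (v.1 x))]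
  congr 1
  · have := hg (u.1 ∘ s) (v.1 ∘ s)
    simp only [xtl_range _ _ _ hs]
    exact this
  · refine Finset.sum_congr rfl fun x hx => ?_
    rw [Finset.mem_filter] at hx
    rw [xtl_not _ _ hx.2, xtl_not _ _ hx.2]

end extend

section fourier

variable {F : Type*} [Field F] {W : Type*} [AddCommGroup W] [Module F W] {p : ℕ} [hp : Fact p.Prime]

/-- powers of an element of order `p`, indexed by `ZMod p` -/
def chz (z : W ≃ₗ[F] W) (i : ZMod p) : W ≃ₗ[F] W := z ^ i.val

theorem pow_mod' {G : Type*} [Group G] {g : G} {n : ℕ} (h : g ^ n = 1) (m : ℕ) : g ^ m = g ^ (m % n) := by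
  conv_lhs => rw [← Nat.div_add_mod m n, pow_add, pow_mul, h, one_pow, one_mul]

theorem chz_zero (z : W ≃ₗ[F] W) : chz z (0 : ZMod p) = 1 := by
  unfold chz
  rw [ZMod.val_zero, pow_zero]

theorem chz_one (z : W ≃ₗ[F] W) : chz z (1 : ZMod p) = z := by
  unfold chz
  rw [ZMod.val_one, pow_one]

theorem chz_add {z : W ≃ₗ[F] W} (hz : z ^ p = 1) (i j : ZMod p) : chz z (i + j) = chz z i * chz z j := by
  unfold chz
  rw [← pow_add, ZMod.val_add, ← pow_mod' hz]

theorem chz_comm (z : W ≃ₗ[F] W) (i j : ZMod p) (w : W) : chz z i (chz z j w) = chz z j (chz z i w) := by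
  unfold chz
  rw [← LinearEquiv.mul_apply, ← LinearEquiv.mul_apply, ← pow_add, ← pow_add, add_comm]

theorem chz_neg {z : W ≃ₗ[F] W} (hz : z ^ p = 1) (i : ZMod p) (w : W) : chz z (-i) (chz z i w) = w := by
  rw [← LinearEquiv.mul_apply, ← chz_add hz, neg_add_cancel, chz_zero]
  rfl

theorem chz_pow {z : W ≃ₗ[F] W} (hz : z ^ p = 1) (i : ZMod p) : (chz z i) ^ p = 1 := by
  unfold chz
  rw [← pow_mul, mul_comm, pow_mul, hz, one_pow]

/-- the sum of the powers -/
theorem sum_chz {z : W ≃ₗ[F] W} (hz1 : ∀ w : W, ∑ i : ZMod p, chz z i w = 0) {m : ZMod p} (hm : m ≠ 0) (w : W) :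
    ∑ i : ZMod p, chz z (i * m) w = 0 := by
  rw [← hz1 w]
  exact Equiv.sum_comp (Equiv.mulRight₀ m hm) fun i => chz z i w

/-- the Fourier transformation -/
def fouL (z : W ≃ₗ[F] W) (lam : W →ₗ[F] W) : (ZMod p → W) →ₗ[F] (ZMod p → W) where
  toFun w := fun i => lam (∑ j : ZMod p, chz z (i * j) (w j))
  map_add' u v := by
    funext i
    simp only [Pi.add_apply, map_add, Finset.sum_add_distrib]
  map_smul' c u := by
    funext i
    simp only [Pi.smul_apply, map_smul, RingHom.id_apply, ← Finset.smul_sum]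

theorem fouL_apply (z : W ≃ₗ[F] W) (lam : W →ₗ[F] W) (w : ZMod p → W) (i : ZMod p) :
    fouL z lam w i = lam (∑ j : ZMod p, chz z (i * j) (w j)) := rfl

theorem lam_chz {z : W ≃ₗ[F] W} {lam : W →ₗ[F] W} (hc : ∀ w, lam (z w) = z (lam w)) (i : ZMod p) (w : W) :
    lam (chz z i w) = chz z i (lam w) := by
  unfold chz
  induction i.val generalizing w with
  | zero => rfl
  | succ n ih => rw [pow_succ, LinearEquiv.mul_apply, ih, hc]; rfl

/-- Fourier inversion -/
theorem fouL_inv {z : W ≃ₗ[F] W} (hz : z ^ p = 1) (hz1 : ∀ w : W, ∑ i : ZMod p, chz z i w = 0) {lam mu : W →ₗ[F] W}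
    (hc : ∀ w, lam (z w) = z (lam w)) (hlm : ∀ w, (p : F) • mu (lam w) = w)
    (w : ZMod p → W) :
    (fun i => mu (∑ j : ZMod p, chz z (-(i * j)) (fouL z lam w j))) = w := by
  funext l
  have h1 : ∀ j : ZMod p, chz z (-(l * j)) (fouL z lam w j) = lam (∑ i, chz z (j * (i - l)) (w i)) := by
    intro j
    rw [fouL_apply, ← lam_chz hc, map_sum]
    congr 1
    refine Finset.sum_congr rfl fun i _ => ?_
    rw [← LinearEquiv.mul_apply, ← chz_add hz]
    congr 2
    ring
  rw [Finset.sum_congr rfl fun j _ => h1 j, ← map_sum, Finset.sum_comm]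
  have h2 : ∀ i : ZMod p, ∑ j : ZMod p, chz z (j * (i - l)) (w i) = if i = l then (p : F) • w l else 0 := by
    intro i
    split_ifs with h
    · subst h
      have : ∀ j : ZMod p, chz z (j * (i - i)) (w i) = w i := fun j => by
        rw [sub_self, mul_zero, chz_zero]; rfl
      rw [Finset.sum_congr rfl fun j _ => this j, Finset.sum_const, Finset.card_univ, ZMod.card, ← Nat.cast_smul_eq_nsmul F]
    · exact sum_chz hz1 (sub_ne_zero.2 h) _
  rw [Finset.sum_congr rfl fun i _ => h2 i, Finset.sum_ite_eq' Finset.univ l, if_pos (Finset.mem_univ _), map_smul, map_smul,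
    hlm]

/-- the Fourier transformation as a linear automorphism -/
noncomputable def fou [FiniteDimensional F W] {z : W ≃ₗ[F] W} (hz : z ^ p = 1)
    (hz1 : ∀ w : W, ∑ i : ZMod p, chz z i w = 0) {lam mu : W →ₗ[F] W}
    (hc : ∀ w, lam (z w) = z (lam w)) (hlm : ∀ w, (p : F) • mu (lam w) = w) :
    (ZMod p → W) ≃ₗ[F] (ZMod p → W) :=
  LinearEquiv.ofInjectiveEndo (fouL z lam) (fun u v h => by
    rw [← fouL_inv hz hz1 hc hlm u, ← fouL_inv hz hz1 hc hlm v, h])

section

variable [FiniteDimensional F W] {z : W ≃ₗ[F] W} (hz : z ^ p = 1)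
    (hz1 : ∀ w : W, ∑ i : ZMod p, chz z i w = 0) {lam mu : W →ₗ[F] W}
    (hc : ∀ w, lam (z w) = z (lam w)) (hlm : ∀ w, (p : F) • mu (lam w) = w)

theorem fou_apply (w : ZMod p → W) (i : ZMod p) :
    fou hz hz1 hc hlm w i = lam (∑ j : ZMod p, chz z (i * j) (w j)) := rfl

/-- the Fourier transformation turns the shift into a diagonal map -/
theorem fou_shift (w : ZMod p → W) (i : ZMod p) :
    fou hz hz1 hc hlm (fun j => w (j - 1)) i = chz z i (fou hz hz1 hc hlm w i) := by
  rw [fou_apply, fou_apply, ← lam_chz hc, map_sum (chz z i)]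
  congr 1
  rw [← Equiv.sum_comp (Equiv.addRight (1 : ZMod p)) (fun j => chz z (i * j) (w (j - 1)))]
  refine Finset.sum_congr rfl fun j _ => ?_
  show chz z (i * (j + 1)) (w (j + 1 - 1)) = _
  rw [add_sub_cancel_right, mul_add, mul_one, add_comm, chz_add hz]
  rfl

/-- biadditive forms -/
theorem fou_mem {b : W → W → F} (hb1 : ∀ u v w, b (u + v) w = b u w + b v w)
    (hb2 : ∀ u v w, b u (v + w) = b u v + b u w) (hzb : z ∈ Iso b)
    (hlb : ∀ u v, (p : F) * b (lam u) (lam v) = b u v) :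
    fou hz hz1 hc hlm ∈ Iso (fun u v : ZMod p → W => ∑ i, b (u i) (v i)) := by
  have hchz : ∀ i : ZMod p, chz z i ∈ Iso b := fun i => (Iso b).pow_mem hzb _
  have hb10 : ∀ w, b 0 w = 0 := fun w => by
    have := hb1 0 0 w
    rw [add_zero] at this
    exact left_eq_add.1 this
  have hb20 : ∀ w, b w 0 = 0 := fun w => by
    have := hb2 w 0 0
    rw [add_zero] at this
    exact left_eq_add.1 this
  have hs1 : ∀ (f : ZMod p → W) (w : W), b (∑ i, f i) w = ∑ i, b (f i) w := fun f w =>
    map_sum (⟨⟨fun x => b x w, hb10 w⟩, fun x y => hb1 x y w⟩ : W →+ F) f _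
  have hs2 : ∀ (f : ZMod p → W) (w : W), b w (∑ i, f i) = ∑ i, b w (f i) := fun f w =>
    map_sum (⟨⟨fun x => b w x, hb20 w⟩, fun x y => hb2 w x y⟩ : W →+ F) f _
  intro u v
  show ∑ i, b (fou hz hz1 hc hlm u i) (fou hz hz1 hc hlm v i) = ∑ i, b (u i) (v i)
  have h1 : ∀ i : ZMod p, b (fou hz hz1 hc hlm u i) (fou hz hz1 hc hlm v i) =
      ∑ j, ∑ l, b (lam (u j)) (lam (chz z (i * (l - j)) (v l))) := by
    intro i
    rw [fou_apply, fou_apply, map_sum, map_sum, hs1]
    refine Finset.sum_congr rfl fun j _ => ?_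
    rw [hs2]
    refine Finset.sum_congr rfl fun l _ => ?_
    rw [lam_chz hc, lam_chz hc, lam_chz hc, show i * l = i * j + i * (l - j) by ring, chz_add hz, LinearEquiv.mul_apply]
    exact hchz _ _ _
  rw [Finset.sum_congr rfl fun i _ => h1 i, Finset.sum_comm]
  refine Finset.sum_congr rfl fun j _ => ?_
  rw [Finset.sum_comm]
  have h2 : ∀ l : ZMod p, ∑ i : ZMod p, b (lam (u j)) (lam (chz z (i * (l - j)) (v l))) =
      if l = j then b (u j) (v j) else 0 := by
    intro l
    split_ifs with h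
    · subst h
      have : ∀ i : ZMod p, b (lam (u l)) (lam (chz z (i * (l - l)) (v l))) = b (lam (u l)) (lam (v l)) := fun i => by
        rw [sub_self, mul_zero, chz_zero]; rfl
      rw [Finset.sum_congr rfl fun i _ => this i, Finset.sum_const, Finset.card_univ, ZMod.card, nsmul_eq_mul, hlb]
    · rw [← hs2, ← map_sum, sum_chz hz1 (sub_ne_zero.2 h), map_zero, hb20]
  rw [Finset.sum_congr rfl fun l _ => h2 l, Finset.sum_ite_eq' Finset.univ j, if_pos (Finset.mem_univ _)]

/-- quadratic forms -/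
theorem fou_mem_quad {Q : QuadraticForm F W} (hzb : ∀ w, Q (z w) = Q w) (hlb : ∀ u, (p : F) * Q (lam u) = Q u) :
    fou hz hz1 hc hlm ∈ Iso (fun u _ : ZMod p → W => ∑ i, Q (u i)) := by
  have hchz : ∀ (i : ZMod p) (w : W), Q (chz z i w) = Q w := by
    intro i w
    unfold chz
    induction i.val generalizing w with
    | zero => rfl
    | succ n ih => rw [pow_succ, LinearEquiv.mul_apply, ih, hzb]
  have hpol : ∀ (i : ZMod p) (u v : W), QuadraticMap.polar Q (chz z i u) (chz z i v) = QuadraticMap.polar Q u v := by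
    intro i u v
    unfold QuadraticMap.polar
    rw [← map_add, hchz, hchz, hchz]
  intro u v
  show ∑ i, Q (fou hz hz1 hc hlm u i) = ∑ i, Q (u i)
  have h1 : ∀ i : ZMod p, Q (fou hz hz1 hc hlm u i) = (∑ j, Q (lam (u j))) +
      ∑ jl ∈ Finset.univ.sym2 with ¬ jl.IsDiag, QuadraticMap.polarSym2 Q (jl.map fun j => lam (chz z (i * j) (u j))) := by
    intro i
    rw [fou_apply, map_sum, QuadraticMap.map_sum]
    congr 1
    refine Finset.sum_congr rfl fun j _ => ?_
    rw [lam_chz hc, hchz]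
  rw [Finset.sum_congr rfl fun i _ => h1 i, Finset.sum_add_distrib, Finset.sum_const, Finset.card_univ, ZMod.card,
    nsmul_eq_mul, Finset.mul_sum, Finset.sum_congr rfl fun j _ => hlb (u j), Finset.sum_comm, add_eq_left]
  refine Finset.sum_eq_zero fun jl hjl => ?_
  rw [Finset.mem_filter] at hjl
  obtain ⟨-, hd⟩ := hjl
  induction jl with
  | _ j l =>
    rw [Sym2.mk_isDiag_iff] at hd
    have h3 : ∀ i : ZMod p, QuadraticMap.polarSym2 Q ((s(j, l) : Sym2 (ZMod p)).map fun j => lam (chz z (i * j) (u j))) =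
        QuadraticMap.polarBilin Q (lam (u j)) (lam (chz z (i * (l - j)) (u l))) := by
      intro i
      show QuadraticMap.polar Q (lam (chz z (i * j) (u j))) (lam (chz z (i * l) (u l))) =
        QuadraticMap.polar Q (lam (u j)) (lam (chz z (i * (l - j)) (u l)))
      rw [lam_chz hc, lam_chz hc, lam_chz hc, show i * l = i * j + i * (l - j) by ring, chz_add hz, LinearEquiv.mul_apply,
        hpol]
    rw [Finset.sum_congr rfl fun i _ => h3 i, ← map_sum, ← map_sum, sum_chz hz1 (sub_ne_zero.2 (Ne.symm hd)), map_zero,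
      map_zero]

end

end fourier

end Cfsg.Agent.H749
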