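import Mathlib
import Cfsg.Agent.H749.BlockF

/-!
# `FullP` from a block and one isometry of `p`-power order (helper749)

`dichZ` : `z` an isometry of the block `(W, b)` of order `p ^ a`, `T` an isometry with `T z T⁻¹ = z ^ t`, a Fourier
transformation on `p` blocks for `z ^ p ^ (a - 1)`; `K` a subgroup of the isometry group of `W^ι ⊥ W₀` containing the commutator
subgroup and the `p`-elements, of order with `p`-part at most `p ^ (a k) (k!)_p`: then `FullP p K`.
-/

set_option autoImplicit false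
set_option linter.unusedSectionVars false

namespace Cfsg.Agent.H749

open Equiv Equiv.Perm

/-- elements of order dividing `p` in a cyclic group of order a power of `p` -/
theorem mem_pow_of_cyclic {p : ℕ} [hp : Fact p.Prime] {μ : Type*} [CommGroup μ] [Finite μ] [IsCyclic μ]
    (hμ : ∀ m : μ, PEl p m) (m : μ) (hm : m ≠ 1) (z : μ) (hz : z ^ p = 1) : ∃ n : ℕ, z = m ^ n := by
  classical
  have := Fintype.ofFinite μ
  obtain ⟨k, hk⟩ := hμ m
  have hk0 : k ≠ 0 := by
    rintro rfl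
    rw [pow_zero, pow_one] at hk
    exact hm hk
  -- an element of order `p` in `⟨m⟩`
  obtain ⟨j, hj⟩ := (Nat.dvd_prime_pow hp.out).1 (orderOf_dvd_of_pow_eq_one hk)
  have hj0 : j ≠ 0 := by
    rintro rfl
    rw [pow_zero] at hj
    exact hm (orderOf_eq_one_iff.1 hj.2)
  set y := m ^ p ^ (j - 1) with hy
  have hyo : orderOf y = p := by
    rw [hy, orderOf_pow, hj.2, Nat.gcd_eq_right (pow_dvd_pow p (Nat.sub_le j 1)),
      Nat.pow_div (Nat.sub_le j 1) hp.out.pos]
    have : j - (j - 1) = 1 := by omega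
    rw [this, pow_one]
  by_contra hc
  push Not at hc
  have h1 : (insert z (Finset.univ.image fun i : Fin p => y ^ (i : ℕ))).card ≤ p := by
    refine le_trans (Finset.card_le_card ?_) (IsCyclic.card_pow_eq_one_le (α := μ) hp.out.pos)
    intro x hx
    rw [Finset.mem_insert, Finset.mem_image] at hx
    rw [Finset.mem_filter]
    refine ⟨Finset.mem_univ _, ?_⟩
    rcases hx with rfl | ⟨i, -, rfl⟩
    · exact hz
    · have hyp : y ^ p = 1 := by
        have := pow_orderOf_eq_one y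
        rwa [hyo] at this
      rw [← pow_mul, mul_comm, pow_mul, hyp, one_pow]
  rw [Finset.card_insert_of_notMem, Finset.card_image_of_injective, Finset.card_univ, Fintype.card_fin] at h1
  · omega
  · intro i i' h
    have := pow_injOn_Iio_orderOf (x := y) (by rw [Set.mem_Iio, hyo]; exact i.2) (by rw [Set.mem_Iio, hyo]; exact i'.2) h
    exact Fin.ext this
  · intro h
    rw [Finset.mem_image] at h
    obtain ⟨i, -, h⟩ := h
    apply hc (p ^ (j - 1) * i)
    rw [pow_mul, ← hy, h]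

section

variable {p : ℕ} [hp : Fact p.Prime] {F : Type*} [Field F] {ι : Type*} [Fintype ι] [DecidableEq ι] {W W₀ : Type*}
  [AddCommGroup W] [Module F W] [AddCommGroup W₀] [Module F W₀]

/-- **`FullP` from a block and one isometry of `p`-power order.** -/
theorem dichZ [Nontrivial W] {b : W → W → F} (b₀ : W₀ → W₀ → F) {z : W ≃ₗ[F] W} (hzb : z ∈ Iso b) {a : ℕ} (ha : a ≠ 0)
    (hz : orderOf z = p ^ a)
    {g : (ZMod p → W) ≃ₗ[F] (ZMod p → W)} (hg : g ∈ Iso (fun u v : ZMod p → W => ∑ i, b (u i) (v i)))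
    (hgs : ∀ (w : ZMod p → W) (i : ZMod p), g (fun j => w (j - 1)) i = chz (z ^ p ^ (a - 1)) i (g w i))
    {T : W ≃ₗ[F] W} (hT : T ∈ Iso b) (t t' : ℤ) (hTt : T * z * T⁻¹ = z ^ t) (htt : z ^ (t * t') = z)
    (ht' : ¬ (p : ℤ) ∣ t' - 1) {G : Type*} [Group G] [Finite G] (K : Subgroup (Iso (sumForm (ι := ι) b b₀))) (e : G ≃* K)
    (hp2 : p ≠ 2)
    (hc : commutator (Iso (sumForm (ι := ι) b b₀)) ≤ K)
    (hpK : ∀ x : Iso (sumForm (ι := ι) b b₀), PEl p x → x ∈ K)
    (hK : ∀ (g : Iso (sumForm (ι := ι) b b₀)) (i : ι), ∃ y : W ≃ₗ[F] W, ∃ hy : ∀ j, (Pi.mulSingle i y : ι → (W ≃ₗ[F] W)) j ∈ Iso b,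
      (⟨dg (Pi.mulSingle i y), dg_mem hy⟩ : Iso (sumForm (ι := ι) b b₀)) * g ∈ K)
    (hord : (Nat.card G).factorization p ≤
      Fintype.card ι * a + (Fintype.card ι).factorial.factorization p) :
    DichN p (Fintype.card ι) G := by
  have hcz : Nat.card (Subgroup.zpowers z) = p ^ a := by rw [Nat.card_zpowers, hz]
  have hfin : Finite (Subgroup.zpowers z) := Nat.finite_of_card_ne_zero (by rw [hcz]; exact pow_ne_zero _ hp.out.ne_zero)
  have hμ : ∀ m : Subgroup.zpowers z, PEl p m := fun m =>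
    ⟨a, by rw [← hcz]; exact pow_card_eq_one'⟩
  have hnt : Nontrivial (Subgroup.zpowers z) := by
    rw [← Finite.one_lt_card_iff_nontrivial, hcz]
    exact Nat.one_lt_pow ha hp.out.one_lt
  have hcyc : IsCyclic (Subgroup.zpowers z) := inferInstance
  let _ : CommGroup (Subgroup.zpowers z) := IsCyclic.commGroup
  have hθ : ∀ m : Subgroup.zpowers z, (Subgroup.zpowers z).subtype m ∈ Iso b := fun m => by
    have : Subgroup.zpowers z ≤ Iso b := by rw [Subgroup.zpowers_le]; exact hzb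
    exact this m.2
  have hpow : ∀ (n : ℤ) (m : Subgroup.zpowers z), ((m ^ n : Subgroup.zpowers z) : W ≃ₗ[F] W) = (m : W ≃ₗ[F] W) ^ n :=
    fun n m => rfl
  refine blockDich (ι := ι) (μ := Subgroup.zpowers z) (b := b) (b₀ := b₀) (θ := (Subgroup.zpowers z).subtype) (hθ := hθ)
    (blockF (p := p) (μ := Subgroup.zpowers z) b₀ (Subgroup.zpowers z).subtype hθ
      (ζ := ⟨z ^ p ^ (a - 1), Subgroup.pow_mem _ (Subgroup.mem_zpowers z) _⟩) (Subtype.ext ?_) hg hgs hT t t' ?_ ?_ ?_)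
    (Subgroup.zpowers z).subtype_injective rfl rfl K e hμ (mem_pow_of_cyclic hμ) hp2 hc hpK hK ?_
  · show (z ^ p ^ (a - 1)) ^ p = 1
    rw [← pow_mul, ← pow_succ, Nat.sub_add_cancel (Nat.one_le_iff_ne_zero.2 ha), ← hz, pow_orderOf_eq_one]
  · rintro ⟨m, hm⟩
    obtain ⟨n, rfl⟩ := Subgroup.mem_zpowers_iff.1 hm
    show T * z ^ n * T⁻¹ = (z ^ n) ^ t
    rw [← conj_zpow, hTt, ← zpow_mul, ← zpow_mul, mul_comm]
  · rintro ⟨m, hm⟩
    obtain ⟨n, rfl⟩ := Subgroup.mem_zpowers_iff.1 hm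
    refine Subtype.ext ?_
    show (z ^ n) ^ (t * t') = z ^ n
    rw [← zpow_mul, mul_comm, zpow_mul, htt]
  · intro m
    exact exists_pow_inv (hμ m) ht'
  · rw [hcz, Nat.Prime.factorization_pow hp.out, Finsupp.single_eq_same]
    exact hord

end

end Cfsg.Agent.H749
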