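import Mathlib
import Cfsg.Agent.H749.BlockZ
import Cfsg.Agent.H749.MatIso

/-!
# `FullP` for groups of isometries of determinant one (helper749)

`det_dg` : the determinant of a block-diagonal map; `dichDet` : `dichZ` for the kernel of the determinant.
-/

set_option autoImplicit false
set_option linter.unusedSectionVars false

namespace Cfsg.Agent.H749

section

variable {p : ℕ} [hp : Fact p.Prime] {F : Type*} [Field F] {ι : Type*} [Fintype ι] [DecidableEq ι] {W W₀ : Type*}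
  [AddCommGroup W] [Module F W] [AddCommGroup W₀] [Module F W₀] [Module.Finite F W] [Module.Finite F W₀]

theorem det_dg (x : ι → (W ≃ₗ[F] W)) :
    LinearMap.det (dg x : ((ι → W) × W₀) ≃ₗ[F] ((ι → W) × W₀)).toLinearMap = ∏ i, LinearMap.det (x i).toLinearMap := by
  have h : (dg x : ((ι → W) × W₀) ≃ₗ[F] ((ι → W) × W₀)).toLinearMap =
      LinearMap.prodMap (LinearMap.pi fun i => (x i).toLinearMap ∘ₗ LinearMap.proj i) (LinearMap.id : W₀ →ₗ[F] W₀) := rfl
  rw [h, LinearMap.det_prodMap, LinearMap.det_pi, LinearMap.det_id, mul_one]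

theorem det_dg_single (i : ι) (y : W ≃ₗ[F] W) :
    LinearMap.det (dg (Pi.mulSingle i y) : ((ι → W) × W₀) ≃ₗ[F] ((ι → W) × W₀)).toLinearMap =
      LinearMap.det y.toLinearMap := by
  rw [det_dg, Finset.prod_eq_single i]
  · rw [Pi.mulSingle_eq_same]
  · intro j _ hj
    rw [Pi.mulSingle_eq_of_ne hj]
    exact LinearMap.det_id
  · intro h
    exact absurd (Finset.mem_univ i) h

/-- **`FullP` for the isometries of determinant one.** -/
theorem dichDet [Nontrivial W] {b : W → W → F} (b₀ : W₀ → W₀ → F) {z : W ≃ₗ[F] W} (hzb : z ∈ Iso b) {a : ℕ} (ha : a ≠ 0)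
    (hz : orderOf z = p ^ a)
    {g : (ZMod p → W) ≃ₗ[F] (ZMod p → W)} (hg : g ∈ Iso (fun u v : ZMod p → W => ∑ i, b (u i) (v i)))
    (hgs : ∀ (w : ZMod p → W) (i : ZMod p), g (fun j => w (j - 1)) i = chz (z ^ p ^ (a - 1)) i (g w i))
    {T : W ≃ₗ[F] W} (hT : T ∈ Iso b) (t t' : ℤ) (hTt : T * z * T⁻¹ = z ^ t) (htt : z ^ (t * t') = z)
    (ht' : ¬ (p : ℤ) ∣ t' - 1) {G : Type*} [Group G] [Finite G] (e : G ≃* detKer (sumForm (ι := ι) b b₀))
    (hp2 : p ≠ 2)
    (hpK : ∀ x ∈ Iso (sumForm (ι := ι) b b₀), PEl p x → LinearMap.det x.toLinearMap = 1)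
    (hK : ∀ g ∈ Iso (sumForm (ι := ι) b b₀), ∃ y ∈ Iso b,
      LinearMap.det y.toLinearMap * LinearMap.det g.toLinearMap = 1)
    (hord : (Nat.card G).factorization p ≤
      Fintype.card ι * a + (Fintype.card ι).factorial.factorization p) :
    DichN p (Fintype.card ι) G := by
  refine dichZ b₀ hzb ha hz hg hgs hT t t' hTt htt ht' (detKer (sumForm (ι := ι) b b₀)) e hp2
    (commutator_le_detKer _) (fun x hx => mem_detKer.2 (hpK x.1 x.2 (hx.map (Subgroup.subtype _)))) ?_ hord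
  intro g i
  obtain ⟨y, hy, h⟩ := hK g.1 g.2
  refine ⟨y, fun j => ?_, ?_⟩
  · by_cases hj : j = i
    · subst hj
      rw [Pi.mulSingle_eq_same]
      exact hy
    · rw [Pi.mulSingle_eq_of_ne hj]
      exact one_mem _
  · rw [mem_detKer]
    show LinearMap.det ((dg (Pi.mulSingle i y) : ((ι → W) × W₀) ≃ₗ[F] ((ι → W) × W₀)).toLinearMap ∘ₗ
      (g : ((ι → W) × W₀) ≃ₗ[F] ((ι → W) × W₀)).toLinearMap) = 1
    rw [LinearMap.det_comp, det_dg_single, h]

end

end Cfsg.Agent.H749
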