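import Mathlib
import Cfsg.Agent.H749.BlockDet
import Cfsg.Agent.H749.Val

/-!
# Field extensions as blocks (helper749)

* `exists_ext` : extensions of finite fields; `exists_order` : elements of order `p ^ a` in the multiplicative group;
* `mulE` : the multiplication by a unit; `frobE` : the Frobenius automorphism;
* `sum_chz_zero` : the sum of the powers of a fixed-point-free automorphism of order `p`.
-/

set_option autoImplicit false
set_option linter.unusedSectionVars false

namespace Cfsg.Agent.H749

/-- extensions of finite fields -/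
theorem exists_ext (F : Type*) [Field F] [Finite F] (n : ℕ) (hn : n ≠ 0) :
    ∃ (L : Type) (_ : Field L) (_ : Finite L) (_ : Algebra F L), Nat.card L = Nat.card F ^ n ∧
      Module.finrank F L = n := by
  have := NeZero.mk hn
  obtain ⟨p, hpc⟩ := CharP.exists F
  have hp : Fact p.Prime := ⟨CharP.char_is_prime F p⟩
  refine ⟨FiniteField.Extension F p n, inferInstance, inferInstance, inferInstance, FiniteField.natCard_extension F p n, ?_⟩
  have h1 := Module.natCard_eq_pow_finrank (K := F) (V := FiniteField.Extension F p n)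
  rw [FiniteField.natCard_extension F p n] at h1
  exact (Nat.pow_right_injective (Finite.one_lt_card (α := F)) h1).symm

/-- elements of given order in the multiplicative group of a finite field -/
theorem exists_order (L : Type*) [Field L] [Finite L] {m : ℕ} (hm : m ∣ Nat.card L - 1) : ∃ ζ : Lˣ, orderOf ζ = m := by
  have h1 : Nat.card Lˣ = Nat.card L - 1 := Nat.card_units L
  obtain ⟨g, hg⟩ := IsCyclic.exists_generator (α := Lˣ)
  have hgo : orderOf g = Nat.card Lˣ := orderOf_eq_card_of_forall_mem_zpowers hg
  obtain ⟨c, hc⟩ := hm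
  have hpos : 0 < Nat.card Lˣ := Nat.card_pos
  have hc0 : c ≠ 0 := by
    rintro rfl
    rw [← h1, mul_zero] at hc
    omega
  refine ⟨g ^ c, ?_⟩
  rw [orderOf_pow_of_dvd hc0 (by rw [hgo, h1, hc]; exact dvd_mul_left _ _), hgo, h1, hc, Nat.mul_div_cancel _ (Nat.pos_of_ne_zero hc0)]

section

variable (F : Type*) {L : Type*} [Field F] [Field L] [Algebra F L]

/-- the multiplication by a unit -/
def mulE : Lˣ →* (L ≃ₗ[F] L) := DistribMulAction.toModuleAut F L

theorem mulE_apply (u : Lˣ) (x : L) : mulE F u x = u * x := rfl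

theorem mulE_injective : Function.Injective (mulE F : Lˣ →* (L ≃ₗ[F] L)) := by
  intro u v h
  have h1 := LinearEquiv.congr_fun h 1
  rw [mulE_apply, mulE_apply, mul_one, mul_one] at h1
  exact Units.ext h1

theorem mulE_order (u : Lˣ) : orderOf (mulE F u) = orderOf u := orderOf_injective _ (mulE_injective F) u

variable (L) in
/-- the Frobenius automorphism -/
noncomputable def frobE [Finite F] [Finite L] : L ≃ₗ[F] L :=
  haveI := Fintype.ofFinite F
  haveI : Algebra.IsAlgebraic F L := Algebra.IsAlgebraic.of_finite F L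
  (FiniteField.frobeniusAlgEquivOfAlgebraic F L).toLinearEquiv

theorem frobE_apply [Finite F] [Finite L] (x : L) : frobE F L x = x ^ Nat.card F := by
  rw [@Nat.card_eq_fintype_card F (Fintype.ofFinite F)]
  rfl

theorem frobE_conj [Finite F] [Finite L] (u : Lˣ) : frobE F L * mulE F u * (frobE F L)⁻¹ = mulE F u ^ (Nat.card F : ℤ) := by
  rw [mul_inv_eq_iff_eq_mul, zpow_natCast, ← map_pow]
  refine LinearEquiv.ext fun x => ?_
  show frobE F L (mulE F u x) = mulE F (u ^ Nat.card F) (frobE F L x)
  rw [mulE_apply, mulE_apply, frobE_apply, frobE_apply, mul_pow, Units.val_pow_eq_pow_val]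

end

section

variable {F : Type*} [Field F] {W : Type*} [AddCommGroup W] [Module F W] {p : ℕ} [hp : Fact p.Prime]

/-- the sum of the powers of a fixed-point-free automorphism of order `p` -/
theorem sum_chz_zero {z : W ≃ₗ[F] W} (hz : z ^ p = 1) (h : ∀ w, z w = w → w = 0) (w : W) :
    ∑ i : ZMod p, chz z i w = 0 := by
  apply h
  rw [map_sum, ← Equiv.sum_comp (Equiv.addRight (1 : ZMod p)) (fun i => chz z i w)]
  refine Finset.sum_congr rfl fun i _ => ?_
  show z (chz z i w) = chz z (i + 1) w
  rw [add_comm, chz_add hz, chz_one]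
  rfl

/-- the element of order `p` -/
theorem pow_order_p {G : Type*} [Group G] {z : G} {a : ℕ} (ha : a ≠ 0) (hz : orderOf z = p ^ a) :
    (z ^ p ^ (a - 1)) ^ p = 1 := by
  rw [← pow_mul, ← pow_succ, Nat.sub_add_cancel (Nat.one_le_iff_ne_zero.2 ha), ← hz, pow_orderOf_eq_one]

theorem pow_order_ne {G : Type*} [Group G] {z : G} {a : ℕ} (ha : a ≠ 0) (hz : orderOf z = p ^ a) :
    z ^ p ^ (a - 1) ≠ 1 := by
  intro h
  have h1 := orderOf_dvd_of_pow_eq_one h
  rw [hz, Nat.pow_dvd_pow_iff_le_right hp.out.one_lt] at h1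
  omega

end

end Cfsg.Agent.H749
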