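import Mathlib
import Cfsg.Agent.H749.BlockDet
import Cfsg.Agent.ClassicalGeometry.HermOrthonormal
import Cfsg.Agent.ClassicalGeometry.GUBasic

/-!
# Hermitian forms over finite fields and `FullP` for special unitary groups from a block (helper749)

* `HermF σ b` : `b` is a nondegenerate hermitian form; `HermF.exists_iso` : it is isometric to `hermForm n F q`;
* `dichU` : `DichN p k (SU n F q)` from a hermitian block.
-/

set_option autoImplicit false
set_option linter.unusedSectionVars false

namespace Cfsg.Agent.H749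

open Cfsg.Agent.ClassicalGeometry

/-- a nondegenerate hermitian form, linear in the first variable -/
structure HermF {F W : Type*} [Field F] [AddCommGroup W] [Module F W] (σ : F →+* F) (b : W → W → F) : Prop where
  add : ∀ u u' v, b (u + u') v = b u v + b u' v
  smul : ∀ (c : F) u v, b (c • u) v = c * b u v
  symm : ∀ u v, b v u = σ (b u v)
  nd : ∀ u, (∀ v, b u v = 0) → u = 0

section

variable {F W : Type*} [Field F] [AddCommGroup W] [Module F W] {σ : F →+* F} {b : W → W → F}

/-- the sesquilinear map -/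
noncomputable def HermF.toMap (h : HermF σ b) : W →ₛₗ[σ] W →ₗ[F] F :=
  LinearMap.mk₂'ₛₗ σ (RingHom.id F) (fun u v => b v u)
    (fun u u' v => by rw [h.symm, h.add, map_add, ← h.symm, ← h.symm])
    (fun c u v => by rw [h.symm, h.smul, map_mul, ← h.symm, smul_eq_mul])
    (fun u v v' => h.add v v' u)
    (fun c u v => by rw [h.smul, smul_eq_mul]; rfl)

theorem HermF.toMap_apply (h : HermF σ b) (u v : W) : h.toMap u v = b v u := rfl

variable [Finite F] [FiniteDimensional F W] (hσ : σ ≠ RingHom.id F) (hσ2 : ∀ a : F, σ (σ a) = a)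

include hσ hσ2

theorem HermF.exists_iso {q : ℕ} (hq : ∀ x, σ x = x ^ q) (h : HermF σ b) {n : ℕ} (hn : Module.finrank F W = n) :
    ∃ j : (Fin n → F) ≃ₗ[F] W, ∀ x y, b (j x) (j y) = hermForm n F q x y := by
  obtain ⟨B, hB⟩ := HermOrthonormal.exists_orthonormal_basis hσ hσ2 h.toMap ⟨fun u v => by
    rw [h.toMap_apply, h.toMap_apply, h.symm, hσ2]⟩ (fun u hu => h.nd u fun v => by
      rw [h.symm]
      have h1 := hu v
      rw [h.toMap_apply] at h1
      rw [h1, map_zero])
  subst hn
  refine ⟨B.equivFun.symm, fun x y => ?_⟩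
  rw [← h.toMap_apply, Module.Basis.equivFun_symm_apply, Module.Basis.equivFun_symm_apply, map_sum,
    GUBasic.hermForm_apply]
  refine Finset.sum_congr rfl fun i _ => ?_
  rw [map_smul, map_sum, LinearMap.sum_apply, Finset.sum_eq_single i]
  · rw [LinearMap.map_smulₛₗ, LinearMap.smul_apply, hB, if_pos rfl, hq]
    simp only [smul_eq_mul, mul_one]
  · intro k _ hk
    rw [LinearMap.map_smulₛₗ, LinearMap.smul_apply, hB, if_neg hk]
    simp
  · intro hi
    exact absurd (Finset.mem_univ i) hi

end

section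

variable {F : Type*} [Field F] {ι : Type*} [Fintype ι] [DecidableEq ι] {W W₀ : Type*} [AddCommGroup W] [Module F W]
  [AddCommGroup W₀] [Module F W₀] {σ : F →+* F} {b : W → W → F} {b₀ : W₀ → W₀ → F}

theorem HermF.zero_left (h : HermF σ b) (v : W) : b 0 v = 0 := by
  have := h.smul 0 0 v
  rwa [zero_smul, zero_mul] at this

theorem HermF.zero_right (h : HermF σ b) (v : W) : b v 0 = 0 := by
  rw [h.symm, h.zero_left, map_zero]

theorem HermF.sum (h : HermF σ b) (h₀ : HermF σ b₀) : HermF σ (sumForm (ι := ι) b b₀) where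
  add u u' v := by
    unfold sumForm
    simp only [Prod.fst_add, Prod.snd_add, Pi.add_apply, h.add, h₀.add, Finset.sum_add_distrib]
    ring
  smul c u v := by
    unfold sumForm
    simp only [Prod.smul_fst, Prod.smul_snd, Pi.smul_apply, h.smul, h₀.smul, ← Finset.mul_sum]
    ring
  symm u v := by
    unfold sumForm
    rw [map_add, map_sum, ← h₀.symm]
    congr 1
    exact Finset.sum_congr rfl fun i _ => h.symm _ _
  nd u hu := by
    refine Prod.ext (funext fun i => h.nd _ fun w => ?_) (h₀.nd _ fun w => ?_)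
    · have h1 := hu (Pi.single i w, 0)
      unfold sumForm at h1
      rw [Finset.sum_eq_single i] at h1
      · simp only [Pi.single_eq_same, h₀.zero_right, add_zero] at h1
        exact h1
      · intro j _ hj
        simp only [Pi.single_eq_of_ne hj, h.zero_right]
      · intro h2
        exact absurd (Finset.mem_univ i) h2
    · have h1 := hu (0, w)
      unfold sumForm at h1
      simp only [Pi.zero_apply, h.zero_right, Finset.sum_const_zero, zero_add] at h1
      exact h1

end

section

variable {F : Type*} [Field F] [Fintype F] {q : ℕ} (hF : Fintype.card F = q ^ 2) {σ : F →+* F} (hσ : ∀ x, σ x = x ^ q)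

include hF hσ

theorem sigma_sigma (a : F) : σ (σ a) = a := by
  rw [hσ, hσ, ← pow_mul, ← pow_two, ← hF, FiniteField.pow_card]

theorem sigma_ne : σ ≠ RingHom.id F := by
  classical
  intro h
  have hq := GUBasic.two_le hF
  have h1 : ∀ x : F, x ^ q = x := fun x => by rw [← hσ, h]; rfl
  have h2 : (Finset.univ : Finset F) ⊆ (Polynomial.X ^ q - Polynomial.X : Polynomial F).roots.toFinset := by
    intro x _
    rw [Multiset.mem_toFinset, Polynomial.mem_roots (FiniteField.X_pow_card_sub_X_ne_zero F (by omega)), Polynomial.IsRoot,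
      Polynomial.eval_sub, Polynomial.eval_pow, Polynomial.eval_X, h1, sub_self]
  have h3 := (Finset.card_le_card h2).trans ((Multiset.toFinset_card_le _).trans (Polynomial.card_roots' _))
  rw [Finset.card_univ, hF, FiniteField.X_pow_card_sub_X_natDegree_eq F (by omega)] at h3
  nlinarith

theorem hermForm_hermF (n : ℕ) : HermF σ (hermForm n F q) where
  add u u' v := by
    simp only [GUBasic.hermForm_apply, Pi.add_apply, add_mul, Finset.sum_add_distrib]
  smul c u v := by
    simp only [GUBasic.hermForm_apply, Pi.smul_apply, smul_eq_mul, Finset.mul_sum, mul_assoc]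
  symm u v := by
    rw [GUBasic.hermForm_apply, GUBasic.hermForm_apply, map_sum]
    refine Finset.sum_congr rfl fun i _ => ?_
    rw [map_mul, ← hσ (v i), sigma_sigma hF hσ, hσ]
    ring
  nd u hu := by
    have hq := GUBasic.two_le hF
    funext i
    have h := hu (Pi.single i 1)
    rw [GUBasic.hermForm_apply, Finset.sum_eq_single i] at h
    · simpa using h
    · intro j _ hj
      rw [Pi.single_eq_of_ne hj, zero_pow (by omega), mul_zero]
    · intro h2
      exact absurd (Finset.mem_univ i) h2

end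

section

variable {p : ℕ} [hp : Fact p.Prime] {F : Type*} [Field F] [Fintype F] {q : ℕ} (hF : Fintype.card F = q ^ 2) {σ : F →+* F}
  (hσ : ∀ x, σ x = x ^ q)

include hF hσ

/-- the determinant of an isometry -/
theorem det_iso_pow {V : Type*} [AddCommGroup V] [Module F V] [FiniteDimensional F V] {f : V → V → F} (h : HermF σ f)
    {g : V ≃ₗ[F] V} (hg : g ∈ Iso f) : LinearMap.det g.toLinearMap ^ (q + 1) = 1 := by
  obtain ⟨j, hj⟩ := h.exists_iso (sigma_ne hF hσ) (sigma_sigma hF hσ) hσ rfl
  obtain ⟨A, rfl⟩ := glHom_surjective j g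
  rw [det_glHom]
  have hS : SimF j (hermForm _ F q) f 1 := ⟨one_ne_zero, fun x y => by rw [one_mul]; exact hj x y⟩
  exact GUBasic.det_pow hF fun u v => (mem_iff hS A).1 hg u v

/-- isometries of given determinant -/
theorem exists_iso_det {W : Type*} [AddCommGroup W] [Module F W] [FiniteDimensional F W] [Nontrivial W] {b : W → W → F}
    (h : HermF σ b) {c : F} (hc : c ^ (q + 1) = 1) : ∃ y ∈ Iso b, LinearMap.det y.toLinearMap = c := by
  obtain ⟨n, hn⟩ : ∃ n, Module.finrank F W = n + 1 :=
    Nat.exists_eq_succ_of_ne_zero (Module.finrank_pos (R := F) (M := W)).ne'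
  obtain ⟨j, hj⟩ := h.exists_iso (sigma_ne hF hσ) (sigma_sigma hF hσ) hσ hn
  have hS : SimF j (hermForm _ F q) b 1 := ⟨one_ne_zero, fun x y => by rw [one_mul]; exact hj x y⟩
  have ha : ∀ i, (Function.update (1 : Fin (n + 1) → F) 0 c) i ^ (q + 1) = 1 := by
    intro i
    by_cases hi : i = 0
    · subst hi
      rw [Function.update_self, hc]
    · rw [Function.update_of_ne hi, Pi.one_apply, one_pow]
  refine ⟨glHom j (GUBasic.guDiag q _ ha).1, (mem_iff hS _).2 (GUBasic.guDiag q _ ha).2, ?_⟩
  rw [det_glHom, GUBasic.coe_guDiag, Matrix.det_diagonal, Finset.prod_update_of_mem (Finset.mem_univ _)]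
  simp

/-- **`FullP` (or abelian Sylow subgroups) for the special unitary group from a hermitian block.** -/
theorem dichU {ι W : Type*} [Fintype ι] [DecidableEq ι] [AddCommGroup W] [Module F W] [FiniteDimensional F W]
    [Nontrivial W] {b : W → W → F} (hb : HermF σ b) {z : W ≃ₗ[F] W} (hzb : z ∈ Iso b) {a : ℕ} (ha : a ≠ 0)
    (hz : orderOf z = p ^ a)
    {g : (ZMod p → W) ≃ₗ[F] (ZMod p → W)} (hg : g ∈ Iso (fun u v : ZMod p → W => ∑ i, b (u i) (v i)))
    (hgs : ∀ (w : ZMod p → W) (i : ZMod p), g (fun j => w (j - 1)) i = chz (z ^ p ^ (a - 1)) i (g w i))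
    {T : W ≃ₗ[F] W} (hT : T ∈ Iso b) (t t' : ℤ) (hTt : T * z * T⁻¹ = z ^ t) (htt : z ^ (t * t') = z)
    (ht' : ¬ (p : ℤ) ∣ t' - 1) (hp2 : p ≠ 2) (hpq : ¬ p ∣ q + 1) {n : ℕ}
    (hn : Fintype.card ι * Module.finrank F W ≤ n)
    (hord : (Nat.card (SU n F q)).factorization p ≤ Fintype.card ι * a + (Fintype.card ι).factorial.factorization p) :
    DichN p (Fintype.card ι) (SU n F q) := by
  obtain ⟨r, hr⟩ := Nat.exists_eq_add_of_le hn
  have hH : HermF σ (sumForm (ι := ι) b (hermForm r F q)) := hb.sum (hermForm_hermF hF hσ r)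
  have hrank : Module.finrank F ((ι → W) × (Fin r → F)) = n := by
    rw [Module.finrank_prod, Module.finrank_pi_fintype, Module.finrank_fin_fun, hr]
    simp
  obtain ⟨j, hj⟩ := hH.exists_iso (sigma_ne hF hσ) (sigma_sigma hF hσ) hσ hrank
  have hS : SimF j (hermForm n F q) (sumForm (ι := ι) b (hermForm r F q)) 1 :=
    ⟨one_ne_zero, fun x y => by rw [one_mul]; exact hj x y⟩
  refine dichDet (ι := ι) (b := b) (hermForm r F q) hzb ha hz hg hgs hT t t' hTt htt ht' (slEquiv hS) hp2 ?_ ?_ hord
  · intro x hx hxp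
    have h1 := det_iso_pow hF hσ hH hx
    have h2 : PEl p (LinearEquiv.det (R := F) (M := (ι → W) × (Fin r → F)) x) := hxp.map _
    obtain ⟨k, hk⟩ := h2
    have h3 : (LinearEquiv.det (R := F) (M := (ι → W) × (Fin r → F)) x) ^ (q + 1) = 1 := by
      apply Units.ext
      rw [Units.val_pow_eq_pow_val, LinearEquiv.coe_det, h1, Units.val_one]
    have h4 : orderOf (LinearEquiv.det (R := F) (M := (ι → W) × (Fin r → F)) x) ∣ Nat.gcd (p ^ k) (q + 1) :=
      Nat.dvd_gcd (orderOf_dvd_of_pow_eq_one hk) (orderOf_dvd_of_pow_eq_one h3)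
    have h5 : Nat.gcd (p ^ k) (q + 1) = 1 := Nat.Coprime.pow_left k ((Nat.Prime.coprime_iff_not_dvd hp.out).2 hpq)
    rw [h5, Nat.dvd_one, orderOf_eq_one_iff] at h4
    have h6 := congrArg Units.val h4
    rwa [LinearEquiv.coe_det, Units.val_one] at h6
  · intro g hg
    have h1 := det_iso_pow hF hσ hH hg
    have hd : LinearMap.det g.toLinearMap ≠ 0 := by
      rw [← LinearEquiv.coe_det]
      exact Units.ne_zero _
    obtain ⟨y, hy, hyd⟩ := exists_iso_det hF hσ hb (c := (LinearMap.det g.toLinearMap)⁻¹) (by rw [inv_pow, h1, inv_one])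
    exact ⟨y, hy, by rw [hyd, inv_mul_cancel₀ hd]⟩

end

end Cfsg.Agent.H749
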