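import Mathlib
import Cfsg.Agent.H749.FieldExt

/-!
# The plane `L × L` with an isometry of order `p ^ a` (helper749)

`τ = ζ + ζ⁻¹ ∈ L`, `ζ` in an extension of `L`. `zL τ` : the companion matrix of `X² - τ X + 1`; `lamL τ α β` : `α + β z`;
`nQ τ (x, y) = x² + τ x y + y²`; `sB` : the determinant form.
-/

set_option autoImplicit false
set_option linter.unusedSectionVars false

namespace Cfsg.Agent.H749

section plane

variable {L : Type*} [Field L] (τ : L)

/-- the map `α + β z` -/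
def lamL (α β : L) : (L × L) →ₗ[L] (L × L) where
  toFun w := (α * w.1 - β * w.2, β * w.1 + (α + β * τ) * w.2)
  map_add' u v := by
    refine Prod.ext ?_ ?_
    · show α * (u.1 + v.1) - β * (u.2 + v.2) = (α * u.1 - β * u.2) + (α * v.1 - β * v.2)
      ring
    · show β * (u.1 + v.1) + (α + β * τ) * (u.2 + v.2) = (β * u.1 + (α + β * τ) * u.2) + (β * v.1 + (α + β * τ) * v.2)
      ring
  map_smul' c u := by
    refine Prod.ext ?_ ?_
    · show α * (c * u.1) - β * (c * u.2) = c * (α * u.1 - β * u.2)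
      ring
    · show β * (c * u.1) + (α + β * τ) * (c * u.2) = c * (β * u.1 + (α + β * τ) * u.2)
      ring

theorem lamL_fst (α β : L) (w : L × L) : (lamL τ α β w).1 = α * w.1 - β * w.2 := rfl

theorem lamL_snd (α β : L) (w : L × L) : (lamL τ α β w).2 = β * w.1 + (α + β * τ) * w.2 := rfl

/-- the norm -/
def nrmL (α β : L) : L := α ^ 2 + α * β * τ + β ^ 2

theorem lamL_comm (α β α' β' : L) (w : L × L) : lamL τ α β (lamL τ α' β' w) = lamL τ α' β' (lamL τ α β w) := by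
  refine Prod.ext ?_ ?_
  · simp only [lamL_fst, lamL_snd]; ring
  · simp only [lamL_fst, lamL_snd]; ring

/-- the adjoint -/
theorem lamL_adj (α β : L) (w : L × L) : lamL τ (α + β * τ) (-β) (lamL τ α β w) = nrmL τ α β • w := by
  refine Prod.ext ?_ ?_
  · rw [lamL_fst, lamL_fst, lamL_snd, Prod.smul_fst, smul_eq_mul, nrmL]; ring
  · rw [lamL_snd, lamL_fst, lamL_snd, Prod.smul_snd, smul_eq_mul, nrmL]; ring

/-- the companion matrix of `X² - τ X + 1` -/
def zL : (L × L) ≃ₗ[L] (L × L) where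
  toLinearMap := lamL τ 0 1
  invFun w := (τ * w.1 + w.2, -w.1)
  left_inv w := by
    refine Prod.ext ?_ ?_
    · show τ * (lamL τ 0 1 w).1 + (lamL τ 0 1 w).2 = w.1
      rw [lamL_fst, lamL_snd]; ring
    · show -(lamL τ 0 1 w).1 = w.2
      rw [lamL_fst]; ring
  right_inv w := by
    refine Prod.ext ?_ ?_
    · show (lamL τ 0 1 (τ * w.1 + w.2, -w.1)).1 = w.1
      rw [lamL_fst]; ring
    · show (lamL τ 0 1 (τ * w.1 + w.2, -w.1)).2 = w.2
      rw [lamL_snd]; ring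

theorem zL_apply (w : L × L) : zL τ w = lamL τ 0 1 w := rfl

theorem zL_inv_apply (w : L × L) : (zL τ)⁻¹ w = (τ * w.1 + w.2, -w.1) := rfl

/-- the swap -/
def swL : (L × L) ≃ₗ[L] (L × L) := LinearEquiv.prodComm L L L

theorem swL_apply (w : L × L) : (swL : (L × L) ≃ₗ[L] (L × L)) w = (w.2, w.1) := rfl

theorem swL_conj (w : L × L) : (swL : (L × L) ≃ₗ[L] (L × L)) (zL τ w) = (zL τ)⁻¹ (swL w) := by
  rw [swL_apply, swL_apply, zL_inv_apply, zL_apply, lamL_fst, lamL_snd]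
  refine Prod.ext ?_ ?_
  · show 1 * w.1 + (0 + 1 * τ) * w.2 = τ * w.2 + w.1
    ring
  · show 0 * w.1 - 1 * w.2 = -w.2
    ring

/-- the quadratic form -/
def nQ (w : L × L) : L := w.1 ^ 2 + τ * w.1 * w.2 + w.2 ^ 2

theorem nQ_lamL (α β : L) (w : L × L) : nQ τ (lamL τ α β w) = nrmL τ α β * nQ τ w := by
  rw [nQ, lamL_fst, lamL_snd, nrmL, nQ]; ring

theorem nQ_zL (w : L × L) : nQ τ (zL τ w) = nQ τ w := by
  rw [zL_apply, nQ_lamL, nrmL]; ring

theorem nQ_swL (w : L × L) : nQ τ (swL w) = nQ τ w := by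
  rw [swL_apply, nQ, nQ]; ring

/-- the symplectic form -/
def sB (u v : L × L) : L := u.1 * v.2 - u.2 * v.1

theorem sB_lamL (α β : L) (u v : L × L) : sB (lamL τ α β u) (lamL τ α β v) = nrmL τ α β * sB u v := by
  rw [sB, lamL_fst, lamL_snd, lamL_fst, lamL_snd, nrmL, sB]; ring

theorem sB_zL (u v : L × L) : sB (zL τ u) (zL τ v) = sB u v := by
  rw [zL_apply, zL_apply, sB_lamL, nrmL]; ring

theorem sB_swL (u v : L × L) : sB (swL u) (swL v) = -sB u v := by
  rw [swL_apply, swL_apply, sB, sB]; ring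

end plane

section ext

variable {L L' : Type*} [Field L] [Field L'] [Algebra L L'] {τ : L} {ζ : L'ˣ}

/-- the eigenfunctional -/
def phi (ζ : L'ˣ) (w : L × L) : L' := algebraMap L L' w.1 + ζ * algebraMap L L' w.2

theorem phi_zL (hτ : algebraMap L L' τ = (ζ : L') + ((ζ⁻¹ : L'ˣ) : L')) (w : L × L) : phi ζ (zL τ w) = ζ * phi ζ w := by
  have h1 : (ζ : L') * ((ζ⁻¹ : L'ˣ) : L') = 1 := Units.mul_inv ζ
  unfold phi
  rw [zL_apply, lamL_fst, lamL_snd]
  simp only [map_add, map_sub, map_mul, map_zero, map_one, hτ]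
  linear_combination (algebraMap L L' w.2) * h1

theorem phi_zL' (hτ : algebraMap L L' τ = (ζ : L') + ((ζ⁻¹ : L'ˣ) : L')) (w : L × L) :
    phi ζ⁻¹ (zL τ w) = ((ζ⁻¹ : L'ˣ) : L') * phi ζ⁻¹ w :=
  phi_zL (by rw [inv_inv, add_comm]; exact hτ) w

theorem phi_pow (hτ : algebraMap L L' τ = (ζ : L') + ((ζ⁻¹ : L'ˣ) : L')) (n : ℕ) (w : L × L) :
    phi ζ ((zL τ ^ n) w) = ((ζ ^ n : L'ˣ) : L') * phi ζ w := by
  induction n generalizing w with
  | zero => rw [pow_zero, pow_zero, Units.val_one, one_mul]; rfl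
  | succ n ih =>
    rw [pow_succ, LinearEquiv.mul_apply, ih, phi_zL hτ, pow_succ, Units.val_mul, mul_assoc]

theorem phi_pow' (hτ : algebraMap L L' τ = (ζ : L') + ((ζ⁻¹ : L'ˣ) : L')) (n : ℕ) (w : L × L) :
    phi ζ⁻¹ ((zL τ ^ n) w) = ((ζ⁻¹ ^ n : L'ˣ) : L') * phi ζ⁻¹ w :=
  phi_pow (by rw [inv_inv, add_comm]; exact hτ) n w

theorem eq_zero_of_phi (hζ : ζ ^ 2 ≠ 1) {w : L × L} (h1 : phi ζ w = 0) (h2 : phi ζ⁻¹ w = 0) : w = 0 := by
  have h3 : ((ζ : L') - ((ζ⁻¹ : L'ˣ) : L')) * algebraMap L L' w.2 = 0 := by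
    unfold phi at h1 h2
    linear_combination h1 - h2
  have h4 : (ζ : L') - ((ζ⁻¹ : L'ˣ) : L') ≠ 0 := by
    intro h
    apply hζ
    have h5 : ζ = ζ⁻¹ := Units.ext (sub_eq_zero.1 h)
    rw [pow_two]
    nth_rewrite 2 [h5]
    rw [mul_inv_cancel]
  have h5 : w.2 = 0 := (map_eq_zero _).1 ((mul_eq_zero.1 h3).resolve_left h4)
  have h6 : w.1 = 0 := by
    unfold phi at h1
    rw [h5, map_zero, mul_zero, add_zero] at h1
    exact (map_eq_zero _).1 h1
  exact Prod.ext h6 h5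

theorem eq_of_phi (hζ : ζ ^ 2 ≠ 1) {w w' : L × L} (h1 : phi ζ w = phi ζ w') (h2 : phi ζ⁻¹ w = phi ζ⁻¹ w') : w = w' := by
  have key : ∀ η : L'ˣ, phi η (w - w') = phi η w - phi η w' := by
    intro η
    unfold phi
    rw [Prod.fst_sub, Prod.snd_sub, map_sub, map_sub]
    ring
  exact sub_eq_zero.1 (eq_zero_of_phi hζ (by rw [key, h1, sub_self]) (by rw [key, h2, sub_self]))

theorem zL_pow_eq_one_iff (hτ : algebraMap L L' τ = (ζ : L') + ((ζ⁻¹ : L'ˣ) : L')) (hζ : ζ ^ 2 ≠ 1) (n : ℕ) :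
    zL τ ^ n = 1 ↔ ζ ^ n = 1 := by
  constructor
  · intro h
    have h1 := phi_pow hτ n (1, 0)
    rw [h] at h1
    have h2 : phi ζ ((1 : L), (0 : L)) = 1 := by
      unfold phi
      simp
    have h3 : phi ζ ((1 : (L × L) ≃ₗ[L] (L × L)) ((1 : L), (0 : L))) = 1 := h2
    rw [h3, h2, mul_one] at h1
    exact Units.ext h1.symm
  · intro h
    refine LinearEquiv.ext fun w => eq_of_phi hζ ?_ ?_
    · rw [phi_pow hτ, h, Units.val_one, one_mul]; rfl
    · rw [phi_pow' hτ, inv_pow, h, inv_one, Units.val_one, one_mul]; rfl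

theorem orderOf_zL (hτ : algebraMap L L' τ = (ζ : L') + ((ζ⁻¹ : L'ˣ) : L')) (hζ : ζ ^ 2 ≠ 1) :
    orderOf (zL τ) = orderOf ζ :=
  orderOf_eq_orderOf_iff.2 (zL_pow_eq_one_iff hτ hζ)

/-- powers of `z` different from one have no fixed points -/
theorem zL_fix (hτ : algebraMap L L' τ = (ζ : L') + ((ζ⁻¹ : L'ˣ) : L')) (hζ : ζ ^ 2 ≠ 1) {n : ℕ} (hn : zL τ ^ n ≠ 1)
    {w : L × L} (hw : (zL τ ^ n) w = w) : w = 0 := by
  have h0 : ζ ^ n ≠ 1 := fun h => hn ((zL_pow_eq_one_iff hτ hζ n).2 h)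
  have key : ∀ (η : L'ˣ) (c : L'), c = η * c → η ≠ 1 → c = 0 := by
    intro η c h1 h2
    by_contra hc
    apply h2
    apply Units.ext
    rw [Units.val_one]
    exact mul_right_cancel₀ hc (by rw [one_mul, ← h1])
  refine eq_zero_of_phi hζ ?_ ?_
  · have h1 := phi_pow hτ n w
    rw [hw] at h1
    exact key _ _ h1 h0
  · have h1 := phi_pow' hτ n w
    rw [hw] at h1
    refine key _ _ h1 ?_
    rw [inv_pow]
    intro h
    exact h0 (inv_eq_one.1 h)

end ext

section exist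

variable {L : Type*} [Field L] [Finite L]

/-- the elements fixed by the Frobenius map of `L` are in `L` -/
theorem mem_of_pow_card {L' : Type*} [Field L'] [Finite L'] [Algebra L L'] {x : L'} (hx : x ^ Nat.card L = x) :
    ∃ y : L, algebraMap L L' y = x := by
  classical
  have := Fintype.ofFinite L
  have := Fintype.ofFinite L'
  have hq : 1 < Nat.card L := Finite.one_lt_card
  let P : Polynomial L' := Polynomial.X ^ (Nat.card L) - Polynomial.X
  have hP : P ≠ 0 := FiniteField.X_pow_card_sub_X_ne_zero L' hq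
  have hdeg : P.natDegree = Nat.card L := FiniteField.X_pow_card_sub_X_natDegree_eq L' hq
  have hroot : ∀ y : L', y ∈ P.roots.toFinset ↔ y ^ Nat.card L = y := by
    intro y
    rw [Multiset.mem_toFinset, Polynomial.mem_roots hP, Polynomial.IsRoot, Polynomial.eval_sub, Polynomial.eval_pow,
      Polynomial.eval_X, sub_eq_zero]
  have himg : (Finset.univ.image (algebraMap L L')) ⊆ P.roots.toFinset := by
    intro y hy
    obtain ⟨c, -, rfl⟩ := Finset.mem_image.1 hy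
    rw [hroot, ← map_pow, Nat.card_eq_fintype_card, FiniteField.pow_card]
  have hcard : P.roots.toFinset.card ≤ (Finset.univ.image (algebraMap L L')).card := by
    rw [Finset.card_image_of_injective _ (algebraMap L L').injective, Finset.card_univ, ← Nat.card_eq_fintype_card, ← hdeg]
    exact (Multiset.toFinset_card_le _).trans (Polynomial.card_roots' P)
  have heq := Finset.eq_of_subset_of_card_le himg hcard
  have hxm : x ∈ Finset.univ.image (algebraMap L L') := by rw [heq, hroot]; exact hx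
  obtain ⟨y, -, hy⟩ := Finset.mem_image.1 hxm
  exact ⟨y, hy⟩

/-- the element `τ` -/
theorem exists_tau {p : ℕ} [hp : Fact p.Prime] (hp2 : p ≠ 2) {a : ℕ} (ha : a ≠ 0) (hdvd : p ^ a ∣ Nat.card L ^ 2 - 1) :
    ∃ (L' : Type) (_ : Field L') (_ : Finite L') (_ : Algebra L L') (ζ : L'ˣ) (τ : L),
      algebraMap L L' τ = (ζ : L') + ((ζ⁻¹ : L'ˣ) : L') ∧ orderOf ζ = p ^ a ∧ ζ ^ 2 ≠ 1 := by
  obtain ⟨L', _, _, _, hL', -⟩ := exists_ext L 2 two_ne_zero
  rw [← hL'] at hdvd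
  obtain ⟨ζ, hζ⟩ := exists_order L' hdvd
  have hζ2 : ζ ^ 2 ≠ 1 := by
    intro h
    have h1 := orderOf_dvd_of_pow_eq_one h
    rw [hζ] at h1
    have h2 : p ∣ 2 := (dvd_pow_self p ha).trans h1
    exact hp2 ((Nat.prime_dvd_prime_iff_eq hp.out Nat.prime_two).1 h2)
  -- `ζ ^ Q = ζ` or `ζ⁻¹`
  obtain ⟨Q, hQ⟩ : ∃ Q, Q = Nat.card L := ⟨_, rfl⟩
  have hQ1 : 1 < Q := by rw [hQ]; exact Finite.one_lt_card
  have hmul : p ^ a ∣ (Q - 1) * (Q + 1) := by
    rw [hL', ← hQ] at hdvd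
    have e := Nat.sq_sub_sq Q 1
    rw [one_pow] at e
    rwa [mul_comm, ← e]
  have hor : p ^ a ∣ Q - 1 ∨ p ^ a ∣ Q + 1 := by
    by_cases h1 : p ∣ Q - 1
    · left
      have h2 : ¬ p ∣ Q + 1 := by
        intro h2
        have h3 : p ∣ (Q + 1) - (Q - 1) := Nat.dvd_sub h2 h1
        rw [show (Q + 1) - (Q - 1) = 2 by omega] at h3
        exact hp2 ((Nat.prime_dvd_prime_iff_eq hp.out Nat.prime_two).1 h3)
      exact (Nat.Coprime.pow_left a ((Nat.Prime.coprime_iff_not_dvd hp.out).2 h2)).dvd_of_dvd_mul_right hmul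
    · right
      exact (Nat.Coprime.pow_left a ((Nat.Prime.coprime_iff_not_dvd hp.out).2 h1)).dvd_of_dvd_mul_left hmul
  have hfr : ζ ^ Q = ζ ∨ ζ ^ Q = ζ⁻¹ := by
    rcases hor with h | h
    · left
      have h1 : ζ ^ (Q - 1) = 1 := orderOf_dvd_iff_pow_eq_one.1 (hζ ▸ h)
      calc ζ ^ Q = ζ ^ (Q - 1 + 1) := by congr 1; omega
        _ = ζ := by rw [pow_succ, h1, one_mul]
    · right
      have h1 : ζ ^ (Q + 1) = 1 := orderOf_dvd_iff_pow_eq_one.1 (hζ ▸ h)
      rw [pow_succ] at h1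
      exact eq_inv_of_mul_eq_one_left h1
  have hfix : ((ζ : L') + ((ζ⁻¹ : L'ˣ) : L')) ^ Nat.card L = (ζ : L') + ((ζ⁻¹ : L'ˣ) : L') := by
    have hadd : ∀ x y : L', (x + y) ^ Nat.card L = x ^ Nat.card L + y ^ Nat.card L := by
      intro x y
      have h1 := map_add (frobE L L') x y
      rwa [frobE_apply, frobE_apply, frobE_apply] at h1
    rw [hadd, ← hQ, ← Units.val_pow_eq_pow_val, ← Units.val_pow_eq_pow_val, inv_pow]
    rcases hfr with h | h
    · rw [h]
    · rw [h, inv_inv, add_comm]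
  obtain ⟨τ, hτ⟩ := mem_of_pow_card hfix
  exact ⟨L', inferInstance, inferInstance, inferInstance, ζ, τ, hτ, hζ, hζ2⟩

/-- the norm form is universal -/
theorem exists_nrm {L' : Type*} [Field L'] [Algebra L L'] {τ : L} {ζ : L'ˣ}
    (hτ : algebraMap L L' τ = (ζ : L') + ((ζ⁻¹ : L'ˣ) : L')) (hζ : ζ ^ 2 ≠ 1) (c : L) : ∃ α β : L, nrmL τ α β = c := by
  have := Fintype.ofFinite L
  have hd : τ ^ 2 - 4 ≠ 0 := by
    intro h
    have h1 : (ζ : L') * ((ζ⁻¹ : L'ˣ) : L') = 1 := Units.mul_inv ζ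
    have h2 : ((ζ : L') - ((ζ⁻¹ : L'ˣ) : L')) ^ 2 = 0 := by
      have h3 := congrArg (algebraMap L L') h
      rw [map_sub, map_pow, hτ, map_zero, map_ofNat] at h3
      linear_combination h3 - 4 * h1
    have h3 : (ζ : L') = ((ζ⁻¹ : L'ˣ) : L') := sub_eq_zero.1 (pow_eq_zero_iff two_ne_zero |>.1 h2)
    apply hζ
    rw [pow_two]
    nth_rewrite 2 [Units.ext h3]
    rw [mul_inv_cancel]
  by_cases h2 : (2 : L) = 0
  · -- characteristic two
    have hchar : CharP L 2 := by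
      refine CharTwo.of_one_ne_zero_of_two_eq_zero one_ne_zero h2
    have hsurj : Function.Surjective (fun x : L => x ^ 2) := by
      refine Finite.surjective_of_injective fun x y hxy => ?_
      have h3 : (x - y) ^ 2 = 0 := by
        have h4 : x ^ 2 = y ^ 2 := hxy
        linear_combination h4 + (y ^ 2 - x * y) * h2
      exact sub_eq_zero.1 (pow_eq_zero_iff two_ne_zero |>.1 h3)
    obtain ⟨x, hx⟩ := hsurj c
    refine ⟨x, 0, ?_⟩
    have hx' : x ^ 2 = c := hx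
    rw [nrmL, ← hx']
    ring
  · have hodd : Fintype.card L % 2 = 1 := by
      refine FiniteField.odd_card_of_char_ne_two ?_
      intro h3
      apply h2
      have h4 : ((2 : ℕ) : L) = 0 := (CharP.cast_eq_zero_iff L (ringChar L) 2).2 (by rw [h3])
      exact_mod_cast h4
    -- `(α + β τ / 2)² + (1 - τ² / 4) β² = c`
    have h4 : (4 : L) ≠ 0 := by
      intro h4
      apply h2
      have h5 : (2 : L) * 2 = 0 := by linear_combination h4
      rcases mul_eq_zero.1 h5 with h | h <;> exact h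
    have hD : (1 - τ ^ 2 / 4) ≠ 0 := by
      intro h3
      apply hd
      field_simp at h3
      linear_combination -h3
    obtain ⟨x, y, hxy⟩ := FiniteField.exists_root_sum_quadratic (R := L)
      (f := Polynomial.X ^ 2) (g := Polynomial.C (1 - τ ^ 2 / 4) * Polynomial.X ^ 2 - Polynomial.C c)
      (Polynomial.degree_X_pow 2) (by
        rw [Polynomial.degree_sub_C]
        · exact Polynomial.degree_C_mul_X_pow 2 hD
        · rw [Polynomial.degree_C_mul_X_pow 2 hD]; norm_num) hodd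
    simp only [Polynomial.eval_pow, Polynomial.eval_X, Polynomial.eval_sub, Polynomial.eval_mul, Polynomial.eval_C] at hxy
    refine ⟨x - y * τ / 2, y, ?_⟩
    rw [nrmL]
    have e : (x - y * τ / 2) ^ 2 + (x - y * τ / 2) * y * τ + y ^ 2 = x ^ 2 + (1 - τ ^ 2 / 4) * y ^ 2 := by
      field_simp
      ring
    rw [e]
    linear_combination hxy

end exist

end Cfsg.Agent.H749
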