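import Mathlib
import Cfsg.Agent.H749.Plane
import Cfsg.Agent.H749.SumForm

/-!
# The plane `L × L` as a quadratic and symplectic space over a subfield `F` of `L` (helper749)

* `rs` : restriction of scalars; `bF` : the symplectic form `tr (det (u, v))`; `qF` : the quadratic form `tr (x² + τ x y + y²)`;
* the Fourier transformations `exists_fou_symp`, `exists_fou_quad`; the inverting isometries.
-/

set_option autoImplicit false
set_option linter.unusedSectionVars false

namespace Cfsg.Agent.H749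

open QuadraticMap Cfsg.Agent.LieClassical.OrthCore

section

variable (F : Type*) {L : Type*} [Field F] [Field L] [Algebra F L] (τ : L)

/-- restriction of scalars -/
def rs : ((L × L) ≃ₗ[L] (L × L)) →* ((L × L) ≃ₗ[F] (L × L)) where
  toFun g := g.restrictScalars F
  map_one' := rfl
  map_mul' _ _ := rfl

theorem rs_apply (g : (L × L) ≃ₗ[L] (L × L)) (w : L × L) : rs F g w = g w := rfl

theorem rs_injective : Function.Injective (rs F : ((L × L) ≃ₗ[L] (L × L)) →* ((L × L) ≃ₗ[F] (L × L))) := by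
  intro g h hgh
  exact LinearEquiv.ext fun w => LinearEquiv.congr_fun hgh w

/-- the symplectic form -/
noncomputable def bF : LinearMap.BilinForm F (L × L) :=
  LinearMap.mk₂ F (fun u v => Algebra.trace F L (sB u v))
    (fun u u' v => by rw [← map_add]; congr 1; rw [sB, sB, sB, Prod.fst_add, Prod.snd_add]; ring)
    (fun c u v => by
      rw [← map_smul]; congr 1
      rw [sB, sB, Prod.smul_fst, Prod.smul_snd, Algebra.smul_def, Algebra.smul_def, Algebra.smul_def]; ring)
    (fun u v v' => by rw [← map_add]; congr 1; rw [sB, sB, sB, Prod.fst_add, Prod.snd_add]; ring)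
    (fun c u v => by
      rw [← map_smul]; congr 1
      rw [sB, sB, Prod.smul_fst, Prod.smul_snd, Algebra.smul_def, Algebra.smul_def, Algebra.smul_def]; ring)

theorem bF_apply (u v : L × L) : bF F u v = Algebra.trace F L (sB u v) := rfl

theorem bF_alt : (bF F (L := L)).IsAlt := by
  intro u
  rw [bF_apply, show sB u u = 0 by rw [sB]; ring, map_zero]

/-- the quadratic form over `L` -/
noncomputable def nQL : QuadraticForm L (L × L) :=
  linMulLin (LinearMap.fst L L L) (LinearMap.fst L L L) + τ • linMulLin (LinearMap.fst L L L) (LinearMap.snd L L L) +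
    linMulLin (LinearMap.snd L L L) (LinearMap.snd L L L)

theorem nQL_apply (w : L × L) : nQL τ w = nQ τ w := by
  simp only [nQL, nQ, add_apply, smul_apply, linMulLin_apply, LinearMap.fst_apply, LinearMap.snd_apply, smul_eq_mul]
  ring

/-- the quadratic form over `F` -/
noncomputable def qF : QuadraticForm F (L × L) := (Algebra.trace F L).compQuadraticMap' (nQL τ)

theorem qF_apply (w : L × L) : qF F τ w = Algebra.trace F L (nQ τ w) := by
  rw [← nQL_apply]
  rfl

/-- the polar form over `L` -/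
theorem polar_nQ (u v : L × L) : nQ τ (u + v) - nQ τ u - nQ τ v =
    (2 * u.1 + τ * u.2) * v.1 + (τ * u.1 + 2 * u.2) * v.2 := by
  rw [nQ, nQ, nQ, Prod.fst_add, Prod.snd_add]; ring

theorem polar_qF (u v : L × L) : polar (qF F τ) u v =
    Algebra.trace F L ((2 * u.1 + τ * u.2) * v.1 + (τ * u.1 + 2 * u.2) * v.2) := by
  rw [polar, qF_apply, qF_apply, qF_apply, ← map_sub, ← map_sub, polar_nQ]

end

section finite

variable {F L : Type*} [Field F] [Field L] [Algebra F L] [Finite F] [Finite L]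

theorem trace_nondeg {x : L} (h : ∀ y : L, Algebra.trace F L (x * y) = 0) : x = 0 := by
  have : Module.Finite F L := Module.Finite.of_finite
  exact (traceForm_nondegenerate F L).1 x h

theorem bF_nondeg (u : L × L) (hu : ∀ v, bF F u v = 0) : u = 0 := by
  refine Prod.ext (trace_nondeg (F := F) fun y => ?_) (trace_nondeg (F := F) fun y => ?_)
  · have h := hu (0, y)
    rw [bF_apply, sB] at h
    simpa using h
  · have h := hu (-y, 0)
    rw [bF_apply, sB] at h
    simpa using h

theorem tau_sq_ne {L' : Type*} [Field L'] [Algebra L L'] {τ : L} {ζ : L'ˣ}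
    (hτ : algebraMap L L' τ = (ζ : L') + ((ζ⁻¹ : L'ˣ) : L')) (hζ : ζ ^ 2 ≠ 1) : τ ^ 2 - 4 ≠ 0 := by
  intro h
  have h1 : (ζ : L') * ((ζ⁻¹ : L'ˣ) : L') = 1 := Units.mul_inv ζ
  have h2 : ((ζ : L') - ((ζ⁻¹ : L'ˣ) : L')) ^ 2 = 0 := by
    have h3 := congrArg (algebraMap L L') h
    rw [map_sub, map_pow, hτ, map_zero, map_ofNat] at h3
    linear_combination h3 - 4 * h1
  have h3 : (ζ : L') = ((ζ⁻¹ : L'ˣ) : L') := sub_eq_zero.1 (pow_eq_zero_iff two_ne_zero |>.1 h2)
  apply hζ
  rw [pow_two]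
  nth_rewrite 2 [Units.ext h3]
  rw [mul_inv_cancel]

theorem nondeg_qF {τ : L} (hd : τ ^ 2 - 4 ≠ 0) : Nondeg (qF F τ) := by
  intro u hu
  have h1 : 2 * u.1 + τ * u.2 = 0 := trace_nondeg (F := F) fun y => by
    have h := hu (y, 0)
    rw [polar_qF] at h
    simpa using h
  have h2 : τ * u.1 + 2 * u.2 = 0 := trace_nondeg (F := F) fun y => by
    have h := hu (0, y)
    rw [polar_qF] at h
    simpa using h
  refine Prod.ext ?_ ?_
  · have h3 : (τ ^ 2 - 4) * u.1 = 0 := by linear_combination τ * h2 - 2 * h1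
    exact (mul_eq_zero.1 h3).resolve_left hd
  · have h3 : (τ ^ 2 - 4) * u.2 = 0 := by linear_combination τ * h1 - 2 * h2
    exact (mul_eq_zero.1 h3).resolve_left hd

variable {L' : Type*} [Field L'] [Algebra L L'] {τ : L} {ζ : L'ˣ}
    (hτ : algebraMap L L' τ = (ζ : L') + ((ζ⁻¹ : L'ˣ) : L')) (hζ : ζ ^ 2 ≠ 1)

include hτ hζ

/-- the quadratic form `qF` is universal -/
theorem exists_qF (c : F) : ∃ w : L × L, qF F τ w = c := by
  have : Module.Finite F L := Module.Finite.of_finite
  obtain ⟨x, hx⟩ := Algebra.trace_surjective F L c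
  obtain ⟨α, β, h⟩ := exists_nrm hτ hζ x
  refine ⟨(α, β), ?_⟩
  rw [qF_apply, ← hx, ← h, nQ, nrmL]
  congr 1
  ring

theorem orderOf_rs : orderOf (rs F (zL τ)) = orderOf ζ := by
  rw [orderOf_injective _ (rs_injective F), orderOf_zL hτ hζ]

theorem rs_fix {n : ℕ} (hn : rs F (zL τ) ^ n ≠ 1) {w : L × L} (hw : (rs F (zL τ) ^ n) w = w) : w = 0 := by
  rw [← map_pow] at hn hw
  refine zL_fix hτ hζ (fun h => hn (by rw [h, map_one])) hw

/-- the Fourier data -/
theorem exists_lam {p : ℕ} (hp : (p : F) ≠ 0) : ∃ α β : L, nrmL τ α β = algebraMap F L (p : F)⁻¹ ∧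
    (∀ w, ((lamL τ α β).restrictScalars F) (rs F (zL τ) w) = rs F (zL τ) (((lamL τ α β).restrictScalars F) w)) ∧
    ∀ w, (p : F) • ((lamL τ (α + β * τ) (-β)).restrictScalars F) (((lamL τ α β).restrictScalars F) w) = w := by
  obtain ⟨α, β, h⟩ := exists_nrm hτ hζ (algebraMap F L (p : F)⁻¹)
  refine ⟨α, β, h, fun w => lamL_comm τ α β 0 1 w, fun w => ?_⟩
  show (p : F) • (lamL τ (α + β * τ) (-β) (lamL τ α β w)) = w
  rw [lamL_adj, h, algebraMap_smul, smul_smul, mul_inv_cancel₀ hp, one_smul]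

variable {p : ℕ} [hp : Fact p.Prime]

/-- the Fourier transformation for the symplectic form -/
theorem exists_fou_symp (hpF : (p : F) ≠ 0) {n : ℕ} (hz : (rs F (zL τ) ^ n) ^ p = 1) (hz' : rs F (zL τ) ^ n ≠ 1) :
    ∃ g : (ZMod p → L × L) ≃ₗ[F] (ZMod p → L × L),
      g ∈ Iso (fun u v : ZMod p → L × L => ∑ i, bF F (u i) (v i)) ∧
      ∀ (w : ZMod p → L × L) (i : ZMod p), g (fun j => w (j - 1)) i = chz (rs F (zL τ) ^ n) i (g w i) := by
  obtain ⟨α, β, h1, h2, h3⟩ := exists_lam (F := F) hτ hζ hpF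
  have hc : ∀ w, ((lamL τ α β).restrictScalars F) ((rs F (zL τ) ^ n) w) =
      (rs F (zL τ) ^ n) (((lamL τ α β).restrictScalars F) w) := by
    have key : ∀ (m : ℕ) (w : L × L), ((lamL τ α β).restrictScalars F) ((rs F (zL τ) ^ m) w) =
        (rs F (zL τ) ^ m) (((lamL τ α β).restrictScalars F) w) := by
      intro m
      induction m with
      | zero => intro w; rfl
      | succ m ihm =>
        intro w
        rw [pow_succ, LinearEquiv.mul_apply, LinearEquiv.mul_apply, ihm, h2]
    exact key n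
  have hs := sum_chz_zero hz fun w hw => rs_fix hτ hζ hz' hw
  refine ⟨fou hz hs hc h3, fou_mem hz hs hc h3 (b := fun u v => bF F u v) (fun u v w => by rw [map_add]; rfl)
    (fun u v w => by rw [map_add]) ?_ ?_, fou_shift hz hs hc h3⟩
  · refine Subgroup.pow_mem _ ?_ _
    intro u v
    show bF F (zL τ u) (zL τ v) = bF F u v
    rw [bF_apply, bF_apply, sB_zL]
  · intro u v
    show (p : F) * bF F (lamL τ α β u) (lamL τ α β v) = bF F u v
    rw [bF_apply, bF_apply, sB_lamL, h1, ← Algebra.smul_def, map_smul, smul_eq_mul, ← mul_assoc, mul_inv_cancel₀ hpF,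
      one_mul]

/-- the Fourier transformation for the quadratic form -/
theorem exists_fou_quad (hpF : (p : F) ≠ 0) {n : ℕ} (hz : (rs F (zL τ) ^ n) ^ p = 1) (hz' : rs F (zL τ) ^ n ≠ 1) :
    ∃ g : (ZMod p → L × L) ≃ₗ[F] (ZMod p → L × L),
      g ∈ Iso (fun u _ : ZMod p → L × L => ∑ i, qF F τ (u i)) ∧
      ∀ (w : ZMod p → L × L) (i : ZMod p), g (fun j => w (j - 1)) i = chz (rs F (zL τ) ^ n) i (g w i) := by
  obtain ⟨α, β, h1, h2, h3⟩ := exists_lam (F := F) hτ hζ hpF
  have hc : ∀ w, ((lamL τ α β).restrictScalars F) ((rs F (zL τ) ^ n) w) =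
      (rs F (zL τ) ^ n) (((lamL τ α β).restrictScalars F) w) := by
    have key : ∀ (m : ℕ) (w : L × L), ((lamL τ α β).restrictScalars F) ((rs F (zL τ) ^ m) w) =
        (rs F (zL τ) ^ m) (((lamL τ α β).restrictScalars F) w) := by
      intro m
      induction m with
      | zero => intro w; rfl
      | succ m ihm =>
        intro w
        rw [pow_succ, LinearEquiv.mul_apply, LinearEquiv.mul_apply, ihm, h2]
    exact key n
  have hs := sum_chz_zero hz fun w hw => rs_fix hτ hζ hz' hw
  have hzq : ∀ (m : ℕ) (w : L × L), qF F τ ((rs F (zL τ) ^ m) w) = qF F τ w := by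
    intro m
    induction m with
    | zero => intro w; rfl
    | succ m ih =>
      intro w
      rw [pow_succ, LinearEquiv.mul_apply, ih, rs_apply, qF_apply, nQ_zL, qF_apply]
  refine ⟨fou hz hs hc h3, fou_mem_quad hz hs hc h3 (hzq n) ?_, fou_shift hz hs hc h3⟩
  intro u
  show (p : F) * qF F τ (lamL τ α β u) = qF F τ u
  rw [qF_apply, qF_apply, nQ_lamL, h1, ← Algebra.smul_def, map_smul, smul_eq_mul, ← mul_assoc, mul_inv_cancel₀ hpF,
    one_mul]

omit hτ hζ hp in
/-- the inverting isometry, quadratic form -/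
theorem swL_quad : rs F (swL : (L × L) ≃ₗ[L] (L × L)) ∈ Iso (fun u _ : L × L => qF F τ u) ∧
    rs F (swL : (L × L) ≃ₗ[L] (L × L)) * rs F (zL τ) * (rs F (swL : (L × L) ≃ₗ[L] (L × L)))⁻¹ = rs F (zL τ) ^ (-1 : ℤ) := by
  constructor
  · intro u _
    show qF F τ (swL u) = qF F τ u
    rw [qF_apply, qF_apply, nQ_swL]
  · rw [mul_inv_eq_iff_eq_mul, zpow_neg_one, ← map_inv, ← map_mul, ← map_mul]
    congr 1
    refine LinearEquiv.ext fun w => ?_
    exact swL_conj τ w

omit hp in
/-- the inverting isometry, symplectic form -/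
theorem exists_inv_symp : ∃ T : (L × L) ≃ₗ[F] (L × L), T ∈ Iso (fun u v : L × L => bF F u v) ∧
    T * rs F (zL τ) * T⁻¹ = rs F (zL τ) ^ (-1 : ℤ) := by
  obtain ⟨α, β, h⟩ := exists_nrm hτ hζ (-1)
  have hinj : Function.Injective (lamL τ α β) := by
    intro u v huv
    have h1 := congrArg (lamL τ (α + β * τ) (-β)) huv
    rw [lamL_adj, lamL_adj, h, neg_one_smul, neg_one_smul] at h1
    exact neg_injective h1
  have hbij : Function.Bijective (lamL τ α β) := Finite.injective_iff_bijective.1 hinj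
  let E : (L × L) ≃ₗ[L] (L × L) := LinearEquiv.ofBijective (lamL τ α β) hbij
  have hE : ∀ w, E w = lamL τ α β w := fun _ => rfl
  refine ⟨rs F (swL * E), ?_, ?_⟩
  · intro u v
    show bF F (swL (E u)) (swL (E v)) = bF F u v
    rw [bF_apply, bF_apply, sB_swL, hE, hE, sB_lamL, h]
    congr 1
    ring
  · rw [mul_inv_eq_iff_eq_mul, zpow_neg_one, ← map_inv, ← map_mul, ← map_mul]
    congr 1
    refine LinearEquiv.ext fun w => ?_
    show swL (E (zL τ w)) = (zL τ)⁻¹ (swL (E w))
    rw [← swL_conj, hE, hE]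
    congr 1
    exact lamL_comm τ α β 0 1 w

end finite

end Cfsg.Agent.H749
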