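import Mathlib
import Cfsg.Agent.H749.FieldExt
import Cfsg.Agent.S0242

/-!
# `FullP` for `SL_n(q)` and `PSL_n(q)`, `p` odd not dividing `q (q - 1)` (helper749)

`e > 1` the order of `q` modulo `p`, `p e ≤ n`: `FullP p (SL_n(q))` (`fullSL`).
-/

set_option autoImplicit false
set_option linter.unusedSectionVars false

namespace Cfsg.Agent.H749

section order

variable {p : ℕ} [hp : Fact p.Prime] {q : ℕ}

theorem pow_ne_one' (hq : 1 < q) (i : ℕ) (hi : i ≠ 0) : (q : ℤ) ^ i ≠ 1 := by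
  intro h
  have h1 : q ^ i = 1 := by exact_mod_cast h
  rcases Nat.pow_eq_one.1 h1 with h2 | h2 <;> omega

/-- the valuation of the order of `GL_n(q)` -/
theorem vp_GL {F : Type*} [Field F] [Finite F] (hp2 : p ≠ 2) {e : ℕ} (he : orderOf ((Nat.card F : ℤ) : ZMod p) = e)
    (he1 : e ≠ 0) {n : ℕ} (hn : 1 ≤ n) :
    vp p ((Nat.card F : ℤ) - 1) + (Nat.card (Matrix.SpecialLinearGroup (Fin n) F)).factorization p =
      (n / e) * vp p ((Nat.card F : ℤ) ^ e - 1) + (n / e).factorial.factorization p := by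
  have := Fintype.ofFinite F
  obtain ⟨q, hq⟩ : ∃ q, q = Nat.card F := ⟨_, rfl⟩
  have h := S0242.result (F := F) (q := q) (by rw [hq, Nat.card_eq_fintype_card]) n hn
  have hq1 : 1 < q := by rw [hq]; exact Finite.one_lt_card
  rw [← hq] at he ⊢
  have hpq : ¬ (p : ℤ) ∣ (q : ℤ) := by
    intro h1
    have h2 : ((q : ℤ) : ZMod p) = 0 := (ZMod.intCast_zmod_eq_zero_iff_dvd _ _).2 h1
    rw [h2] at he
    have h3 : orderOf (0 : ZMod p) = 0 := by
      rw [orderOf_eq_zero_iff']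
      intro m hm
      rw [zero_pow hm.ne']
      exact zero_ne_one
    omega
  have hZ : ((q : ℤ) - 1) * (Nat.card (Matrix.SpecialLinearGroup (Fin n) F) : ℤ) =
      ∏ i ∈ Finset.range n, ((q : ℤ) ^ n - (q : ℤ) ^ i) := by
    have h1 : ((q - 1 : ℕ) : ℤ) = (q : ℤ) - 1 := by rw [Nat.cast_sub hq1.le]; rfl
    rw [← h1, ← Nat.cast_mul, h, Nat.cast_prod, Fin.prod_univ_eq_prod_range (fun i => ((q ^ n - q ^ i : ℕ) : ℤ)) n]
    refine Finset.prod_congr rfl fun i hi => ?_
    rw [Nat.cast_sub (Nat.pow_le_pow_right hq1.le (Finset.mem_range.1 hi).le), Nat.cast_pow, Nat.cast_pow]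
  have hrev : ∏ i ∈ Finset.range n, ((q : ℤ) ^ n - (q : ℤ) ^ i) =
      (∏ i ∈ Finset.range n, (q : ℤ) ^ i) * ∏ i ∈ Finset.range n, ((q : ℤ) ^ (i + 1) - 1) := by
    rw [← Finset.prod_range_reflect (fun i => (q : ℤ) ^ (i + 1) - 1) n, ← Finset.prod_mul_distrib]
    refine Finset.prod_congr rfl fun i hi => ?_
    have hi' := Finset.mem_range.1 hi
    rw [mul_sub, mul_one, ← pow_add]
    congr 2
    omega
  have hcard : (Nat.card (Matrix.SpecialLinearGroup (Fin n) F) : ℤ) ≠ 0 := by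
    exact_mod_cast Nat.card_pos.ne'
  have hq1' : (q : ℤ) - 1 ≠ 0 := by
    have := pow_ne_one' hq1 1 one_ne_zero
    rw [pow_one] at this
    exact sub_ne_zero.2 this
  have hne : ∀ i ∈ Finset.range n, (q : ℤ) ^ (i + 1) - 1 ≠ 0 := fun i _ =>
    sub_ne_zero.2 (pow_ne_one' hq1 _ (Nat.succ_ne_zero i))
  have h2 := congrArg (vp p) (hZ.trans hrev)
  rw [vp_mul p hq1' hcard, vp_mul p (Finset.prod_ne_zero_iff.2 fun i _ => pow_ne_zero _ (by positivity))
    (Finset.prod_ne_zero_iff.2 hne), vp_prod hp2 he (pow_ne_one' hq1), vp_natCast] at h2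
  have h4 : vp p (∏ i ∈ Finset.range n, (q : ℤ) ^ i) = 0 := by
    apply vp_eq_zero
    intro h4
    rw [Prime.dvd_finsetProd_iff (Nat.prime_iff_prime_int.1 hp.out)] at h4
    obtain ⟨i, -, h5⟩ := h4
    exact hpq ((Nat.prime_iff_prime_int.1 hp.out).dvd_of_dvd_pow h5)
  rw [h4, zero_add] at h2
  exact h2

/-- the valuation of the order of `SL_n(q)` -/
theorem vp_SL {F : Type*} [Field F] [Finite F] (hp2 : p ≠ 2) {e : ℕ} (he : orderOf ((Nat.card F : ℤ) : ZMod p) = e)
    (he1 : 1 < e) {n : ℕ} (hn : 1 ≤ n) :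
    (Nat.card (Matrix.SpecialLinearGroup (Fin n) F)).factorization p =
      (n / e) * vp p ((Nat.card F : ℤ) ^ e - 1) + (n / e).factorial.factorization p := by
  have h2 := vp_GL (F := F) hp2 he (by omega) hn
  have h3 : vp p ((Nat.card F : ℤ) - 1) = 0 := by
    apply vp_eq_zero
    intro h3
    have h4 := (dvd_pow_sub_one_iff (p := p) (x := (Nat.card F : ℤ)) 1).1 (by rwa [pow_one])
    rw [he, Nat.dvd_one] at h4
    omega
  rwa [h3, zero_add] at h2

end order

/-- `p` is invertible in `F` -/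
theorem cast_ne_zero_of {p : ℕ} [hp : Fact p.Prime] {F : Type*} [Field F] [Finite F] (h : ¬ p ∣ Nat.card F) :
    (p : F) ≠ 0 := by
  intro h0
  obtain ⟨r, hr⟩ := CharP.exists F
  have hrp : r.Prime := CharP.char_is_prime F r
  have h1 : r ∣ p := (CharP.cast_eq_zero_iff F r p).1 h0
  have h2 : r = p := (Nat.prime_dvd_prime_iff_eq hrp hp.out).1 h1
  subst h2
  have := Fintype.ofFinite F
  obtain ⟨k, -, hk⟩ := FiniteField.card F r
  apply h
  rw [Nat.card_eq_fintype_card, hk]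
  exact dvd_pow_self r k.ne_zero

/-- linear automorphisms of given determinant -/
theorem exists_det {F : Type*} [Field F] {W : Type*} [AddCommGroup W] [Module F W] [Module.Finite F W] [Nontrivial W]
    {c : F} (hc : c ≠ 0) : ∃ y : W ≃ₗ[F] W, LinearMap.det y.toLinearMap = c := by
  obtain ⟨n, hn⟩ : ∃ n, Module.finrank F W = n + 1 :=
    Nat.exists_eq_succ_of_ne_zero (Module.finrank_pos (R := F) (M := W)).ne'
  let j : (Fin (n + 1) → F) ≃ₗ[F] W := LinearEquiv.ofFinrankEq _ _ (by rw [hn]; simp)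
  have hd : (Matrix.diagonal (Function.update (1 : Fin (n + 1) → F) 0 c)).det = c := by
    rw [Matrix.det_diagonal, Finset.prod_update_of_mem (Finset.mem_univ _)]
    simp
  let A : GL (Fin (n + 1)) F := Matrix.GeneralLinearGroup.mkOfDetNeZero
    (Matrix.diagonal (Function.update (1 : Fin (n + 1) → F) 0 c)) (by rw [hd]; exact hc)
  refine ⟨glHom j A, ?_⟩
  rw [det_glHom]
  exact hd

section

variable {p : ℕ} [hp : Fact p.Prime] {F : Type*} [Field F] [Finite F]

/-- `p`-elements have determinant one if `p` does not divide `q - 1` -/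
theorem det_eq_one_of_pEl {V : Type*} [AddCommGroup V] [Module F V] (hpq : ¬ p ∣ Nat.card F - 1) {x : V ≃ₗ[F] V}
    (hx : PEl p x) : LinearMap.det x.toLinearMap = 1 := by
  have h1 : PEl p (LinearEquiv.det (R := F) (M := V) x) := hx.map _
  obtain ⟨k, hk⟩ := h1
  have h2 : orderOf (LinearEquiv.det (R := F) (M := V) x) ∣ Nat.gcd (p ^ k) (Nat.card F - 1) := by
    refine Nat.dvd_gcd (orderOf_dvd_of_pow_eq_one hk) ?_
    rw [← Nat.card_units]
    exact orderOf_dvd_natCard _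
  have h3 : Nat.gcd (p ^ k) (Nat.card F - 1) = 1 := Nat.Coprime.pow_left k ((Nat.Prime.coprime_iff_not_dvd hp.out).2 hpq)
  rw [h3, Nat.dvd_one, orderOf_eq_one_iff] at h2
  have h4 := congrArg Units.val h2
  rwa [LinearEquiv.coe_det, Units.val_one] at h4

/-- **`SL_n(q)`, `e > 1`: `FullP` for `p ≤ n / e`, abelian Sylow subgroups for `n / e < p`.** -/
theorem dichSL (hp2 : p ≠ 2) {e : ℕ} (he : orderOf ((Nat.card F : ℤ) : ZMod p) = e) (he1 : 1 < e) {n : ℕ}
    (hn1 : 1 ≤ n) : DichN p (n / e) (Matrix.SpecialLinearGroup (Fin n) F) := by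
  have he0 : e ≠ 0 := by omega
  have hpq : ¬ p ∣ Nat.card F := by
    intro h1
    have h2 : (((Nat.card F : ℕ) : ℤ) : ZMod p) = 0 := by
      rw [Int.cast_natCast]
      exact (ZMod.natCast_eq_zero_iff _ _).2 h1
    rw [h2] at he
    have h3 : orderOf (0 : ZMod p) = 0 := by
      rw [orderOf_eq_zero_iff']
      intro m hm
      rw [zero_pow hm.ne']
      exact zero_ne_one
    omega
  have hpF : (p : F) ≠ 0 := cast_ne_zero_of hpq
  have hq1 : 1 < Nat.card F := Finite.one_lt_card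
  have hpq1 : ¬ p ∣ Nat.card F - 1 := by
    intro h1
    have h4 := (dvd_pow_sub_one_iff (p := p) (x := ((Nat.card F : ℕ) : ℤ)) 1).1 (by
      rw [pow_one]
      have h5 : (((Nat.card F - 1 : ℕ)) : ℤ) = (Nat.card F : ℤ) - 1 := by rw [Nat.cast_sub hq1.le]; rfl
      rw [← h5]
      exact Int.natCast_dvd_natCast.2 h1)
    rw [he, Nat.dvd_one] at h4
    omega
  obtain ⟨L, _, _, _, hLcard, hLrank⟩ := exists_ext F e he0
  have hLfin : Module.Finite F L := Module.Finite.of_finite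
  -- the order of `z`
  obtain ⟨a, ha⟩ : ∃ a, a = vp p ((Nat.card F : ℤ) ^ e - 1) := ⟨_, rfl⟩
  have hcast : ((Nat.card F ^ e - 1 : ℕ) : ℤ) = (Nat.card F : ℤ) ^ e - 1 := by
    rw [Nat.cast_sub (Nat.one_le_pow _ _ (by omega)), Nat.cast_pow]; rfl
  have hne : (Nat.card F : ℤ) ^ e - 1 ≠ 0 := sub_ne_zero.2 (pow_ne_one' hq1 e he0)
  have ha0 : a ≠ 0 := by
    rw [ha]
    exact (vp_pos hne ((dvd_pow_sub_one_iff e).2 he.dvd)).ne'
  have hadvd : p ^ a ∣ Nat.card L - 1 := by
    rw [hLcard, ha, ← hcast, vp_natCast]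
    exact Nat.ordProj_dvd _ _
  obtain ⟨ζ, hζ⟩ := exists_order L hadvd
  have hz : orderOf (mulE F ζ) = p ^ a := by rw [mulE_order, hζ]
  have hzp := pow_order_p ha0 hz
  have hz1 : ∀ w : L, ∑ i : ZMod p, chz (mulE F ζ ^ p ^ (a - 1)) i w = 0 := by
    refine sum_chz_zero hzp fun w hw => ?_
    rw [← map_pow, mulE_apply] at hw
    by_contra hw0
    have h5 : ((ζ ^ p ^ (a - 1) : Lˣ) : L) = 1 := mul_right_cancel₀ hw0 (by rw [hw, one_mul])
    have h6 : ζ ^ p ^ (a - 1) = 1 := Units.ext h5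
    apply pow_order_ne ha0 hz
    rw [← map_pow, h6, map_one]
  have hlm : ∀ w : L, (p : F) • ((p : F)⁻¹ • (LinearMap.id : L →ₗ[F] L)) (LinearMap.id (R := F) w) = w := by
    intro w
    rw [LinearMap.smul_apply, smul_smul, mul_inv_cancel₀ hpF, one_smul]
    rfl
  -- the block theorem
  have hker : n / e * e ≤ n := Nat.div_mul_le_self n e
  have hrank : Module.finrank F (Fin n → F) = Module.finrank F ((Fin (n / e) → L) × (Fin (n - n / e * e) → F)) := by
    rw [Module.finrank_prod, Module.finrank_fin_fun, Module.finrank_fin_fun, Module.finrank_pi_fintype]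
    simp only [Finset.sum_const, Finset.card_univ, Fintype.card_fin, hLrank, smul_eq_mul]
    omega
  have hS : SimF (LinearEquiv.ofFinrankEq _ _ hrank) (fun _ _ => (0 : F))
      (sumForm (ι := Fin (n / e)) (W := L) (fun _ _ => 0) (W₀ := (Fin (n - n / e * e) → F)) (fun _ _ => 0)) 1 := by
    refine ⟨one_ne_zero, fun x y => ?_⟩
    unfold sumForm
    simp
  have htop : preserving (slToMat n F) (fun _ _ => (0 : F)) = ⊤ := by
    rw [eq_top_iff]
    intro A _ u v
    rfl
  have hfc : Fintype.card (Fin (n / e)) = n / e := Fintype.card_fin _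
  rw [← hfc]
  refine dichDet (ι := Fin (n / e)) (b := fun _ _ => 0) (b₀ := fun _ _ => 0) (W := L) (z := mulE F ζ)
    (fun _ _ => rfl) ha0 hz (g := fou (lam := LinearMap.id) hzp hz1 (fun _ => rfl) hlm) (fun _ _ => rfl)
    (fou_shift (lam := LinearMap.id) hzp hz1 (fun _ => rfl) hlm) (T := frobE F L) (fun _ _ => rfl) (Nat.card F : ℤ) ((Nat.card F : ℤ) ^ (e - 1))
    (frobE_conj F ζ) ?_ ?_
    (((Subgroup.topEquiv).symm.trans (MulEquiv.subgroupCongr htop.symm)).trans (slEquiv hS)) hp2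
    (fun x _ hx => det_eq_one_of_pEl hpq1 hx) ?_ ?_
  · rw [← pow_succ', Nat.sub_add_cancel (by omega), ← Nat.cast_pow, zpow_natCast, ← map_pow]
    congr 1
    apply Units.ext
    have := Fintype.ofFinite L
    rw [Units.val_pow_eq_pow_val, ← hLcard, Nat.card_eq_fintype_card, FiniteField.pow_card]
  · intro h5
    have h6 := (dvd_pow_sub_one_iff (p := p) (x := (Nat.card F : ℤ)) (e - 1)).1 h5
    rw [he] at h6
    have := Nat.le_of_dvd (by omega) h6
    omega
  · intro g _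
    have hd : LinearMap.det g.toLinearMap ≠ 0 := by
      rw [← LinearEquiv.coe_det]
      exact Units.ne_zero _
    obtain ⟨y, hy⟩ := exists_det (F := F) (W := L) (inv_ne_zero hd)
    exact ⟨y, fun _ _ => rfl, by rw [hy, inv_mul_cancel₀ hd]⟩
  · rw [Fintype.card_fin, vp_SL hp2 he he1 hn1, ha]

/-- **`FullP` for `SL_n(q)`, `e > 1`.** -/
theorem fullSL (hp2 : p ≠ 2) {e : ℕ} (he : orderOf ((Nat.card F : ℤ) : ZMod p) = e) (he1 : 1 < e) {n : ℕ}
    (hn : p ≤ n / e) : FullP p (Matrix.SpecialLinearGroup (Fin n) F) := by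
  refine (dichSL hp2 he he1 ?_).1 hn
  by_contra h0
  have : n = 0 := by omega
  rw [this, Nat.zero_div] at hn
  have := hp.out.pos
  omega

end

end Cfsg.Agent.H749
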