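import Mathlib
import Cfsg.Agent.H749.Herm
import Cfsg.Agent.H749.PlaneBlock
import Cfsg.Agent.H749.RowL

/-!
# Hermitian blocks (helper749)

`|F| = q²`.
* `hB m` : the hermitian form `Tr (u v ^ (q ^ m))` on an extension `L` of odd degree `m`;
* `hW` : the hermitian form on `L × L`.
-/

set_option autoImplicit false
set_option linter.unusedSectionVars false

namespace Cfsg.Agent.H749

open Cfsg.Agent.ClassicalGeometry

/-- powers in cyclic groups -/
theorem exists_pow_eq {G : Type*} [CommGroup G] [Finite G] [IsCyclic G] {m k : ℕ} (hm : m ≠ 0) (h : Nat.card G = m * k)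
    {c : G} (hc : c ^ m = 1) : ∃ x : G, x ^ k = c := by
  obtain ⟨g, hg⟩ := IsCyclic.exists_generator (α := G)
  have hgo : orderOf g = Nat.card G := orderOf_eq_card_of_forall_mem_zpowers hg
  obtain ⟨i, rfl⟩ := Subgroup.mem_zpowers_iff.1 (hg c)
  have h1 : g ^ (i * (m : ℤ)) = 1 := by rw [zpow_mul, zpow_natCast]; exact hc
  have h2 : ((m * k : ℕ) : ℤ) ∣ i * (m : ℤ) := by
    rw [← h, ← hgo]
    exact orderOf_dvd_iff_zpow_eq_one.2 h1
  have h3 : (k : ℤ) ∣ i := by
    obtain ⟨c, hc⟩ := h2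
    refine ⟨c, ?_⟩
    have hm' : (m : ℤ) ≠ 0 := by exact_mod_cast hm
    apply mul_right_cancel₀ hm'
    rw [hc]
    push_cast
    ring
  obtain ⟨j, rfl⟩ := h3
  exact ⟨g ^ j, by rw [← zpow_natCast, ← zpow_mul, mul_comm]⟩

section

variable {F : Type*} [Field F] [Fintype F] {q : ℕ} (hF : Fintype.card F = q ^ 2)

include hF

theorem natCard_F : Nat.card F = q ^ 2 := by rw [Nat.card_eq_fintype_card, hF]

theorem pow_sq_pow (y : F) (k : ℕ) : y ^ (q ^ (2 * k)) = y := by
  rw [pow_mul, ← hF]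
  exact FiniteField.pow_card_pow k y

theorem pow_odd {m : ℕ} (hm : Odd m) (y : F) : y ^ (q ^ m) = y ^ q := by
  obtain ⟨k, rfl⟩ := hm
  rw [pow_succ, pow_mul, pow_sq_pow hF]

variable (L : Type*) [Field L] [Algebra F L]

/-- `x ↦ x ^ (q ^ m)` is additive -/
theorem add_pow_q (m : ℕ) (x y : L) : (x + y) ^ (q ^ m) = x ^ (q ^ m) + y ^ (q ^ m) := by
  obtain ⟨r, hr⟩ := CharP.exists F
  obtain ⟨k, hrp, hk⟩ := FiniteField.card F r
  have h1 : q ∣ r ^ (k : ℕ) := by rw [← hk, hF]; exact dvd_pow_self q two_ne_zero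
  obtain ⟨j, -, rfl⟩ := (Nat.dvd_prime_pow hrp).1 h1
  have := charP_of_injective_algebraMap (algebraMap F L).injective r
  have := Fact.mk hrp
  rw [← pow_mul]
  exact add_pow_char_pow x y r (j * m)

/-- the homomorphism `x ↦ x ^ (q ^ m)` -/
def powL (m : ℕ) : L →+* L where
  toFun x := x ^ (q ^ m)
  map_one' := one_pow _
  map_mul' x y := mul_pow _ _ _
  map_zero' := zero_pow (pow_ne_zero _ (by have := GUBasic.two_le hF; omega))
  map_add' := add_pow_q hF L m

theorem powL_apply (m : ℕ) (x : L) : powL hF L m x = x ^ (q ^ m) := rfl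

variable {L} [Finite L]

theorem trace_pow (m : ℕ) (x : L) : Algebra.trace F L (x ^ (q ^ m)) = (Algebra.trace F L x) ^ (q ^ m) := by
  apply (algebraMap F L).injective
  rw [map_pow (algebraMap F L), FiniteField.algebraMap_trace_eq_sum_pow, FiniteField.algebraMap_trace_eq_sum_pow,
    ← powL_apply hF L m (∑ i ∈ _, _), map_sum]
  refine Finset.sum_congr rfl fun i _ => ?_
  rw [powL_apply, ← pow_mul, ← pow_mul, mul_comm]

theorem trace_pow_odd {m : ℕ} (hm : Odd m) (x : L) :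
    Algebra.trace F L (x ^ (q ^ m)) = (Algebra.trace F L x) ^ q := by
  rw [trace_pow hF, pow_odd hF hm]

theorem trace_pow_even (k : ℕ) (x : L) : Algebra.trace F L (x ^ (q ^ (2 * k))) = Algebra.trace F L x := by
  rw [trace_pow hF, pow_sq_pow hF]

variable {m : ℕ} (hm : Odd m) (hL : Nat.card L = Nat.card F ^ m)

include hm hL

theorem pow_pow_L (x : L) : (x ^ (q ^ m)) ^ (q ^ m) = x := by
  have := Fintype.ofFinite L
  have h : Fintype.card L = q ^ m * q ^ m := by
    rw [← Nat.card_eq_fintype_card, hL, natCard_F hF, ← pow_mul, ← pow_add, two_mul]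
  rw [← pow_mul, ← h, FiniteField.pow_card]

variable {σ : F →+* F} (hσ : ∀ x, σ x = x ^ q)

include hσ

theorem hermF_odd : HermF σ (fun u v : L => Algebra.trace F L (u * v ^ (q ^ m))) where
  add u u' v := by rw [add_mul, map_add]
  smul c u v := by rw [smul_mul_assoc, map_smul, smul_eq_mul]
  symm u v := by
    rw [hσ, ← trace_pow_odd hF hm]
    congr 1
    rw [mul_pow, pow_pow_L hF hm hL, mul_comm]
  nd u hu := trace_nondeg (F := F) fun y => by
    have := hu (y ^ (q ^ m))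
    rwa [pow_pow_L hF hm hL] at this

/-- **`SU_n(q)`, `e = ord_p(-q)` odd: the block.** -/
theorem dichU_odd {p : ℕ} [hp : Fact p.Prime] (hp2 : p ≠ 2) (hLr : Module.finrank F L = m)
    (hpq : ¬ (p : ℤ) ∣ (q : ℤ)) (he : orderOf ((-(q : ℤ) : ℤ) : ZMod p) = m) (hm1 : 1 < m) {n : ℕ}
    (hord : (Nat.card (SU n F q)).factorization p ≤
      (n / m) * vp p ((-(q : ℤ)) ^ m - 1) + (n / m).factorial.factorization p) :
    DichN p (n / m) (SU n F q) := by
  have hq2 := GUBasic.two_le hF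
  have hLfin : Module.Finite F L := Module.Finite.of_finite
  obtain ⟨a, ha⟩ : ∃ a, a = vp p ((-(q : ℤ)) ^ m - 1) := ⟨_, rfl⟩
  have hneg : (-(q : ℤ)) ^ m - 1 = -((q ^ m + 1 : ℕ) : ℤ) := by
    rw [hm.neg_pow]
    push_cast
    ring
  have ha' : a = (q ^ m + 1).factorization p := by rw [ha, hneg, vp_neg, vp_natCast]
  have hdvd : p ∣ q ^ m + 1 := by
    have h := (dvd_pow_sub_one_iff (p := p) (x := -(q : ℤ)) m).2 he.dvd
    rw [hneg, dvd_neg] at h
    exact Int.natCast_dvd_natCast.1 h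
  have ha0 : a ≠ 0 := by
    rw [ha']
    exact (hp.out.factorization_pos_of_dvd (by omega) hdvd).ne'
  have hpqn : ¬ p ∣ q := fun h => hpq (Int.natCast_dvd_natCast.2 h)
  have hpF : (p : F) ≠ 0 := cast_ne_zero_of (by
    rw [natCard_F hF]
    exact fun h => hpqn (hp.out.dvd_of_dvd_pow h))
  have hcardL : Nat.card L = q ^ m * q ^ m := by
    rw [hL, natCard_F hF, ← pow_mul, ← pow_add, two_mul]
  have hqm : 2 ≤ q ^ m := le_trans hq2 (Nat.le_self_pow (by omega) q)
  have hcardU : Nat.card Lˣ = (q ^ m - 1) * (q ^ m + 1) := by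
    rw [Nat.card_units, hcardL]
    obtain ⟨c, hc⟩ := Nat.exists_eq_add_of_le hqm
    rw [hc, show 2 + c - 1 = c + 1 by omega]
    have : (2 + c) * (2 + c) = (c + 1) * (2 + c + 1) + 1 := by ring
    omega
  -- the element ζ
  obtain ⟨ζ, hζ⟩ := exists_order L (m := p ^ a) (by
    rw [← Nat.card_units, hcardU, ha']
    exact dvd_mul_of_dvd_right (Nat.ordProj_dvd _ _) _)
  have hζ1 : ζ ^ (q ^ m + 1) = 1 := by
    apply orderOf_dvd_iff_pow_eq_one.1
    rw [hζ, ha']
    exact Nat.ordProj_dvd _ _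
  have hz : orderOf (mulE F ζ) = p ^ a := by rw [mulE_order, hζ]
  have hzp := pow_order_p ha0 hz
  have hz1 : ∀ w : L, ∑ i : ZMod p, chz (mulE F ζ ^ p ^ (a - 1)) i w = 0 := by
    refine sum_chz_zero hzp fun w hw => ?_
    rw [← map_pow, mulE_apply] at hw
    by_contra hw0
    have h5 : ((ζ ^ p ^ (a - 1) : Lˣ) : L) = 1 := mul_right_cancel₀ hw0 (by rw [hw, one_mul])
    have h6 : ζ ^ p ^ (a - 1) = 1 := Units.ext h5
    apply pow_order_ne ha0 hz
    rw [← map_pow, h6, map_one]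
  have hzb : ∀ u : Lˣ, u ^ (q ^ m + 1) = 1 →
      mulE F u ∈ Iso (fun u v : L => Algebra.trace F L (u * v ^ (q ^ m))) := by
    intro w hw u v
    show Algebra.trace F L ((w : L) * u * ((w : L) * v) ^ (q ^ m)) = Algebra.trace F L (u * v ^ (q ^ m))
    congr 1
    have h : (w : L) ^ (q ^ m + 1) = 1 := by
      rw [← Units.val_pow_eq_pow_val, hw, Units.val_one]
    calc (w : L) * u * ((w : L) * v) ^ (q ^ m) = (w : L) ^ (q ^ m + 1) * (u * v ^ (q ^ m)) := by ring
      _ = u * v ^ (q ^ m) := by rw [h, one_mul]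
  -- the element λ
  obtain ⟨lam, hlam⟩ : ∃ lam : Lˣ, (lam : L) ^ (q ^ m + 1) = algebraMap F L (p : F)⁻¹ := by
    have hpL : algebraMap F L (p : F)⁻¹ ≠ 0 := by
      rw [map_ne_zero]
      exact inv_ne_zero hpF
    obtain ⟨x, hx⟩ := exists_pow_eq (G := Lˣ) (m := q ^ m - 1) (k := q ^ m + 1) (by omega) hcardU
      (c := Units.mk0 _ hpL) (by
        apply Units.ext
        rw [Units.val_pow_eq_pow_val, Units.val_mk0, Units.val_one]
        have h1 : (algebraMap F L (p : F)⁻¹) ^ (q ^ m) = algebraMap F L (p : F)⁻¹ := by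
          rw [← powL_apply hF L m, map_inv₀, map_natCast, map_inv₀, map_natCast]
        have h2 : (algebraMap F L (p : F)⁻¹) ^ (q ^ m - 1) * algebraMap F L (p : F)⁻¹ = algebraMap F L (p : F)⁻¹ := by
          rw [← pow_succ, Nat.sub_add_cancel (by omega), h1]
        exact mul_right_cancel₀ hpL (by rw [h2, one_mul]))
    exact ⟨x, by rw [← Units.val_pow_eq_pow_val, hx, Units.val_mk0]⟩
  have hpL : (p : L) * algebraMap F L (p : F)⁻¹ = 1 := by
    rw [← map_natCast (algebraMap F L), ← map_mul, mul_inv_cancel₀ hpF, map_one]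
  let l1 : L →ₗ[F] L := (mulE F lam).toLinearMap
  let l2 : L →ₗ[F] L := (p : F)⁻¹ • (mulE F lam⁻¹).toLinearMap
  have hc : ∀ w, l1 ((mulE F ζ ^ p ^ (a - 1)) w) = (mulE F ζ ^ p ^ (a - 1)) (l1 w) := by
    intro w
    rw [← map_pow]
    show (lam : L) * (((ζ ^ p ^ (a - 1) : Lˣ) : L) * w) = ((ζ ^ p ^ (a - 1) : Lˣ) : L) * ((lam : L) * w)
    ring
  have hlm : ∀ w, (p : F) • l2 (l1 w) = w := by
    intro w
    show (p : F) • ((p : F)⁻¹ • (((lam⁻¹ : Lˣ) : L) * ((lam : L) * w))) = w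
    rw [smul_smul, mul_inv_cancel₀ hpF, one_smul, ← mul_assoc, Units.inv_mul, one_mul]
  have hfc : Fintype.card (Fin (n / m)) = n / m := Fintype.card_fin _
  have hnt : Nontrivial L := inferInstance
  have h := dichU (ι := Fin (n / m)) hF hσ (hermF_odd hF hm hL hσ) (z := mulE F ζ) (hzb ζ hζ1) ha0 hz
    (g := fou (lam := l1) (mu := l2) hzp hz1 hc hlm)
    (fou_mem hzp hz1 hc hlm (hermF_odd hF hm hL hσ).add (fun u v w => by
      show Algebra.trace F L (u * (v + w) ^ (q ^ m)) = _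
      rw [add_pow_q hF L m, mul_add, map_add]) ((Iso _).pow_mem (hzb ζ hζ1) _) (fun u v => by
      show (p : F) * Algebra.trace F L ((lam : L) * u * ((lam : L) * v) ^ (q ^ m)) = Algebra.trace F L (u * v ^ (q ^ m))
      have e : (lam : L) * u * ((lam : L) * v) ^ (q ^ m) = (p : F)⁻¹ • (u * v ^ (q ^ m)) := by
        rw [Algebra.smul_def, ← hlam]
        ring
      rw [e, map_smul, smul_eq_mul, ← mul_assoc, mul_inv_cancel₀ hpF, one_mul]))
    (fou_shift hzp hz1 hc hlm) (T := frobE F L) (fun u v => by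
      show Algebra.trace F L (frobE F L u * (frobE F L v) ^ (q ^ m)) = Algebra.trace F L (u * v ^ (q ^ m))
      rw [frobE_apply, frobE_apply, ← trace_pow_even hF 1 (u * v ^ (q ^ m)), mul_one, natCard_F hF]
      congr 1
      ring) (Nat.card F : ℤ) ((Nat.card F : ℤ) ^ (m - 1))
    (frobE_conj F ζ) (by
      rw [← pow_succ', Nat.sub_add_cancel (by omega), ← Nat.cast_pow, zpow_natCast, ← map_pow]
      congr 1
      apply Units.ext
      have := Fintype.ofFinite L
      rw [Units.val_pow_eq_pow_val, ← hL, Nat.card_eq_fintype_card, FiniteField.pow_card]) (by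
      intro h5
      rw [natCard_F hF, Nat.cast_pow, ← pow_mul, ← (even_two_mul (m - 1)).neg_pow (q : ℤ)] at h5
      have h6 := (dvd_pow_sub_one_iff (p := p) (x := -(q : ℤ)) (2 * (m - 1))).1 h5
      rw [he] at h6
      have h7 : m ∣ m - 1 := (Nat.Coprime.dvd_mul_left (Nat.coprime_comm.1 (Nat.coprime_two_left.2 hm))).1 h6
      have := Nat.le_of_dvd (by omega) h7
      omega) hp2 (by
      intro h5
      have h6 := (dvd_pow_sub_one_iff (p := p) (x := -(q : ℤ)) 1).1 (by
        have e : (-(q : ℤ)) ^ 1 - 1 = -((q + 1 : ℕ) : ℤ) := by push_cast; ring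
        rw [e, dvd_neg]
        exact Int.natCast_dvd_natCast.2 h5)
      rw [he, Nat.dvd_one] at h6
      omega) (n := n) (by rw [hfc, hLr]; exact Nat.div_mul_le_self n m) (by rw [hfc, ha]; exact hord)
  rwa [hfc] at h

end

end Cfsg.Agent.H749
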