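import Mathlib
import Cfsg.Agent.H749.PlaneBlock
import Cfsg.Agent.H749.RowL
import Cfsg.Agent.H749.FullTr
import Cfsg.Agent.S0245

/-!
# `FullP` for `Sp_{2m}(q)` and `PSp_{2m}(q)`, `p` odd not dividing `q` (helper749)

`d` the order of `q²` modulo `p`, `p d ≤ m`: `FullP p (Sp_{2m}(q))` (`fullSp`).
-/

set_option autoImplicit false
set_option linter.unusedSectionVars false

namespace Cfsg.Agent.H749

section order

variable {p : ℕ} [hp : Fact p.Prime]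

theorem orderOf_zero' : orderOf (0 : ZMod p) = 0 := by
  rw [orderOf_eq_zero_iff']
  intro m hm
  rw [zero_pow hm.ne']
  exact zero_ne_one

/-- `p` does not divide `x` if `x` has positive order modulo `p` -/
theorem not_dvd_of_order {x : ℤ} {d : ℕ} (hd : orderOf (x : ZMod p) = d) (hd0 : d ≠ 0) : ¬ (p : ℤ) ∣ x := by
  intro h1
  have h2 : (x : ZMod p) = 0 := (ZMod.intCast_zmod_eq_zero_iff_dvd _ _).2 h1
  rw [h2, orderOf_zero'] at hd
  exact hd0 hd.symm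

/-- the valuation of the order of `Sp_{2m}(q)` -/
theorem vp_Sp {F : Type*} [Field F] [Finite F] (hp2 : p ≠ 2) {d : ℕ} (hd : orderOf (((Nat.card F : ℤ) ^ 2 : ℤ) : ZMod p) = d)
    (hd0 : d ≠ 0) (m : ℕ) :
    (Nat.card (Matrix.symplecticGroup (Fin m) F)).factorization p =
      (m / d) * vp p (((Nat.card F : ℤ) ^ 2) ^ d - 1) + (m / d).factorial.factorization p := by
  have := Fintype.ofFinite F
  obtain ⟨q, hq⟩ : ∃ q, q = Nat.card F := ⟨_, rfl⟩
  have h := S0245.result (F := F) (q := q) (by rw [hq, Nat.card_eq_fintype_card]) m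
  have hq1 : 1 < q := by rw [hq]; exact Finite.one_lt_card
  rw [← hq] at hd ⊢
  have hpq : ¬ (p : ℤ) ∣ (q : ℤ) := fun h1 => not_dvd_of_order hd hd0 (dvd_pow h1 two_ne_zero)
  have hZ : (Nat.card (Matrix.symplecticGroup (Fin m) F) : ℤ) =
      (q : ℤ) ^ (m ^ 2) * ∏ i ∈ Finset.range m, (((q : ℤ) ^ 2) ^ (i + 1) - 1) := by
    rw [h, Nat.cast_mul, Nat.cast_pow, Nat.cast_prod]
    congr 1
    refine Finset.prod_congr rfl fun i _ => ?_
    rw [Nat.cast_sub (Nat.one_le_pow _ _ (by omega)), Nat.cast_pow, pow_mul]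
    rfl
  have hx : ∀ i : ℕ, i ≠ 0 → ((q : ℤ) ^ 2) ^ i ≠ 1 := by
    intro i hi
    rw [← pow_mul]
    exact pow_ne_one' hq1 _ (by omega)
  have h2 := congrArg (vp p) hZ
  rw [vp_mul p (pow_ne_zero _ (by omega)) (Finset.prod_ne_zero_iff.2 fun i _ => sub_ne_zero.2 (hx _ (Nat.succ_ne_zero i))),
    vp_prod hp2 hd hx, vp_natCast] at h2
  have h4 : vp p ((q : ℤ) ^ (m ^ 2)) = 0 := by
    apply vp_eq_zero
    intro h4
    exact hpq ((Nat.prime_iff_prime_int.1 hp.out).dvd_of_dvd_pow h4)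
  rw [h4, zero_add] at h2
  exact h2

end order

section

variable {p : ℕ} [hp : Fact p.Prime] {F : Type*} [Field F] [Finite F]

/-- the extension `L` and the element `ζ` for the order `d` of `q²` -/
theorem exists_plane (hp2 : p ≠ 2) {d : ℕ} (hd : orderOf (((Nat.card F : ℤ) ^ 2 : ℤ) : ZMod p) = d) (hd0 : d ≠ 0) :
    ∃ (L : Type) (_ : Field L) (_ : Finite L) (_ : Algebra F L) (L' : Type) (_ : Field L') (_ : Algebra L L') (ζ : L'ˣ)
      (τ : L), Module.finrank F L = d ∧ algebraMap L L' τ = (ζ : L') + ((ζ⁻¹ : L'ˣ) : L') ∧ ζ ^ 2 ≠ 1 ∧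
      vp p (((Nat.card F : ℤ) ^ 2) ^ d - 1) ≠ 0 ∧ orderOf ζ = p ^ vp p (((Nat.card F : ℤ) ^ 2) ^ d - 1) := by
  have hq1 : 1 < Nat.card F := Finite.one_lt_card
  obtain ⟨L, _, _, _, hLcard, hLrank⟩ := exists_ext F d hd0
  obtain ⟨a, ha⟩ : ∃ a, a = vp p (((Nat.card F : ℤ) ^ 2) ^ d - 1) := ⟨_, rfl⟩
  have hcast : ((Nat.card L ^ 2 - 1 : ℕ) : ℤ) = ((Nat.card F : ℤ) ^ 2) ^ d - 1 := by
    rw [hLcard, Nat.cast_sub (Nat.one_le_pow _ _ (Nat.pow_pos (by omega))), Nat.cast_pow, Nat.cast_pow, ← pow_mul, ← pow_mul,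
      mul_comm d 2]
    rfl
  have hne : ((Nat.card F : ℤ) ^ 2) ^ d - 1 ≠ 0 := by
    rw [← pow_mul]
    exact sub_ne_zero.2 (pow_ne_one' hq1 _ (by omega))
  have ha0 : a ≠ 0 := by
    rw [ha]
    exact (vp_pos hne ((dvd_pow_sub_one_iff d).2 hd.dvd)).ne'
  have hadvd : p ^ a ∣ Nat.card L ^ 2 - 1 := by
    rw [ha, ← hcast, vp_natCast]
    exact Nat.ordProj_dvd _ _
  obtain ⟨L', _, _, _, ζ, τ, hτ, hζo, hζ⟩ := exists_tau (L := L) hp2 ha0 hadvd
  exact ⟨L, inferInstance, inferInstance, inferInstance, L', inferInstance, inferInstance, ζ, τ, hLrank, hτ, hζ,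
    ha ▸ ha0, ha ▸ hζo⟩

theorem not_dvd_neg_two (hp2 : p ≠ 2) : ¬ (p : ℤ) ∣ (-1 : ℤ) - 1 := by
  intro h
  have h1 : (p : ℤ) ∣ ((2 : ℕ) : ℤ) := by
    have := (dvd_neg (α := ℤ)).2 h
    simpa using this
  exact hp2 ((Nat.prime_dvd_prime_iff_eq hp.out Nat.prime_two).1 (Int.natCast_dvd_natCast.1 h1))

/-- **`Sp_{2m}(q)`: `FullP` for `p ≤ m / d`, abelian Sylow subgroups for `m / d < p`.** -/
theorem dichSp (hp2 : p ≠ 2) {d : ℕ} (hd : orderOf (((Nat.card F : ℤ) ^ 2 : ℤ) : ZMod p) = d) (hd0 : d ≠ 0) (m : ℕ) :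
    DichN p (m / d) (Matrix.symplecticGroup (Fin m) F) := by
  have hpq : ¬ p ∣ Nat.card F := fun h =>
    not_dvd_of_order hd hd0 (dvd_pow (Int.natCast_dvd_natCast.2 h) two_ne_zero)
  have hpF : (p : F) ≠ 0 := cast_ne_zero_of hpq
  obtain ⟨L, _, _, _, L', _, _, ζ, τ, hLrank, hτ, hζ, ha0, hζo⟩ := exists_plane (p := p) (F := F) hp2 hd hd0
  obtain ⟨a, ha⟩ : ∃ a, a = vp p (((Nat.card F : ℤ) ^ 2) ^ d - 1) := ⟨_, rfl⟩
  rw [← ha] at ha0 hζo
  have hLfin : Module.Finite F L := Module.Finite.of_finite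
  have hz : orderOf (rs F (zL τ)) = p ^ a := by rw [orderOf_rs hτ hζ, hζo]
  have hzp := pow_order_p ha0 hz
  obtain ⟨g, hg, hgs⟩ := exists_fou_symp (F := F) hτ hζ hpF hzp (pow_order_ne ha0 hz)
  obtain ⟨T, hT, hTz⟩ := exists_inv_symp (F := F) hτ hζ
  have hker : m / d * d ≤ m := Nat.div_mul_le_self m d
  -- the symplectic space
  obtain ⟨B₀, hB₀, hB₀alt, hB₀nd⟩ : ∃ B₀ : LinearMap.BilinForm F (Fin (m - m / d * d) ⊕ Fin (m - m / d * d) → F),
      (∀ u v, B₀ u v = sympForm _ F u v) ∧ B₀.IsAlt ∧ ∀ u, (∀ v, B₀ u v = 0) → u = 0 :=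
    ⟨ClassicalGeometry.SympBasic.sympBilin _ F, fun _ _ => rfl, ClassicalGeometry.SympBasic.sympBilin_isAlt, fun _ hu =>
      ClassicalGeometry.SympBasic.eq_zero_of_forall_sympForm_right hu⟩
  have hrank : Module.finrank F ((Fin (m / d) → L × L) × (Fin (m - m / d * d) ⊕ Fin (m - m / d * d) → F)) = 2 * m := by
    rw [Module.finrank_prod, Module.finrank_pi_fintype, Module.finrank_fintype_fun_eq_card]
    simp only [Finset.sum_const, Finset.card_univ, Fintype.card_fin, Fintype.card_sum, Module.finrank_prod, hLrank, smul_eq_mul]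
    have : m / d * (d + d) = 2 * (m / d * d) := by ring
    omega
  obtain ⟨j, hj⟩ := ClassicalGeometry.SympIso.exists_linearEquiv_sympForm (k := m)
    (sumBilin (ι := Fin (m / d)) (bF F (L := L)) B₀) (sumBilin_alt (bF_alt F) hB₀alt)
    (sumBilin_nondeg bF_nondeg hB₀nd) hrank
  have hS : SimF j (sympForm m F) (sumForm (ι := Fin (m / d)) (fun u v : L × L => bF F u v) (fun u v => B₀ u v)) 1 :=
    ⟨one_ne_zero, fun x y => by rw [one_mul]; exact hj x y⟩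
  obtain ⟨e⟩ := exists_spEquiv hS
  have hfc : Fintype.card (Fin (m / d)) = m / d := Fintype.card_fin _
  rw [← hfc]
  refine dichZ (ι := Fin (m / d)) (b := fun u v : L × L => bF F u v) (fun u v => B₀ u v) (z := rs F (zL τ)) ?_ ha0 hz
    hg hgs hT (-1) (-1) hTz (by norm_num) (not_dvd_neg_two hp2) ⊤ (e.trans Subgroup.topEquiv.symm) hp2
    le_top (fun _ _ => Subgroup.mem_top _)
    (fun g i => ⟨1, fun j => by rw [Pi.mulSingle_one]; exact one_mem _, Subgroup.mem_top _⟩) ?_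
  · intro u v
    show bF F (zL τ u) (zL τ v) = bF F u v
    rw [bF_apply, bF_apply, sB_zL]
  · rw [Fintype.card_fin, vp_Sp hp2 hd hd0, ha]

/-- **`FullP` for `Sp_{2m}(q)`.** -/
theorem fullSp (hp2 : p ≠ 2) {d : ℕ} (hd : orderOf (((Nat.card F : ℤ) ^ 2 : ℤ) : ZMod p) = d) (hd0 : d ≠ 0) {m : ℕ}
    (hm : p ≤ m / d) : FullP p (Matrix.symplecticGroup (Fin m) F) :=
  (dichSp hp2 hd hd0 m).1 hm

end

end Cfsg.Agent.H749
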