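import Cfsg.Agent.H477.HC.RowMinus

/-!
# Harish-Chandra induction with an arbitrary character of the smaller classical group (helper749)

`Cmp F F' j W₀` : `W₀` totally singular, `j : X → V` an isometric embedding of `F'` onto a complement of `W₀` in `W₀ᗮ`.
`exists_rho` : the homomorphism `ρ` of the stabiliser of `W₀` to `F'.iso`; it is trivial on `F.TT W₀`, and
`(restriction to W₀, ρ)` is onto.
`exists_hc` : for `c` cuspidal, not self-dual, and ANY irreducible character `ψ₀` of `F'.iso`, if no `W' ∈ Om k` is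
orthogonal and disjoint to `W₀`, an irreducible character of `F.iso` of degree `dg F k * ψ₀ 1`.
-/

set_option autoImplicit false

open scoped ComplexConjugate
open Cfsg

namespace Cfsg.Agent.H749.Two

open Cfsg.Agent.OddOrderCharacters.Clifford Cfsg.Agent.Characters MulAction Module Cfsg.Agent.H53.HC
open Cfsg.Agent.H477.HC

universe u v w

section

variable {K : Type u} [Field K] {V : Type v} [AddCommGroup V] [Module K V] {X : Type w} [AddCommGroup X] [Module K X]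

/-- an isometric complement of `W₀` in `W₀ᗮ` -/
structure Cmp (F : CForm K V) (F' : CForm K X) (j : X →ₗ[K] V) (W₀ : Submodule K V) : Prop where
  σσ : F.σ = F'.σ
  ts : F.TS W₀
  jB : ∀ x y, F.B (j x) (j y) = F'.B x y
  jQ : ∀ x, F.Q (j x) = F'.Q x
  j1 : ∀ x, j x ∈ F.perp W₀
  j2 : ∀ v ∈ F.perp W₀, ∃ w ∈ W₀, ∃ x, v = w + j x

variable {F : CForm K V} {F' : CForm K X} {j : X →ₗ[K] V} {W₀ : Submodule K V}

/-- the projection on `j X` -/
theorem Cmp.exists_proj (h : Cmp F F' j W₀) [FiniteDimensional K X] :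
    ∃ r : V →ₗ[K] X, (∀ v y, F.B (j y) v = F'.B y (r v)) ∧ (∀ x, r (j x) = x) ∧ ∀ w ∈ W₀, r w = 0 := by
  classical
  have hex : ∀ v : V, ∃ b : X, ∀ y, F.B (j y) v = F'.B y b := by
    intro v
    exact F'.exists_dual ((F.lf v).comp j)
  choose r hr using hex
  have huniq : ∀ a b : X, (∀ y, F'.B y a = F'.B y b) → a = b := by
    intro a b hab
    have h1 : a - b = 0 := by
      refine F'.nondeg _ fun y => F'.B_eq_zero ?_
      rw [F'.B_sub_right, hab, sub_self]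
    exact sub_eq_zero.1 h1
  refine ⟨{ toFun := r, map_add' := fun a b => huniq _ _ fun y => ?_, map_smul' := fun a v => huniq _ _ fun y => ?_ },
    hr, fun x => huniq _ _ fun y => ?_, fun w hw => huniq _ _ fun y => ?_⟩
  · rw [← hr, F.B_add_right, F'.B_add_right, hr, hr]
  · rw [← hr, F.B_smul_right, RingHom.id_apply, F'.B_smul_right, hr, h.σσ]
  · change F'.B y (r (j x)) = _
    rw [← hr, h.jB]
  · change F'.B y (r w) = _
    rw [← hr, h.j1 y w hw, F'.B_zero_right]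

/-- **the action on `W₀ᗮ / W₀`** -/
theorem Cmp.exists_rho (h : Cmp F F' j W₀) [FiniteDimensional K V] [FiniteDimensional K X] :
    ∃ ρ : stabW F.iso.subtype W₀ →* F'.iso,
      (∀ (g : stabW F.iso.subtype W₀) x, ((g : F.iso) : V ≃ₗ[K] V) (j x) - j ((ρ g : X ≃ₗ[K] X) x) ∈ W₀) ∧
      (∀ g : stabW F.iso.subtype W₀, (g : F.iso) ∈ F.TT W₀ → ρ g = 1) ∧
      ∀ (a : W₀ ≃ₗ[K] W₀) (b : F'.iso), ∃ g : stabW F.iso.subtype W₀, ρ g = b ∧
        ∀ w : W₀, ((g : F.iso) : V ≃ₗ[K] V) w = a w := by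
  classical
  obtain ⟨r, hr, hrj, hrW⟩ := h.exists_proj
  have hπ : ∀ v ∈ F.perp W₀, v - j (r v) ∈ W₀ := by
    intro v hv
    obtain ⟨w, hw, x, rfl⟩ := h.j2 v hv
    rw [map_add, hrW w hw, hrj, zero_add, add_sub_cancel_right]
    exact hw
  have hgperp : ∀ (g : stabW F.iso.subtype W₀), ∀ v ∈ F.perp W₀, ((g : F.iso) : V ≃ₗ[K] V) v ∈ F.perp W₀ := by
    intro g v hv w hw
    have h1 : W₀.map (F.iso.subtype (g : F.iso) : V →ₗ[K] V) = W₀ := g.2
    rw [← h1] at hw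
    obtain ⟨w', hw', rfl⟩ := hw
    exact (F.iso_B (g : F.iso) v w').trans (hv w' hw')
  have hgW : ∀ (g : stabW F.iso.subtype W₀), ∀ v ∈ W₀, ((g : F.iso) : V ≃ₗ[K] V) v ∈ W₀ := by
    intro g v hv
    have h1 : W₀.map (F.iso.subtype (g : F.iso) : V →ₗ[K] V) = W₀ := g.2
    have : F.iso.subtype (g : F.iso) v ∈ W₀.map (F.iso.subtype (g : F.iso) : V →ₗ[K] V) := ⟨v, hv, rfl⟩
    rwa [h1] at this
  let f₀ : stabW F.iso.subtype W₀ → Module.End K X := fun g =>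
    r.comp ((((g : F.iso) : V ≃ₗ[K] V) : V →ₗ[K] V).comp j)
  have hf₀ : ∀ (g : stabW F.iso.subtype W₀) x, ((g : F.iso) : V ≃ₗ[K] V) (j x) - j (f₀ g x) ∈ W₀ := fun g x =>
    hπ _ (hgperp g _ (h.j1 x))
  have hmul : ∀ g g' : stabW F.iso.subtype W₀, f₀ (g * g') = f₀ g * f₀ g' := by
    intro g g'
    ext x
    change r (((g : F.iso) : V ≃ₗ[K] V) (((g' : F.iso) : V ≃ₗ[K] V) (j x))) = r (((g : F.iso) : V ≃ₗ[K] V) (j (f₀ g' x)))
    have h1 := hrW _ (hgW g _ (hf₀ g' x))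
    rw [map_sub, map_sub, sub_eq_zero] at h1
    exact h1
  have hone : f₀ 1 = 1 := by
    ext x
    exact hrj x
  let f₀' : stabW F.iso.subtype W₀ →* Module.End K X := { toFun := f₀, map_one' := hone, map_mul' := hmul }
  have hdec : ∀ (g : stabW F.iso.subtype W₀) x, j (f₀ g x) = ((g : F.iso) : V ≃ₗ[K] V) (j x) +
      -(((g : F.iso) : V ≃ₗ[K] V) (j x) - j (f₀ g x)) := by
    intro g x; abel
  have hfB : ∀ (g : stabW F.iso.subtype W₀) x y, F'.B (f₀ g x) (f₀ g y) = F'.B x y := by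
    intro g x y
    rw [← h.jB, hdec g x, hdec g y, F.B_add_left, F.B_add_right, F.B_add_right, F.B_neg_left, F.B_neg_left,
      F.B_neg_right, F.B_neg_right, hgperp g _ (h.j1 x) _ (hf₀ g y), F.B_eq_zero (hgperp g _ (h.j1 y) _ (hf₀ g x)),
      h.ts.2 _ (hf₀ g x) _ (hf₀ g y), F.iso_B, h.jB]
    ring
  have hfQ : ∀ (g : stabW F.iso.subtype W₀) x, F'.Q (f₀ g x) = F'.Q x := by
    intro g x
    rw [← h.jQ, hdec g x, F.Q_add, F.B_neg_right, hgperp g _ (h.j1 x) _ (hf₀ g x),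
      h.ts.1 _ (W₀.neg_mem (hf₀ g x)), F.iso_Q, h.jQ, neg_zero, F.T_zero]
    ring
  let f₁ : stabW F.iso.subtype W₀ →* (X ≃ₗ[K] X) :=
    (LinearMap.GeneralLinearGroup.generalLinearEquiv K X).toMonoidHom.comp f₀'.toHomUnits
  let f₂ : stabW F.iso.subtype W₀ →* F'.iso := f₁.codRestrict F'.iso fun g => ⟨fun x y => hfB g x y, fun x => hfQ g x⟩
  have hf₂ : ∀ g x, (f₂ g : X ≃ₗ[K] X) x = f₀ g x := fun g x => rfl
  refine ⟨f₂, hf₀, fun g hg => ?_, fun a b => ?_⟩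
  · apply Subtype.ext
    ext x
    rw [hf₂]
    have h1 := hrW _ (hg.2 (j x) (h.j1 x))
    rw [map_sub, hrj, sub_eq_zero] at h1
    exact h1
  · -- surjectivity
    obtain ⟨W', hW', h0⟩ := F.exists_opp (k := finrank K W₀) ⟨h.ts, rfl⟩
    have h0' := CForm.opp_symm (F := F) rfl hW'.2 h0
    obtain ⟨gl, hgl1, -, -, hgl2⟩ := F.exists_levi h.ts hW'.1
      (fun w hw hw' => by
        have : w ∈ W₀ ⊓ F.perp W' := ⟨hw, hw'⟩
        rw [h0] at this
        exact (Submodule.mem_bot K).1 this)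
      (fun w hw hw' => by
        have : w ∈ W' ⊓ F.perp W₀ := ⟨hw, fun w' hw'' => F.B_eq_zero (hw' w' hw'')⟩
        rw [h0'] at this
        exact (Submodule.mem_bot K).1 this) a
    have hjr : ∀ v y, F.B (j y) (v - j (r v)) = 0 := by
      intro v y
      rw [F.B_sub_right, hr, h.jB, sub_self]
    have hjr' : ∀ v y, F.B (v - j (r v)) (j y) = 0 := fun v y => F.B_eq_zero (hjr v y)
    let m : V →ₗ[K] V := (LinearMap.id - j.comp r) + j.comp (((b : X ≃ₗ[K] X) : X →ₗ[K] X).comp r)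
    have hm : ∀ v, m v = (v - j (r v)) + j ((b : X ≃ₗ[K] X) (r v)) := fun v => rfl
    obtain ⟨gb, hgb⟩ := F.exists_iso m (fun v u => by
        have e1 : F.B v u = F.B ((v - j (r v)) + j (r v)) ((u - j (r u)) + j (r u)) := by
          rw [sub_add_cancel, sub_add_cancel]
        rw [hm, hm, e1, F.B_add_left, F.B_add_right, F.B_add_right, F.B_add_left, F.B_add_right, F.B_add_right,
          hjr', hjr, hjr', hjr, h.jB, h.jB, F'.iso_B])
      (fun v => by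
        have e1 : F.Q v = F.Q ((v - j (r v)) + j (r v)) := by rw [sub_add_cancel]
        rw [hm, e1, F.Q_add, F.Q_add, hjr', hjr', h.jQ, h.jQ, F'.iso_Q])
    have hgbW : ∀ w ∈ W₀, (gb : V ≃ₗ[K] V) w = w := by
      intro w hw
      rw [hgb, hm, hrW w hw, map_zero, map_zero, map_zero, sub_zero, add_zero]
    have hgbs : gb ∈ stabW F.iso.subtype W₀ := map_eq_of_le F.iso.subtype fun w hw => by
      change (gb : V ≃ₗ[K] V) w ∈ W₀
      rw [hgbW w hw]; exact hw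
    have h3 : f₂ ⟨gb, hgbs⟩ = b := by
      apply Subtype.ext
      ext x
      rw [hf₂]
      change r ((gb : V ≃ₗ[K] V) (j x)) = _
      rw [hgb, hm, hrj, sub_self, zero_add, hrj]
    refine ⟨⟨gl, hgl2.1.1⟩ * ⟨gb, hgbs⟩, ?_, fun w => ?_⟩
    · rw [map_mul, h3]
      have h4 : f₂ ⟨gl, hgl2.1.1⟩ = 1 := by
        apply Subtype.ext
        ext x
        rw [hf₂]
        have h1 := hrW _ (hgl2.1.2 (j x) (h.j1 x))
        rw [map_sub, hrj, sub_eq_zero] at h1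
        exact h1
      rw [h4, one_mul]
    · change (gl : V ≃ₗ[K] V) ((gb : V ≃ₗ[K] V) w) = _
      rw [hgbW w w.2, hgl1]

/-- the function on pairs attached to a function on the stabiliser of `W₀` -/
noncomputable def psf (F : CForm K V) (W₀ : Submodule K V) (ψ₁ : stabW F.iso.subtype W₀ → ℂ) :
    F.iso → Submodule K V → ℂ := fun g W => by
  classical
  exact if h : ∃ x : F.iso, W₀.map (F.iso.subtype x : V →ₗ[K] V) = W ∧ x⁻¹ * g * x ∈ stabW F.iso.subtype W₀ then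
    ψ₁ ⟨h.choose⁻¹ * g * h.choose, h.choose_spec.2⟩ else 0

theorem psf_eq {ψ₁ : stabW F.iso.subtype W₀ → ℂ} (hcl : IsClassFunction _ ψ₁) {g x : F.iso} {W : Submodule K V}
    (hx : W₀.map (F.iso.subtype x : V →ₗ[K] V) = W) (hg : x⁻¹ * g * x ∈ stabW F.iso.subtype W₀) :
    psf F W₀ ψ₁ g W = ψ₁ ⟨x⁻¹ * g * x, hg⟩ := by
  classical
  have h : ∃ x : F.iso, W₀.map (F.iso.subtype x : V →ₗ[K] V) = W ∧ x⁻¹ * g * x ∈ stabW F.iso.subtype W₀ :=
    ⟨x, hx, hg⟩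
  have e1 : psf F W₀ ψ₁ g W = ψ₁ ⟨h.choose⁻¹ * g * h.choose, h.choose_spec.2⟩ := dif_pos h
  rw [e1]
  obtain ⟨y, hy⟩ : ∃ y, y = h.choose := ⟨_, rfl⟩
  have h1 := h.choose_spec
  have h2 : x⁻¹ * h.choose ∈ stabW F.iso.subtype W₀ := by
    change W₀.map (F.iso.subtype (x⁻¹ * h.choose) : V →ₗ[K] V) = W₀
    rw [map_mul_apply, h1.1, ← hx, ← map_mul_apply, inv_mul_cancel, map_one]
    exact Submodule.map_id _
  have h3 := hcl ⟨x⁻¹ * g * x, hg⟩ ⟨_, h2⟩⁻¹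
  rw [inv_inv] at h3
  rw [← h3]
  congr 1
  apply Subtype.ext
  change h.choose⁻¹ * g * h.choose = (x⁻¹ * h.choose)⁻¹ * (x⁻¹ * g * x) * (x⁻¹ * h.choose)
  group

theorem psf_zero {ψ₁ : stabW F.iso.subtype W₀ → ℂ} {g : F.iso} {W : Submodule K V}
    (h : ¬ ∃ x : F.iso, W₀.map (F.iso.subtype x : V →ₗ[K] V) = W ∧ x⁻¹ * g * x ∈ stabW F.iso.subtype W₀) :
    psf F W₀ ψ₁ g W = 0 := dif_neg h

theorem psf_conj {ψ₁ : stabW F.iso.subtype W₀ → ℂ} (hcl : IsClassFunction _ ψ₁) (x g : F.iso) (W : Submodule K V) :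
    psf F W₀ ψ₁ (x * g * x⁻¹) (W.map (F.iso.subtype x : V →ₗ[K] V)) = psf F W₀ ψ₁ g W := by
  by_cases h : ∃ y : F.iso, W₀.map (F.iso.subtype y : V →ₗ[K] V) = W ∧ y⁻¹ * g * y ∈ stabW F.iso.subtype W₀
  · obtain ⟨y, hy, hy'⟩ := h
    have e1 : (x * y)⁻¹ * (x * g * x⁻¹) * (x * y) = y⁻¹ * g * y := by group
    rw [psf_eq hcl hy hy', psf_eq hcl (x := x * y) (by rw [map_mul_apply, hy]) (by rw [e1]; exact hy')]
    congr 1
    exact Subtype.ext e1
  · rw [psf_zero h, psf_zero]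
    rintro ⟨y, hy, hy'⟩
    apply h
    refine ⟨x⁻¹ * y, ?_, ?_⟩
    · rw [map_mul_apply, hy, ← map_mul_apply, inv_mul_cancel, map_one]
      exact Submodule.map_id _
    · have e1 : (x⁻¹ * y)⁻¹ * g * (x⁻¹ * y) = y⁻¹ * (x * g * x⁻¹) * y := by group
      rw [e1]; exact hy'

theorem psf_self {ψ₁ : stabW F.iso.subtype W₀ → ℂ} (hcl : IsClassFunction _ ψ₁) (g : stabW F.iso.subtype W₀) :
    psf F W₀ ψ₁ g W₀ = ψ₁ g := by
  have h1 : W₀.map (F.iso.subtype (1 : F.iso) : V →ₗ[K] V) = W₀ := by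
    rw [map_one]; exact Submodule.map_id _
  have h2 : (1 : F.iso)⁻¹ * g * 1 = g := by group
  rw [psf_eq hcl h1 (by rw [h2]; exact g.2)]
  exact congrArg ψ₁ (Subtype.ext h2)

theorem TT_conj {g x : F.iso} {W : Submodule K V} (hx : W₀.map (F.iso.subtype x : V →ₗ[K] V) = W) (hg : g ∈ F.TT W) :
    x⁻¹ * g * x ∈ F.TT W₀ := by
  have hg' : W.map (F.iso.subtype g : V →ₗ[K] V) = W := hg.1
  have h1 : W.map (F.iso.subtype x⁻¹ : V →ₗ[K] V) = W₀ := by
    rw [← hx, ← map_mul_apply, inv_mul_cancel, map_one]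
    exact Submodule.map_id _
  refine ⟨?_, fun v hv => ?_⟩
  · rw [map_mul_apply, map_mul_apply, hx, hg', h1]
  · have h2 : (x : V ≃ₗ[K] V) v ∈ F.perp W := by
      intro w hw
      rw [← hx] at hw
      obtain ⟨w', hw', rfl⟩ := hw
      exact (F.iso_B x v w').trans (hv w' hw')
    have h3 := hg.2 _ h2
    have h4 : ((x⁻¹ * g * x : F.iso) : V ≃ₗ[K] V) v - v =
        ((x⁻¹ : F.iso) : V ≃ₗ[K] V) ((g : V ≃ₗ[K] V) ((x : V ≃ₗ[K] V) v) - (x : V ≃ₗ[K] V) v) := by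
      rw [map_sub]
      have : ((x⁻¹ : F.iso) : V ≃ₗ[K] V) ((x : V ≃ₗ[K] V) v) = v := (x : V ≃ₗ[K] V).symm_apply_apply v
      rw [this]
      rfl
    rw [h4, ← h1]
    exact ⟨_, h3, rfl⟩

/-- **Harish-Chandra induction of `c ⊗ ψ₁`**, `ψ₁` an irreducible character of the stabiliser of `W₀` trivial on
`F.TT W₀`, when no member of `Om k` is orthogonal and disjoint to `W₀`. -/
theorem exists_hc_stab [Finite K] [FiniteDimensional K V] [Finite V] {k : ℕ} {Z : Kˣ → Prop} {c : GL (Fin k) K → ℂ}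
    (hc : Cus K k F.σ Z c) (hW₀ : W₀ ∈ F.Om k) {ψ₁ : stabW F.iso.subtype W₀ → ℂ} (hψ : IsIrrCharacter _ ψ₁)
    (hT : ∀ g : stabW F.iso.subtype W₀, (g : F.iso) ∈ F.TT W₀ → ψ₁ g = ψ₁ 1)
    (hW : ∀ W' ∈ F.Om k, W₀ ≤ F.perp W' → W₀ ⊓ W' = ⊥ → False) :
    ∃ χ : F.iso → ℂ, IsIrrCharacter F.iso χ ∧ χ 1 = dg F k * ψ₁ 1 ∧
      ∀ (z : F.iso) (a : Kˣ), (∀ v, (z : V ≃ₗ[K] V) v = (a : K) • v) →
        (∀ hs : z ∈ stabW F.iso.subtype W₀, c (Matrix.GeneralLinearGroup.scalar (Fin k) a) * ψ₁ ⟨z, hs⟩ = c 1 * ψ₁ 1) →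
        χ z = χ 1 := by
  classical
  have := finite_Om F k
  have := finite_iso F
  let _ := Fintype.ofFinite (F.Om k)
  let _ := Fintype.ofFinite F.iso
  have hcl := Core.isIrr_isClassFunction hc.irr
  have hcl1 := Core.isIrr_isClassFunction hψ
  obtain ⟨W₁, hW₁, hopp⟩ := F.exists_opp hW₀
  have hψT : ∀ W ∈ F.Om k, ∀ g ∈ F.TT W, psf F W₀ ψ₁ g W = psf F W₀ ψ₁ 1 W := by
    intro W hWk g hg
    obtain ⟨x, hx⟩ := F.trans_Om hW₀ hWk
    have h1 := TT_conj hx hg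
    have h2 : x⁻¹ * 1 * x ∈ stabW F.iso.subtype W₀ := by
      rw [mul_one, inv_mul_cancel]; exact Subgroup.one_mem _
    rw [psf_eq hcl1 hx h1.1, psf_eq hcl1 hx h2, hT _ h1]
    congr 1
    apply Subtype.ext
    change 1 = x⁻¹ * 1 * x
    group
  have hirr : IsIrrCharacter (stabW F.iso.subtype W₀) (fun g => psf F W₀ ψ₁ g W₀) := by
    have : (fun g : stabW F.iso.subtype W₀ => psf F W₀ ψ₁ g W₀) = ψ₁ := by
      funext g
      exact psf_self hcl1 g
    rw [this]; exact hψ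
  have hval1 : ∀ W ∈ F.Om k, psf F W₀ ψ₁ 1 W = ψ₁ 1 := by
    intro W hWk
    obtain ⟨x, hx⟩ := F.trans_Om hW₀ hWk
    have h2 : x⁻¹ * 1 * x ∈ stabW F.iso.subtype W₀ := by
      rw [mul_one, inv_mul_cancel]; exact Subgroup.one_mem _
    rw [psf_eq hcl1 hx h2]
    congr 1
    apply Subtype.ext
    change x⁻¹ * 1 * x = 1
    group
  refine ⟨F.hc c (psf F W₀ ψ₁), F.isIrr_hc hc.irr hc.cusp hc.dual (psf_conj hcl1) hψT hW₀
    (fun W hWk => F.trans_Om hW₀ hWk) (F.isIrr_stab hc.irr hψT hW₀ hW₁ hopp hirr)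
    (fun W' hW' h1 h2 => (hW W' hW' h1 h2).elim), ?_, fun z a hz h => ?_⟩
  · rw [F.hc_one hcl _ hval1, hc.deg]
    unfold dg
    push_cast
    ring
  · unfold CForm.hc
    refine Finset.sum_congr rfl fun W _ => ?_
    have hfix : ∀ U : Submodule K V, U.map (F.iso.subtype z : V →ₗ[K] V) = U := fun U =>
      map_eq_of_le F.iso.subtype fun w hw => by
        change (z : V ≃ₗ[K] V) w ∈ U
        rw [hz]; exact U.smul_mem _ hw
    have h' : W.1.map (F.iso.subtype 1 : V →ₗ[K] V) = W.1 := Submodule.map_id _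
    rw [hval1 W.1 W.2, flagTerm_of F.iso.subtype c (hfix W.1), flagTerm_of F.iso.subtype c h',
      cl_eq hcl (finBasisOfFinrankEq K W.1 W.2.2)]
    have e2 : res (F.iso.subtype 1) W.1 h' = 1 := by
      ext w
      rfl
    rw [e2, cl_one hcl (finBasisOfFinrankEq K W.1 W.2.2), ← h (hfix W₀)]
    obtain ⟨x, hx⟩ := F.trans_Om hW₀ W.2
    have hzx : x⁻¹ * z * x = z := by
      apply Subtype.ext
      ext v
      change ((x⁻¹ : F.iso) : V ≃ₗ[K] V) ((z : V ≃ₗ[K] V) ((x : V ≃ₗ[K] V) v)) = (z : V ≃ₗ[K] V) v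
      rw [hz, hz, map_smul]
      congr 1
      exact (x : V ≃ₗ[K] V).symm_apply_apply v
    have hzs : x⁻¹ * z * x ∈ stabW F.iso.subtype W₀ := by rw [hzx]; exact hfix W₀
    rw [psf_eq hcl1 hx hzs]
    congr 2
    · ext i j
      rw [coe_glE, LinearMap.toMatrix_apply]
      have e2 : (res (F.iso.subtype z) W.1 (hfix W.1) : W.1 →ₗ[K] W.1) (finBasisOfFinrankEq K W.1 W.2.2 j) =
          (a : K) • (finBasisOfFinrankEq K W.1 W.2.2 j) := Subtype.ext (hz _)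
      rw [e2, map_smul, Finsupp.smul_apply, Basis.repr_self, smul_eq_mul, Matrix.GeneralLinearGroup.coe_scalar,
        Matrix.scalar_apply, Matrix.diagonal_apply, Finsupp.single_apply]
      by_cases hij : i = j
      · simp [hij]
      · rw [if_neg hij, if_neg (Ne.symm hij), mul_zero]
    · exact Subtype.ext hzx

/-- **Harish-Chandra induction with an arbitrary irreducible character of the smaller group.** -/
theorem exists_hc [Finite K] [FiniteDimensional K V] [Finite V] [FiniteDimensional K X] (h : Cmp F F' j W₀)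
    {k : ℕ} {Z : Kˣ → Prop} {c : GL (Fin k) K → ℂ}
    (hc : Cus K k F.σ Z c) (hW₀ : W₀ ∈ F.Om k) {ψ₀ : F'.iso → ℂ} (hψ : IsIrrCharacter _ ψ₀)
    (hW : ∀ W' ∈ F.Om k, W₀ ≤ F.perp W' → W₀ ⊓ W' = ⊥ → False) :
    ∃ χ : F.iso → ℂ, IsIrrCharacter F.iso χ ∧ χ 1 = dg F k * ψ₀ 1 ∧
      ∀ (z : F.iso) (a : Kˣ), (∀ v, (z : V ≃ₗ[K] V) v = (a : K) • v) →
        (∀ z' : F'.iso, (∀ x, (z' : X ≃ₗ[K] X) x = (a : K) • x) →
          c (Matrix.GeneralLinearGroup.scalar (Fin k) a) * ψ₀ z' = c 1 * ψ₀ 1) →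
        χ z = χ 1 := by
  classical
  obtain ⟨ρ, hρ1, hρ2, hρ3⟩ := h.exists_rho
  obtain ⟨r, hr, hrj, hrW⟩ := h.exists_proj
  have hsurj : Function.Surjective ρ := fun b => by
    obtain ⟨g, hg, -⟩ := hρ3 1 b
    exact ⟨g, hg⟩
  obtain ⟨χ, hχ, hχ1, hχz⟩ := exists_hc_stab hc hW₀ (Core.isIrr_comp ρ hsurj hψ) (fun g hg => by
    rw [Function.comp_apply, Function.comp_apply, hρ2 g hg, map_one]) hW
  refine ⟨χ, hχ, by rw [hχ1, Function.comp_apply, map_one], fun z a hz h1 => hχz z a hz fun hs => ?_⟩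
  rw [Function.comp_apply, Function.comp_apply, map_one]
  refine h1 _ fun x => ?_
  have h2 := hrW _ (hρ1 ⟨z, hs⟩ x)
  rw [map_sub, hrj, sub_eq_zero] at h2
  rw [← h2]
  change r ((z : V ≃ₗ[K] V) (j x)) = _
  rw [hz, map_smul, hrj]

end

end Cfsg.Agent.H749.Two
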