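import Mathlib
import Cfsg.Agent.GenOrth.Normal

/-!
# Embeddings of quadratic spaces over finite fields (helper749)

* `exists_value` : a nondegenerate form in dimension at least two is universal;
* `exists_embed` : a nondegenerate space of dimension `2 m` embeds in every nondegenerate space of dimension at least `2 m + 2`;
* `exists_compl` : the orthogonal complement of an embedded nondegenerate space.
-/

set_option autoImplicit false
set_option linter.unusedSectionVars false

namespace Cfsg.Agent.H749

open QuadraticMap Cfsg.Agent.LieClassical.OrthCore Cfsg.Agent.LieClassical.OrthTrans Cfsg.Agent.GenOrth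

universe u v w

variable {F : Type w} [Field F]

/-- a nondegenerate form in dimension at least two is universal -/
theorem exists_value [Finite F] {V : Type*} [AddCommGroup V] [Module F V] {Q : QuadraticForm F V} (hQ : Nondeg Q)
    (hd : 2 ≤ Module.finrank F V) (c : F) : ∃ v : V, Q v = c := by
  have : Module.Finite F V := Module.finite_of_finrank_pos (by omega)
  have hyp : ∀ x : V, x ≠ 0 → Q x = 0 → ∃ v : V, Q v = c := by
    intro x hx0 hx
    obtain ⟨y, h⟩ := hyp_of_sing hQ hx0 hx
    refine ⟨x + c • y, ?_⟩
    rw [Q_add, QuadraticMap.map_smul, polar_smul_right, h.left, h.right, h.pair]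
    simp
  by_cases hc : c = 0
  · exact ⟨0, by rw [QuadraticMap.map_zero, hc]⟩
  let Q' : QuadraticForm F (V × F) := Q.prod ((-c) • QuadraticMap.sq)
  obtain ⟨⟨x, t⟩, hne, h, -⟩ := Cfsg.Agent.LieClassical.OrthFinite.exists_sing_perp (Q := Q') (n := 0) ![] (by
    rw [Module.finrank_prod, Module.finrank_self]; omega)
  have h' : Q x + (-c) * (t * t) = 0 := h
  by_cases ht : t = 0
  · rw [ht, mul_zero, mul_zero, add_zero] at h'
    refine hyp x ?_ h'
    rintro rfl
    exact hne (by rw [ht]; rfl)
  · refine ⟨t⁻¹ • x, ?_⟩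
    rw [QuadraticMap.map_smul, smul_eq_mul]
    field_simp
    linear_combination h'

/-- a basis of a nondegenerate plane with second vector of nonzero norm -/
theorem exists_basis_two {U : Type*} [AddCommGroup U] [Module F U] {Q : QuadraticForm F U} (hQ : Nondeg Q)
    (hd : Module.finrank F U = 2) : ∃ b : Module.Basis (Fin 2) F U, Q (b 1) ≠ 0 := by
  have : Module.Finite F U := Module.finite_of_finrank_pos (by omega)
  let b := Module.finBasisOfFinrankEq F U hd
  by_cases h1 : Q (b 1) ≠ 0
  · exact ⟨b, h1⟩
  push Not at h1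
  by_cases h0 : Q (b 0) ≠ 0
  · exact ⟨b.reindex (Equiv.swap 0 1), by simpa using h0⟩
  push Not at h0
  -- `Q (b 0 + b 1) = polar ≠ 0`
  have hp : polar Q (b 0) (b 1) ≠ 0 := by
    intro hp
    apply b.ne_zero 0
    apply hQ
    intro y
    have hy : y = b.repr y 0 • b 0 + b.repr y 1 • b 1 := by
      conv_lhs => rw [← b.sum_repr y, Fin.sum_univ_two]
    rw [hy, polar_add_right, polar_smul_right, polar_smul_right, hp, polar_self_of_sing h0]
    simp
  obtain ⟨b', hb'⟩ : ∃ b' : Module.Basis (Fin 2) F U, b' 1 = b 0 + b 1 := by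
    have hli : LinearIndependent F ![b 0, b 0 + b 1] := by
      rw [LinearIndependent.pair_iff]
      intro s t hst
      have h2 : (s + t) • b 0 + t • b 1 = 0 := by rw [← hst]; module
      have h3 := Fintype.linearIndependent_iff.1 b.linearIndependent ![s + t, t] (by
        rw [Fin.sum_univ_two]; exact h2)
      have h4 : s + t = 0 := h3 0
      have h5 : t = 0 := h3 1
      exact ⟨by rw [h5, add_zero] at h4; exact h4, h5⟩
    exact ⟨basisOfLinearIndependentOfCardEqFinrank hli (by rw [hd]; rfl), by simp⟩
  refine ⟨b', ?_⟩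
  rw [hb', Q_add, h0, h1, zero_add, zero_add]
  exact hp

theorem exists_embed [Finite F] : ∀ (m : ℕ) {U : Type u} [AddCommGroup U] [Module F U] {V : Type v} [AddCommGroup V]
    [Module F V] [Module.Finite F U] [Module.Finite F V] {QU : QuadraticForm F U} {QV : QuadraticForm F V}, Nondeg QU → Nondeg QV →
    Module.finrank F U = 2 * m → 2 * m + 2 ≤ Module.finrank F V → ∃ j : U →ₗ[F] V, ∀ x, QV (j x) = QU x := by
  intro m
  induction m with
  | zero =>
    intro U _ _ V _ _ _ _ QU QV _ _ hU _
    have : Subsingleton U := Module.finrank_zero_iff.1 hU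
    refine ⟨0, fun x => ?_⟩
    rw [Subsingleton.elim x 0, map_zero, QuadraticMap.map_zero, QuadraticMap.map_zero]
  | succ m ih =>
    intro U _ _ V _ _ _ _ QU QV hQU hQV hU hV
    obtain ⟨x, y, h⟩ := exists_hyp_of_nondeg hQV (by omega)
    have hrV := finrank_Comp (split_of_hyp h)
    by_cases hm : m = 0
    · subst hm
      obtain ⟨b, hb⟩ := exists_basis_two hQU (by omega)
      obtain ⟨w, hw⟩ := exists_value (nondeg_restr hQV (split_of_hyp h)) (by omega) (QU (b 1))
      obtain ⟨hw1, hw2⟩ := mem_Comp.1 w.2
      have hw' : QV (w : V) = QU (b 1) := hw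
      -- `b 0 ↦ x + Q(b 0) y`, `b 1 ↦ polar y + w`
      refine ⟨b.constr F ![x + QU (b 0) • y, polar QU (b 0) (b 1) • y + (w : V)], fun u => ?_⟩
      have hu : u = b.repr u 0 • b 0 + b.repr u 1 • b 1 := by
        conv_lhs => rw [← b.sum_repr u, Fin.sum_univ_two]
      have hc : b.constr F ![x + QU (b 0) • y, polar QU (b 0) (b 1) • y + (w : V)] u =
          b.repr u 0 • (x + QU (b 0) • y) + b.repr u 1 • (polar QU (b 0) (b 1) • y + (w : V)) := by
        rw [Module.Basis.constr_apply_fintype, Fin.sum_univ_two]
        rfl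
      rw [hc]
      generalize b.repr u 0 = s at hu ⊢
      generalize b.repr u 1 = t at hu ⊢
      rw [hu]
      have e1 : polar QV x (w : V) = 0 := (split_of_hyp h).px _ hw1 hw2
      have e2 : polar QV y (w : V) = 0 := (split_of_hyp h).py _ hw1 hw2
      have e3 := h.pair
      have e4 := h.left
      have e5 := h.right
      have e6 := h.polar_right
      simp only [Q_add, QuadraticMap.map_smul, polar_smul_left, polar_smul_right, polar_add_left, polar_add_right, e1, e2, e3,
        e4, e5, e6, hw', smul_eq_mul]
      ring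
    · obtain ⟨x', y', h'⟩ := exists_hyp_of_nondeg hQU (by omega)
      have hrU := finrank_Comp (split_of_hyp h')
      obtain ⟨j, hj⟩ := ih (nondeg_restr hQU (split_of_hyp h')) (nondeg_restr hQV (split_of_hyp h)) (by omega) (by omega)
      refine ⟨(splitEquiv (split_of_hyp h)).toLinearMap ∘ₗ (j.prodMap LinearMap.id) ∘ₗ
        (splitEquiv (split_of_hyp h')).symm.toLinearMap, fun v => ?_⟩
      obtain ⟨⟨w, a, b⟩, rfl⟩ := (splitEquiv (split_of_hyp h')).surjective v
      have e : ((splitEquiv (split_of_hyp h)).toLinearMap ∘ₗ (j.prodMap LinearMap.id) ∘ₗ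
        (splitEquiv (split_of_hyp h')).symm.toLinearMap) ((splitEquiv (split_of_hyp h')) (w, a, b)) =
          splitEquiv (split_of_hyp h) (j w, a, b) := by
        simp only [LinearMap.comp_apply, LinearEquiv.coe_coe, LinearEquiv.symm_apply_apply]
        rfl
      rw [e, Q_splitEquiv, Q_splitEquiv, h.left, h.right, h.pair, h'.left, h'.right, h'.pair, ← restr_apply, hj, restr_apply]

/-- the orthogonal complement of an embedded space -/
theorem exists_compl {U : Type u} [AddCommGroup U] [Module F U] {V : Type v} [AddCommGroup V]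
    [Module F V] [Module.Finite F U] {QU : QuadraticForm F U} {QV : QuadraticForm F V} (hQU : Nondeg QU)
    (hQV : Nondeg QV) (j : U →ₗ[F] V) (hj : ∀ x, QV (j x) = QU x) :
    ∃ (K : Submodule F V) (Φ : (U × K) ≃ₗ[F] V), (∀ u w, QV (Φ (u, w)) = QU u + QV (w : V)) ∧
      Nondeg (QV.comp K.subtype) := by
  let e : Emb QV QU := ofLin j 1 one_ne_zero (fun x => by rw [hj, one_mul]) hQU
  have hej : ∀ x, e.j x = j x := fun _ => rfl
  have hadj : ∀ x v, polar QV (j x) v = polar QU x (e.π v) := fun x v => by
    have := e.adj x v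
    rw [hej] at this
    rw [this]
    exact one_mul _
  have hπj : ∀ x, e.π (j x) = x := fun x => e.π_j x
  let K : Submodule F V := LinearMap.ker e.π
  let Φ : (U × K) ≃ₗ[F] V :=
    { toFun := fun p => j p.1 + p.2
      map_add' := fun p p' => by
        simp only [Prod.fst_add, Prod.snd_add, map_add, Submodule.coe_add]; abel
      map_smul' := fun c p => by
        simp only [Prod.smul_fst, Prod.smul_snd, map_smul, Submodule.coe_smul, RingHom.id_apply, smul_add]
      invFun := fun v => (e.π v, ⟨v - j (e.π v), by
        rw [LinearMap.mem_ker, map_sub, hπj, sub_self]⟩)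
      left_inv := fun p => by
        obtain ⟨u, w, hw⟩ := p
        have hw' : e.π w = 0 := hw
        refine Prod.ext ?_ (Subtype.ext ?_)
        · show e.π (j u + w) = u
          rw [map_add, hπj, hw', add_zero]
        · show j u + w - j (e.π (j u + w)) = w
          rw [map_add, hπj, hw', add_zero, add_sub_cancel_left]
      right_inv := fun v => by
        show j (e.π v) + (v - j (e.π v)) = v
        abel }
  have hΦ : ∀ u w, Φ (u, w) = j u + (w : V) := fun _ _ => rfl
  have hperp : ∀ (u : U) (w : K), polar QV (j u) (w : V) = 0 := by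
    intro u w
    have hw' : e.π (w : V) = 0 := w.2
    rw [hadj, hw', polar_zero_right]
  refine ⟨K, Φ, fun u w => ?_, ?_⟩
  · rw [hΦ, Q_add, hj, hperp, add_zero]
  · intro w hw
    apply Subtype.ext
    apply hQV
    intro v
    obtain ⟨⟨u, w'⟩, rfl⟩ := Φ.surjective v
    rw [hΦ, polar_add_right, polar_comm QV (w : V) (j u), hperp, zero_add]
    exact hw w'

end Cfsg.Agent.H749
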