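import Mathlib
import Cfsg.Agent.H749.BlockF

/-!
# Monomial data and the kernel of a determinant (helper749)

`MonD p ι μ Γ C` : monomial data in `Γ` with a homomorphism `det : Γ →* C`, `C` abelian, `det (δ a) = ∏ θ (a i)`.
`MonD.toMon` : the monomial data `Mon p ι μ (ker det)`; `MonD.dich` : `DichN p |ι| G` for the quotients `G` of `ker det` by a
subgroup containing the centre.
-/

set_option autoImplicit false
set_option linter.unusedSectionVars false

namespace Cfsg.Agent.H749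

open Equiv Equiv.Perm

/-- monomial data with a determinant -/
structure MonD (p : ℕ) (ι μ : Type*) [Fintype ι] [DecidableEq ι] [CommGroup μ] (Γ C : Type*) [Group Γ] [CommGroup C] where
  δ : (ι → μ) →* Γ
  ρ : Perm ι →* Γ
  conj : ∀ (π : Perm ι) (a : ι → μ), ρ π * δ a * (ρ π)⁻¹ = δ (fun i => a (π.symm i))
  fus : ∀ c : Perm ι, c.IsCycle → c.support.card = p →
    ∃ a : ι → μ, a ^ p = 1 ∧ (∃ i j, a i ≠ a j) ∧ ∃ g : Γ, g * ρ c * g⁻¹ = δ a
  det : Γ →* C
  θ : μ →* C
  hθ : Function.Injective θ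
  det_δ : ∀ a, det (δ a) = ∏ i, θ (a i)
  adj : ∀ g : Γ, ∃ h : Γ, (∀ a, h * δ a = δ a * h) ∧ det (h * g) = 1

/-- the order of `D0` -/
theorem card_D0 {ι μ : Type*} [Fintype ι] [DecidableEq ι] [CommGroup μ] [Finite μ] [Nonempty ι] :
    Nat.card (D0 ι μ) * Nat.card μ = Nat.card μ ^ Fintype.card ι := by
  let f : (ι → μ) →* μ :=
    { toFun := fun a => ∏ i, a i
      map_one' := by simp
      map_mul' := fun a b => by simp [Finset.prod_mul_distrib] }
  have hf : Function.Surjective f := by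
    intro m
    obtain ⟨i⟩ : Nonempty ι := inferInstance
    exact ⟨Pi.mulSingle i m, Finset.prod_pi_mulSingle' i m Finset.univ |>.trans (by simp)⟩
  have hk : f.ker = D0 ι μ := rfl
  have h1 := (D0 ι μ).card_mul_index
  rw [← hk, Subgroup.index_ker, MonoidHom.range_eq_top.2 hf, Subgroup.card_top, Nat.card_fun,
    Nat.card_eq_fintype_card (α := ι)] at h1
  rw [← hk, h1]

namespace MonD

variable {p : ℕ} [hp : Fact p.Prime] {ι μ : Type*} [Fintype ι] [DecidableEq ι] [CommGroup μ] {Γ C : Type*} [Group Γ]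
  [CommGroup C] (M : MonD p ι μ Γ C)

theorem mem_ker_δ {a : ι → μ} : M.δ a ∈ M.det.ker ↔ ∏ i, a i = 1 := by
  rw [MonoidHom.mem_ker, M.det_δ, ← map_prod]
  constructor
  · intro h
    exact M.hθ (by rw [h, map_one])
  · intro h
    rw [h, map_one]

theorem mem_ker_ρ {π : Perm ι} (hπ : π ∈ alternatingGroup ι) : M.ρ π ∈ M.det.ker :=
  Abelianization.commutator_subset_ker _ (map_alt_mem M.ρ hπ)

/-- elements commuting with a `p`-cycle -/
theorem adj_cycle {c : Perm ι} (hc : c.IsCycle) (hcp : c.support.card = p) (g : Γ) :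
    ∃ k : Γ, k * M.ρ c * k⁻¹ = M.ρ c ∧ M.det (k * g) = 1 := by
  obtain ⟨a, -, -, g', hg'⟩ := M.fus c hc hcp
  obtain ⟨h, hh, hd⟩ := M.adj g
  refine ⟨g'⁻¹ * h * g', ?_, ?_⟩
  · have h1 := hh a
    calc g'⁻¹ * h * g' * M.ρ c * (g'⁻¹ * h * g')⁻¹ = g'⁻¹ * (h * (g' * M.ρ c * g'⁻¹)) * h⁻¹ * g' := by group
      _ = g'⁻¹ * (g' * M.ρ c * g'⁻¹) * g' := by rw [hg', h1, mul_assoc g'⁻¹, mul_inv_cancel_right]
      _ = M.ρ c := by group
  · rw [map_mul] at hd ⊢
    rw [map_mul, map_mul, map_inv, mul_comm (M.det g')⁻¹, inv_mul_cancel_right]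
    exact hd

/-- the coboundary -/
theorem exists_cob (hι : Fintype.card ι = 3) {c : Perm ι} (hc : c.IsCycle) (hcp : c.support.card = 3) {a : ι → μ}
    (ha : ∏ i, a i = 1) : ∃ b : ι → μ, ∀ i, b i * (b (c.symm i))⁻¹ = a i := by
  obtain ⟨x, hx, -⟩ := id hc
  have ho : orderOf c = 3 := by rw [hc.orderOf, hcp]
  have hc3 : ∀ y, c (c (c y)) = y := by
    intro y
    have h1 : c ^ 3 = 1 := by rw [← ho]; exact pow_orderOf_eq_one c
    have h2 := Perm.ext_iff.1 h1 y
    rwa [pow_succ, pow_succ, pow_one] at h2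
  have hx2 : c (c x) ≠ c x := fun h => hx (c.injective h)
  have hx3 : c (c x) ≠ x := by
    intro h
    have h1 := hc3 x
    rw [h] at h1
    exact hx h1
  have huniv : (Finset.univ : Finset ι) = {x, c x, c (c x)} := by
    symm
    apply Finset.eq_univ_of_card
    rw [hι, Finset.card_eq_three.2 ⟨x, c x, c (c x), Ne.symm hx, hx3.symm, hx2.symm, rfl⟩]
  have hprod : a x * a (c x) * a (c (c x)) = 1 := by
    rw [← ha, huniv, Finset.prod_insert, Finset.prod_insert, Finset.prod_singleton, mul_assoc]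
    · rw [Finset.mem_singleton]; exact hx2.symm
    · rw [Finset.mem_insert, Finset.mem_singleton]
      push Not
      exact ⟨Ne.symm hx, hx3.symm⟩
  have hs1 : c.symm x = c (c x) := by rw [Equiv.symm_apply_eq, hc3]
  have hs2 : c.symm (c x) = x := c.symm_apply_apply x
  have hs3 : c.symm (c (c x)) = c x := c.symm_apply_apply _
  refine ⟨fun i => if i = x then 1 else if i = c x then a (c x) else a (c x) * a (c (c x)), fun i => ?_⟩
  have hi : i ∈ (Finset.univ : Finset ι) := Finset.mem_univ i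
  rw [huniv, Finset.mem_insert, Finset.mem_insert, Finset.mem_singleton] at hi
  rcases hi with rfl | rfl | rfl
  · simp only [hs1, if_true, if_neg hx3, if_neg hx2, one_mul]
    rw [inv_eq_iff_mul_eq_one, mul_comm, ← mul_assoc]
    exact hprod
  · simp only [hs2, if_true, if_neg hx]
    simp
  · simp only [hs3, if_true, if_neg hx, if_neg hx3, if_neg hx2]
    rw [mul_comm (a (c x)), mul_inv_cancel_right]

/-- **The monomial data in the kernel of the determinant.** -/
def toMon (h3 : Fintype.card ι = 3 → p = 3) : Mon p ι μ M.det.ker where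
  δ := (M.δ.comp (D0 ι μ).subtype).codRestrict M.det.ker fun a => M.mem_ker_δ.2 (mem_D0.1 a.2)
  ρ := (M.ρ.comp (alternatingGroup ι).subtype).codRestrict M.det.ker fun π => M.mem_ker_ρ π.2
  conj π a := Subtype.ext (M.conj π.1 a.1)
  swap := by
    intro π
    obtain ⟨h, hh, hd⟩ := M.adj (M.ρ π)
    refine ⟨⟨h * M.ρ π, hd⟩, fun a => Subtype.ext ?_⟩
    show h * M.ρ π * M.δ a.1 * (h * M.ρ π)⁻¹ = M.δ (act π a).1
    calc h * M.ρ π * M.δ a.1 * (h * M.ρ π)⁻¹ = h * (M.ρ π * M.δ a.1 * (M.ρ π)⁻¹) * h⁻¹ := by group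
      _ = M.δ (act π a).1 := by
        rw [M.conj, hh, mul_inv_cancel_right]
        rfl
  fus := by
    intro c hc hcp
    obtain ⟨a, ha, hne, g, hg⟩ := M.fus c.1 hc hcp
    obtain ⟨h, hh, hd⟩ := M.adj g
    have hprod : ∏ i, a i = 1 := by
      rw [← M.mem_ker_δ, ← hg, MonoidHom.mem_ker, map_mul, map_mul, map_inv, MonoidHom.mem_ker.1 (M.mem_ker_ρ c.2), mul_one,
        mul_inv_cancel]
    refine ⟨⟨a, hprod⟩, Subtype.ext ha, hne, ⟨h * g, hd⟩, Subtype.ext ?_⟩
    show h * g * M.ρ c.1 * (h * g)⁻¹ = M.δ a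
    calc h * g * M.ρ c.1 * (h * g)⁻¹ = h * (g * M.ρ c.1 * g⁻¹) * h⁻¹ := by group
      _ = M.δ a := by rw [hg, hh, mul_inv_cancel_right]
  three := by
    intro hι c hc hcp a
    obtain ⟨b, hb⟩ := exists_cob hι hc hcp (mem_D0.1 a.2)
    obtain ⟨k, hk, hd⟩ := M.adj_cycle hc (hcp.trans (h3 hι).symm) (M.δ b)⁻¹
    refine ⟨⟨k * (M.δ b)⁻¹, hd⟩, Subtype.ext ?_⟩
    show k * (M.δ b)⁻¹ * (M.δ a.1 * M.ρ c.1) * (k * (M.δ b)⁻¹)⁻¹ = M.ρ c.1
    have h1 : M.δ a.1 = M.δ b * (M.ρ c.1 * (M.δ b)⁻¹ * (M.ρ c.1)⁻¹) := by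
      rw [← map_inv, M.conj, ← map_mul]
      congr 1
      funext i
      exact (hb i).symm
    rw [h1]
    calc k * (M.δ b)⁻¹ * (M.δ b * (M.ρ c.1 * (M.δ b)⁻¹ * (M.ρ c.1)⁻¹) * M.ρ c.1) * (k * (M.δ b)⁻¹)⁻¹ =
        k * M.ρ c.1 * k⁻¹ := by group
      _ = M.ρ c.1 := hk

/-- **Full or abelian, for the quotient of the kernel of the determinant by its centre.** -/
theorem dich [Finite μ] [Nontrivial μ] [Nonempty ι] (hμ : ∀ m : μ, PEl p m)
    (hcyc : ∀ m : μ, m ≠ 1 → ∀ z : μ, z ^ p = 1 → ∃ n : ℕ, z = m ^ n)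
    (hinj : ∀ a π, M.δ a * M.ρ π = 1 → a = 1 ∧ π = 1) (hp2 : p ≠ 2) (hsc : ∀ (m : μ) (g : Γ), g * M.δ (fun _ => m) =
      M.δ (fun _ => m) * g) {H : Type*} [Group H] [Finite H] (e : H ≃* M.det.ker) {G : Type*} [Group G] (f : H →* G)
    (hf : Function.Surjective f) (hker : ∀ h : H, (∀ x, h * x = x * h) → f h = 1)
    (hord : (Nat.card μ).factorization p + (Nat.card H).factorization p ≤
      Fintype.card ι * (Nat.card μ).factorization p + (Fintype.card ι).factorial.factorization p) :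
    DichN p (Fintype.card ι) G := by
  have : Finite M.det.ker := Finite.of_equiv H e.toEquiv
  have hcongr : Nat.card H = Nat.card M.det.ker := Nat.card_congr e.toEquiv
  have hcD : (Nat.card (D0 ι μ)).factorization p + (Nat.card μ).factorization p =
      Fintype.card ι * (Nat.card μ).factorization p := by
    have h1 := congrArg (fun m => m.factorization p) (card_D0 (ι := ι) (μ := μ))
    rw [Nat.factorization_mul Nat.card_pos.ne' Nat.card_pos.ne', Nat.factorization_pow] at h1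
    exact h1
  have hf' : Function.Surjective (f.comp e.symm.toMonoidHom) := hf.comp e.symm.surjective
  have hker' : ∀ k : M.det.ker, (∀ x, k * x = x * k) → f.comp e.symm.toMonoidHom k = 1 := by
    intro k hk
    refine hker _ fun x => ?_
    show e.symm k * x = x * e.symm k
    apply e.injective
    rw [map_mul, map_mul, e.apply_symm_apply]
    exact hk _
  constructor
  · intro hcard
    have h3 : Fintype.card ι = 3 → p = 3 := by
      intro h
      have := hp.out.two_le
      have : p = 2 ∨ p = 3 := by omega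
      tauto
    refine FullP.of_surjective (f.comp e.symm.toMonoidHom) hf' ?_
    rintro P hP - ⟨x, hx, hx1, hPx⟩ y hy
    have hinj' : ∀ a π, (M.toMon h3).δ a * (M.toMon h3).ρ π = 1 → a = 1 ∧ π = 1 := by
      intro a π h
      obtain ⟨h4, h5⟩ := hinj a.1 π.1 (congrArg Subtype.val h)
      exact ⟨Subtype.ext h4, Subtype.ext h5⟩
    have hnt : Nontrivial ι := by
      rw [← Fintype.one_lt_card_iff_nontrivial]
      have := hp.out.one_lt
      omega
    have hcA : (Nat.card (alternatingGroup ι)).factorization p = (Fintype.card ι).factorial.factorization p := by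
      have h2 : 2 * Nat.card (alternatingGroup ι) = (Fintype.card ι).factorial := by
        rw [two_mul_nat_card_alternatingGroup, Nat.card_perm, Nat.card_eq_fintype_card]
      have h4 : (Nat.factorization 2) p = 0 := Nat.factorization_eq_zero_of_not_dvd fun h =>
        hp2 ((Nat.prime_dvd_prime_iff_eq hp.out Nat.prime_two).1 h)
      rw [← h2, Nat.factorization_mul two_ne_zero Nat.card_pos.ne', Finsupp.add_apply, h4, zero_add]
    have hord' : (Nat.card M.det.ker).factorization p ≤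
        (Nat.card (D0 ι μ) * Nat.card (alternatingGroup ι)).factorization p := by
      rw [Nat.factorization_mul Nat.card_pos.ne' Nat.card_pos.ne', Finsupp.add_apply, hcA, ← hcongr]
      omega
    obtain ⟨g, a, π, hπ, e1⟩ := exists_conj_mon (M.toMon h3).δ (M.toMon h3).ρ
      (fun a d => ⟨_, (M.toMon h3).conj a d⟩) hinj' hord' hx
    obtain ⟨g', a', π', hπ', e'⟩ := exists_conj_mon (M.toMon h3).δ (M.toMon h3).ρ
      (fun a d => ⟨_, (M.toMon h3).conj a d⟩) hinj' hord' hy
    obtain ⟨ζ, hζ1⟩ := exists_ne (1 : μ)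
    refine hP.of_conj (g := g') ?_
    rw [e']
    refine (M.toMon h3).full hμ hP hcyc hp2 hcard hζ1 hπ (a := a) ?_ ?_ a' π' hπ'
    · rw [← e1]
      exact hP.conj g hPx
    · by_contra hc
      push Not at hc
      obtain ⟨hc1, hc2⟩ := hc
      apply hx1
      obtain ⟨i₀⟩ : Nonempty ι := inferInstance
      have ha : a.1 = fun _ => a.1 i₀ := funext fun i => hc2 i i₀
      have h4 : ((M.toMon h3).δ a : M.det.ker) = ⟨M.δ (fun _ => a.1 i₀), by rw [← ha]; exact M.mem_ker_δ.2 (mem_D0.1 a.2)⟩ :=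
        Subtype.ext (congrArg M.δ ha)
      have hcen : ∀ y : M.det.ker, (M.toMon h3).δ a * y = y * (M.toMon h3).δ a := by
        intro y
        rw [h4]
        exact Subtype.ext (hsc _ _).symm
      have h5 : x = (M.toMon h3).δ a := by
        rw [hc1, map_one, mul_one] at e1
        have h6 : x = g⁻¹ * (M.toMon h3).δ a * g := by rw [← e1]; group
        rw [h6, mul_assoc, hcen, inv_mul_cancel_left]
      rw [h5]
      exact hker' _ hcen
  · intro hlt
    have h5 : (Fintype.card ι).factorial.factorization p = 0 :=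
      Nat.factorization_eq_zero_of_not_dvd fun h => by
        have := (hp.out.dvd_factorial).1 h
        omega
    refine AbelP.quot ?_ f hf
    refine AbelP.of_mulEquiv e.symm ?_
    refine AbelP.over (D := D0 ι μ) AbelP.of_comm
      ((M.δ.comp (D0 ι μ).subtype).codRestrict M.det.ker fun a => M.mem_ker_δ.2 (mem_D0.1 a.2)) ?_ ?_
    · rw [injective_iff_map_eq_one]
      intro a h
      have h1 : M.δ a.1 = 1 := congrArg Subtype.val h
      exact Subtype.ext (hinj a.1 1 (by rw [h1, map_one, mul_one])).1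
    · rw [← hcongr]
      omega

end MonD

section

variable {p : ℕ} [hp : Fact p.Prime] {F : Type*} [Field F] {ι : Type*} [Fintype ι] [DecidableEq ι] {W W₀ : Type*}
  [AddCommGroup W] [Module F W] [AddCommGroup W₀] [Module F W₀] {μ : Type*} [CommGroup μ]

/-- the fusion of a `p`-cycle -/
theorem block_fus {b : W → W → F} (b₀ : W₀ → W₀ → F) (θ : μ →* (W ≃ₗ[F] W)) (hθ : ∀ m, θ m ∈ Iso b) {ζ : μ}
    (hζ : ζ ^ p = 1) (hζ1 : ζ ≠ 1) {g : (ZMod p → W) ≃ₗ[F] (ZMod p → W)}
    (hg : g ∈ Iso (fun u v : ZMod p → W => ∑ i, b (u i) (v i)))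
    (hgs : ∀ (w : ZMod p → W) (i : ZMod p), g (fun j => w (j - 1)) i = chz (θ ζ) i (g w i)) (c : Perm ι) (hc : c.IsCycle)
    (hcp : c.support.card = p) : ∃ a : ι → μ, a ^ p = 1 ∧ (∃ i j, a i ≠ a j) ∧
      ∃ g : Iso (sumForm (ι := ι) b b₀), g * bρ b b₀ c * g⁻¹ = bδ b₀ θ hθ a := by
  obtain ⟨s, hs, hcs, hns⟩ := exists_param hc hcp
  refine ⟨Function.extend s (fun i => ζ ^ i.val) 1, ?_, ⟨s 1, s 0, ?_⟩, ⟨xt hs g, xt_mem hs hg⟩, Subtype.ext ?_⟩
  · funext x
    show (Function.extend s (fun i => ζ ^ i.val) 1 x) ^ p = 1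
    by_cases hx : ∃ i, s i = x
    · obtain ⟨i, rfl⟩ := hx
      rw [hs.extend_apply, ← pow_mul, mul_comm, pow_mul, hζ, one_pow]
    · rw [Function.extend_apply' _ _ _ hx, Pi.one_apply, one_pow]
  · rw [hs.extend_apply, hs.extend_apply, ZMod.val_zero, pow_zero, ZMod.val_one, pow_one]
    exact hζ1
  · show xt hs g * pm c * (xt hs g)⁻¹ = dg fun i => θ (Function.extend s (fun i => ζ ^ i.val) 1 i)
    rw [mul_inv_eq_iff_eq_mul]
    refine LinearEquiv.ext fun v => Prod.ext (funext fun x => ?_) rfl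
    show xtl s g.toLinearMap (pm (F := F) c v).1 x =
      θ (Function.extend s (fun i => ζ ^ i.val) 1 x) (xtl s g.toLinearMap v.1 x)
    by_cases hx : ∃ i, s i = x
    · obtain ⟨i, rfl⟩ := hx
      rw [xtl_range _ _ _ hs, xtl_range _ _ _ hs, hs.extend_apply, map_pow]
      have h1 : (pm (F := F) c v).1 ∘ s = fun j => (v.1 ∘ s) (j - 1) := by
        funext j
        show v.1 (c.symm (s j)) = v.1 (s (j - 1))
        have h2 : c.symm (s j) = s (j - 1) := by rw [Equiv.symm_apply_eq, hcs, sub_add_cancel]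
        rw [h2]
      rw [h1]
      exact hgs _ i
    · rw [xtl_not _ _ hx, xtl_not _ _ hx, Function.extend_apply' _ _ _ hx, pm_fst]
      show v.1 (c.symm x) = θ 1 (v.1 x)
      have h2 : c.symm x = x := by rw [Equiv.symm_apply_eq, hns x hx]
      rw [map_one, h2]
      rfl

end

end Cfsg.Agent.H749
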