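import Mathlib
import Cfsg.Agent.H749.HermBlock

/-!
# Hermitian blocks, even order (helper749)

`|F| = q²`, `L` an extension of degree `d`: the hermitian form
`h ((x, y), (x', y')) = Tr (x y' ^ q) + Tr (x' y ^ q) ^ q` on `L × L`, the isometry `(ζ x, ζ' y)`, `ζ ζ' ^ q = 1`, and
`T (x, y) = (y ^ (q²), x)`.
-/

set_option autoImplicit false
set_option linter.unusedSectionVars false

namespace Cfsg.Agent.H749

open Cfsg.Agent.ClassicalGeometry

section

variable {F : Type*} [Field F] [Fintype F] {q : ℕ} (hF : Fintype.card F = q ^ 2) {σ : F →+* F} (hσ : ∀ x, σ x = x ^ q)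
  {L : Type*} [Field L] [Algebra F L] [Finite L]

/-- the form -/
noncomputable def hW (q : ℕ) (σ : F →+* F) (u v : L × L) : F :=
  Algebra.trace F L (u.1 * v.2 ^ q) + σ (Algebra.trace F L (v.1 * u.2 ^ q))

include hF

theorem add_pow_one (x y : L) : (x + y) ^ q = x ^ q + y ^ q := by
  have := add_pow_q hF L 1 x y
  rwa [pow_one] at this

theorem exists_pow_q (y : L) : ∃ x : L, x ^ q = y := by
  have hinj : Function.Injective (powL hF L 1) := (powL hF L 1).injective
  have hsurj := Finite.surjective_of_injective hinj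
  obtain ⟨x, hx⟩ := hsurj y
  exact ⟨x, by rw [← hx, powL_apply, pow_one]⟩

include hσ

theorem sigma_trace (x : L) : σ (Algebra.trace F L x) = Algebra.trace F L (x ^ q) := by
  have h := trace_pow hF 1 x
  rw [pow_one] at h
  rw [h, hσ]

theorem hermF_even : HermF σ (hW (L := L) q σ) where
  add u u' v := by
    unfold hW
    rw [Prod.fst_add, Prod.snd_add, add_pow_one hF, add_mul, mul_add, map_add, map_add, map_add]
    ring
  smul c u v := by
    unfold hW
    have h1 : v.1 * (c • u).2 ^ q = σ c • (v.1 * u.2 ^ q) := by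
      rw [Prod.smul_snd, Algebra.smul_def, Algebra.smul_def, hσ, mul_pow, map_pow]
      ring
    rw [h1, Prod.smul_fst, smul_mul_assoc, map_smul, map_smul, smul_eq_mul, smul_eq_mul, map_mul σ, sigma_sigma hF hσ]
    ring
  symm u v := by
    unfold hW
    rw [map_add, sigma_sigma hF hσ, add_comm]
  nd u hu := by
    refine Prod.ext (trace_nondeg (F := F) fun y => ?_) ?_
    · obtain ⟨x, rfl⟩ := exists_pow_q hF y
      have h := hu (0, x)
      unfold hW at h
      rwa [zero_mul, map_zero, map_zero, add_zero] at h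
    · have h1 : u.2 ^ q = 0 := trace_nondeg (F := F) fun y => by
        have hq := GUBasic.two_le hF
        have h := hu (y, 0)
        unfold hW at h
        rw [zero_pow (by omega), mul_zero, map_zero, zero_add, map_eq_zero] at h
        rwa [mul_comm]
      exact (pow_eq_zero_iff (by have := GUBasic.two_le hF; omega)).1 h1

/-- the isometry `(ζ x, η y)` -/
theorem zW_mem {ζ η : Lˣ} (h : ζ * η ^ q = 1) :
    (mulE F ζ).prodCongr (mulE F η) ∈ Iso (hW (F := F) (L := L) q σ) := by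
  have h' : (ζ : L) * (η : L) ^ q = 1 := by
    rw [← Units.val_pow_eq_pow_val, ← Units.val_mul, h, Units.val_one]
  intro u v
  show Algebra.trace F L ((ζ : L) * u.1 * ((η : L) * v.2) ^ q) + σ (Algebra.trace F L ((ζ : L) * v.1 * ((η : L) * u.2) ^ q)) =
    Algebra.trace F L (u.1 * v.2 ^ q) + σ (Algebra.trace F L (v.1 * u.2 ^ q))
  have e : ∀ a b : L, (ζ : L) * a * ((η : L) * b) ^ q = a * b ^ q := fun a b => by
    calc (ζ : L) * a * ((η : L) * b) ^ q = (ζ : L) * (η : L) ^ q * (a * b ^ q) := by ring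
      _ = a * b ^ q := by rw [h', one_mul]
  rw [e, e]

variable (F L) in
/-- the map `(x, y) ↦ (y ^ |F|, x)` -/
noncomputable def tW : (L × L) ≃ₗ[F] (L × L) :=
  (LinearEquiv.prodComm F L L).trans ((frobE F L).prodCongr (LinearEquiv.refl F L))

omit hF hσ in
theorem tW_apply (u : L × L) : tW F L u = (u.2 ^ Nat.card F, u.1) := by
  show (frobE F L u.2, u.1) = _
  rw [frobE_apply]

theorem tW_mem : tW F L ∈ Iso (hW (F := F) (L := L) q σ) := by
  intro u v
  rw [tW_apply, tW_apply]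
  show Algebra.trace F L (u.2 ^ Nat.card F * v.1 ^ q) + σ (Algebra.trace F L (v.2 ^ Nat.card F * u.1 ^ q)) =
    Algebra.trace F L (u.1 * v.2 ^ q) + σ (Algebra.trace F L (v.1 * u.2 ^ q))
  have e : ∀ a b : L, Algebra.trace F L (a ^ Nat.card F * b ^ q) = σ (Algebra.trace F L (b * a ^ q)) := fun a b => by
    rw [sigma_trace hF hσ, natCard_F hF]
    congr 1
    ring
  rw [e, e, sigma_sigma hF hσ]
  ring

theorem tW_conj {ζ η : Lˣ} (h : ζ * η ^ q = 1) :
    tW F L * (mulE F ζ).prodCongr (mulE F η) * (tW F L)⁻¹ = ((mulE F ζ).prodCongr (mulE F η)) ^ (-(q : ℤ)) := by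
  have h1 : ζ = (η ^ q)⁻¹ := eq_inv_of_mul_eq_one_left h
  rw [zpow_neg, zpow_natCast, mul_inv_eq_iff_eq_mul]
  have h2 : ∀ (n : ℕ) (u : L × L), (((mulE F ζ).prodCongr (mulE F η)) ^ n) u = ((ζ : L) ^ n * u.1, (η : L) ^ n * u.2) := by
    intro n
    induction n with
    | zero => intro u; simp
    | succ n ih =>
      intro u
      rw [pow_succ, LinearEquiv.mul_apply, ih]
      show ((ζ : L) ^ n * ((ζ : L) * u.1), (η : L) ^ n * ((η : L) * u.2)) = _
      refine Prod.ext ?_ ?_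
      · show (ζ : L) ^ n * ((ζ : L) * u.1) = (ζ : L) ^ (n + 1) * u.1
        ring
      · show (η : L) ^ n * ((η : L) * u.2) = (η : L) ^ (n + 1) * u.2
        ring
  have h3 : (ζ : L) * (η : L) ^ q = 1 := by
    rw [← Units.val_pow_eq_pow_val, ← Units.val_mul, h, Units.val_one]
  rw [eq_inv_mul_iff_mul_eq]
  refine LinearEquiv.ext fun u => ?_
  show (((mulE F ζ).prodCongr (mulE F η)) ^ q) (tW F L (((mulE F ζ).prodCongr (mulE F η)) u)) = tW F L u
  rw [h2, tW_apply, tW_apply]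
  show ((ζ : L) ^ q * ((η : L) * u.2) ^ Nat.card F, (η : L) ^ q * ((ζ : L) * u.1)) = (u.2 ^ Nat.card F, u.1)
  refine Prod.ext ?_ ?_
  · show (ζ : L) ^ q * ((η : L) * u.2) ^ Nat.card F = u.2 ^ Nat.card F
    rw [natCard_F hF]
    calc (ζ : L) ^ q * ((η : L) * u.2) ^ q ^ 2 = ((ζ : L) * (η : L) ^ q) ^ q * u.2 ^ q ^ 2 := by ring
      _ = _ := by rw [h3, one_pow, one_mul]
  · show (η : L) ^ q * ((ζ : L) * u.1) = u.1
    rw [← mul_assoc, mul_comm ((η : L) ^ q), h3, one_mul]

/-- **`SU_n(q)`, `e = ord_p(-q) = 2 d` even: the block.** -/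
theorem dichU_even {p : ℕ} [hp : Fact p.Prime] (hp2 : p ≠ 2) {d : ℕ} (hL : Nat.card L = Nat.card F ^ d)
    (hLr : Module.finrank F L = d)
    (hpq : ¬ (p : ℤ) ∣ (q : ℤ)) (he : orderOf ((-(q : ℤ) : ℤ) : ZMod p) = 2 * d) (hd : d ≠ 0) {n : ℕ}
    (hord : (Nat.card (SU n F q)).factorization p ≤
      (n / (2 * d)) * vp p ((-(q : ℤ)) ^ (2 * d) - 1) + (n / (2 * d)).factorial.factorization p) :
    DichN p (n / (2 * d)) (SU n F q) := by
  have hq2 := GUBasic.two_le hF
  have hLfin : Module.Finite F L := Module.Finite.of_finite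
  have hfinL := Fintype.ofFinite L
  obtain ⟨a, ha⟩ : ∃ a, a = vp p ((-(q : ℤ)) ^ (2 * d) - 1) := ⟨_, rfl⟩
  have hq2d : 1 ≤ q ^ (2 * d) := Nat.one_le_pow _ _ (by omega)
  have hneg : (-(q : ℤ)) ^ (2 * d) - 1 = ((q ^ (2 * d) - 1 : ℕ) : ℤ) := by
    rw [(even_two_mul d).neg_pow, Nat.cast_sub hq2d]
    push_cast
    ring
  have hcardL : Nat.card L = q ^ (2 * d) := by
    rw [hL, natCard_F hF, ← pow_mul]
  have hcardL' : Fintype.card L = q ^ (2 * d) := by rw [← Nat.card_eq_fintype_card, hcardL]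
  have hq1 : 1 < q ^ (2 * d) := Nat.one_lt_pow (by omega) (by omega)
  have ha' : a = (q ^ (2 * d) - 1).factorization p := by rw [ha, hneg, vp_natCast]
  have hdvd : p ∣ q ^ (2 * d) - 1 := by
    have h := (dvd_pow_sub_one_iff (p := p) (x := -(q : ℤ)) (2 * d)).2 he.dvd
    rw [hneg] at h
    exact Int.natCast_dvd_natCast.1 h
  have ha0 : a ≠ 0 := by
    rw [ha']
    exact (hp.out.factorization_pos_of_dvd (by omega) hdvd).ne'
  have hpqn : ¬ p ∣ q := fun h => hpq (Int.natCast_dvd_natCast.2 h)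
  have hpF : (p : F) ≠ 0 := cast_ne_zero_of (by
    rw [natCard_F hF]
    exact fun h => hpqn (hp.out.dvd_of_dvd_pow h))
  -- the elements ζ, η
  obtain ⟨ζ, hζ⟩ := exists_order L (m := p ^ a) (by
    rw [hcardL, ha']
    exact Nat.ordProj_dvd _ _)
  obtain ⟨η, hη⟩ : ∃ η : Lˣ, ζ * η ^ q = 1 := by
    refine ⟨(ζ ^ q ^ (2 * d - 1))⁻¹, ?_⟩
    have h1 : ζ ^ q ^ (2 * d) = ζ := by
      apply Units.ext
      rw [Units.val_pow_eq_pow_val, ← hcardL', FiniteField.pow_card]
    rw [inv_pow, ← pow_mul, ← pow_succ, Nat.sub_add_cancel (by omega), h1, mul_inv_cancel]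
  have hzpow : ∀ n : ℕ, (((mulE F ζ).prodCongr (mulE F η)) ^ n) = (mulE F (ζ ^ n)).prodCongr (mulE F (η ^ n)) := by
    intro n
    induction n with
    | zero =>
      rw [pow_zero, pow_zero, pow_zero, map_one]
      rfl
    | succ n ih =>
      rw [pow_succ, ih, pow_succ, pow_succ, map_mul, map_mul]
      rfl
  have hηord : ∀ n : ℕ, ζ ^ n = 1 → η ^ n = 1 := by
    intro n hn
    have h1 : (η ^ n) ^ q = 1 := by
      have h2 : ζ = (η ^ q)⁻¹ := eq_inv_of_mul_eq_one_left hη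
      rw [h2, inv_pow, inv_eq_one] at hn
      rw [← pow_mul, mul_comm, pow_mul, hn]
    -- `x ↦ x ^ q` is injective on `L`
    have h3 : (powL hF L 1) ((η ^ n : Lˣ) : L) = (powL hF L 1) 1 := by
      rw [powL_apply, powL_apply, pow_one, one_pow, ← Units.val_pow_eq_pow_val, h1, Units.val_one]
    exact Units.ext ((powL hF L 1).injective h3)
  have hz1' : ∀ n : ℕ, (((mulE F ζ).prodCongr (mulE F η)) ^ n) = 1 ↔ ζ ^ n = 1 := by
    intro n
    rw [hzpow]
    constructor
    · intro h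
      have h1 := LinearEquiv.congr_fun h ((1 : L), (0 : L))
      have h2 : ((ζ ^ n : Lˣ) : L) * 1 = 1 := congrArg Prod.fst h1
      rw [mul_one] at h2
      exact Units.ext h2
    · intro h
      rw [h, hηord n h, map_one]
      rfl
  have hz : orderOf ((mulE F ζ).prodCongr (mulE F η)) = p ^ a := by
    rw [← hζ]
    refine Nat.dvd_antisymm (orderOf_dvd_of_pow_eq_one ((hz1' _).2 (pow_orderOf_eq_one ζ)))
      (orderOf_dvd_of_pow_eq_one ((hz1' _).1 (pow_orderOf_eq_one _)))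
  obtain ⟨z, hzdef⟩ : ∃ z, z = (mulE F ζ).prodCongr (mulE F η) := ⟨_, rfl⟩
  rw [← hzdef] at hz hz1' hzpow
  have hzp := pow_order_p ha0 hz
  have hzb : z ∈ Iso (hW (F := F) (L := L) q σ) := by rw [hzdef]; exact zW_mem hF hσ hη
  have hz1 : ∀ w : L × L, ∑ i : ZMod p, chz (z ^ p ^ (a - 1)) i w = 0 := by
    refine sum_chz_zero hzp fun w hw => ?_
    have hne : ζ ^ p ^ (a - 1) ≠ 1 := fun h => pow_order_ne ha0 hz ((hz1' _).2 h)
    have hne2 : η ^ p ^ (a - 1) ≠ 1 := by
      intro h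
      apply hne
      have h2 : ζ = (η ^ q)⁻¹ := eq_inv_of_mul_eq_one_left hη
      rw [h2, inv_pow, ← pow_mul, mul_comm, pow_mul, h, one_pow, inv_one]
    rw [hzpow] at hw
    have h1 : ((ζ ^ p ^ (a - 1) : Lˣ) : L) * w.1 = w.1 := congrArg Prod.fst hw
    have h2 : ((η ^ p ^ (a - 1) : Lˣ) : L) * w.2 = w.2 := congrArg Prod.snd hw
    refine Prod.ext ?_ ?_
    · by_contra h0
      exact hne (Units.ext (mul_right_cancel₀ h0 (by rw [h1, Units.val_one, one_mul])))
    · by_contra h0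
      exact hne2 (Units.ext (mul_right_cancel₀ h0 (by rw [h2, Units.val_one, one_mul])))
  let l1 : (L × L) →ₗ[F] (L × L) := LinearMap.prodMap ((p : F)⁻¹ • LinearMap.id) LinearMap.id
  let l2 : (L × L) →ₗ[F] (L × L) := LinearMap.prodMap LinearMap.id ((p : F)⁻¹ • LinearMap.id)
  have hc : ∀ w, l1 ((z ^ p ^ (a - 1)) w) = (z ^ p ^ (a - 1)) (l1 w) := by
    intro w
    rw [hzpow]
    refine Prod.ext ?_ rfl
    show (p : F)⁻¹ • (((ζ ^ p ^ (a - 1) : Lˣ) : L) * w.1) = ((ζ ^ p ^ (a - 1) : Lˣ) : L) * ((p : F)⁻¹ • w.1)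
    rw [mul_smul_comm]
  have hlm : ∀ w, (p : F) • l2 (l1 w) = w := by
    intro w
    refine Prod.ext ?_ ?_
    · show (p : F) • ((p : F)⁻¹ • w.1) = w.1
      rw [smul_smul, mul_inv_cancel₀ hpF, one_smul]
    · show (p : F) • ((p : F)⁻¹ • w.2) = w.2
      rw [smul_smul, mul_inv_cancel₀ hpF, one_smul]
  have hfc : Fintype.card (Fin (n / (2 * d))) = n / (2 * d) := Fintype.card_fin _
  have hσp : σ (p : F) = (p : F) := map_natCast σ p
  have h := dichU (ι := Fin (n / (2 * d))) hF hσ (hermF_even (L := L) hF hσ) (z := z) hzb ha0 hz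
    (g := fou (lam := l1) (mu := l2) hzp hz1 hc hlm)
    (fou_mem hzp hz1 hc hlm (hermF_even hF hσ).add (fun u v w => by
      unfold hW
      rw [Prod.fst_add, Prod.snd_add, add_pow_one hF, add_mul, mul_add, map_add, map_add, map_add]
      ring) ((Iso _).pow_mem hzb _) (fun u v => by
      show (p : F) * (Algebra.trace F L (((p : F)⁻¹ • u.1) * v.2 ^ q) +
        σ (Algebra.trace F L (((p : F)⁻¹ • v.1) * u.2 ^ q))) =
        Algebra.trace F L (u.1 * v.2 ^ q) + σ (Algebra.trace F L (v.1 * u.2 ^ q))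
      rw [smul_mul_assoc, smul_mul_assoc, map_smul, map_smul, smul_eq_mul, smul_eq_mul, map_mul σ, map_inv₀ σ, hσp, mul_add,
        ← mul_assoc, ← mul_assoc, mul_inv_cancel₀ hpF, one_mul, one_mul]))
    (fou_shift hzp hz1 hc hlm) (T := tW F L) (tW_mem hF hσ) (-(q : ℤ)) ((-(q : ℤ)) ^ (2 * d - 1))
    (by rw [hzdef]; exact tW_conj hF hσ hη) (by
      rw [← pow_succ', Nat.sub_add_cancel (by omega), (even_two_mul d).neg_pow, ← Nat.cast_pow, zpow_natCast]
      have h1 : z ^ (q ^ (2 * d) - 1) = 1 := by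
        rw [hz1', ← hcardL, ← Nat.card_units]
        exact pow_card_eq_one'
      have h2 : q ^ (2 * d) = (q ^ (2 * d) - 1) + 1 := by omega
      rw [h2, pow_succ, h1, one_mul]) (by
      intro h5
      have h6 := (dvd_pow_sub_one_iff (p := p) (x := -(q : ℤ)) (2 * d - 1)).1 h5
      rw [he] at h6
      have := Nat.le_of_dvd (by omega) h6
      omega) hp2 (by
      intro h5
      have h6 := (dvd_pow_sub_one_iff (p := p) (x := -(q : ℤ)) 1).1 (by
        have e : (-(q : ℤ)) ^ 1 - 1 = -((q + 1 : ℕ) : ℤ) := by push_cast; ring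
        rw [e, dvd_neg]
        exact Int.natCast_dvd_natCast.2 h5)
      rw [he, Nat.dvd_one] at h6
      omega) (n := n) (by
        rw [hfc, Module.finrank_prod, hLr]
        have := Nat.div_mul_le_self n (2 * d)
        rwa [two_mul] at this ⊢) (by rw [hfc, ha]; exact hord)
  rwa [hfc] at h

end

end Cfsg.Agent.H749
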