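import Mathlib
import Cfsg.Agent.H749.HermBlockE
import Cfsg.Agent.S0278

/-!
# The special unitary groups, `p` odd not dividing `q (q + 1)` (helper749)

`|F| = q²`, `e > 1` the order of `-q` modulo `p`: `DichN p (n / e) (SU n F q)` (`dichSU`).
-/

set_option autoImplicit false
set_option linter.unusedSectionVars false

namespace Cfsg.Agent.H749

open Cfsg.Agent.ClassicalGeometry

section order

variable {p : ℕ} [hp : Fact p.Prime] {q : ℕ}

theorem neg_pow_ne_one (hq : 1 < q) (i : ℕ) (hi : i ≠ 0) : (-(q : ℤ)) ^ i ≠ 1 := by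
  intro h
  have h1 := congrArg Int.natAbs h
  rw [Int.natAbs_pow, Int.natAbs_neg, Int.natAbs_natCast, Int.natAbs_one] at h1
  rcases Nat.pow_eq_one.1 h1 with h2 | h2 <;> omega

theorem natAbs_factor (hq : 1 < q) (i : ℕ) :
    ((-(q : ℤ)) ^ (i + 1) - 1).natAbs = if Even i then q ^ (i + 1) + 1 else q ^ (i + 1) - 1 := by
  split_ifs with h
  · have h1 : (-(q : ℤ)) ^ (i + 1) - 1 = -((q ^ (i + 1) + 1 : ℕ) : ℤ) := by
      rw [(Even.add_one h).neg_pow]
      push_cast
      ring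
    rw [h1, Int.natAbs_neg, Int.natAbs_natCast]
  · have h1 : (-(q : ℤ)) ^ (i + 1) - 1 = ((q ^ (i + 1) - 1 : ℕ) : ℤ) := by
      rw [(Nat.not_even_iff_odd.1 h).add_one.neg_pow, Nat.cast_sub (Nat.one_le_pow _ _ (by omega))]
      push_cast
      ring
    rw [h1, Int.natAbs_natCast]

theorem vp_prod_neg (p : ℕ) (hq : 1 < q) (n : ℕ) :
    (∏ i ∈ Finset.range n, (if Even i then q ^ (i + 1) + 1 else q ^ (i + 1) - 1)).factorization p =
      vp p (∏ i ∈ Finset.range n, ((-(q : ℤ)) ^ (i + 1) - 1)) := by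
  have h : (∏ i ∈ Finset.range n, ((-(q : ℤ)) ^ (i + 1) - 1)).natAbs =
      ∏ i ∈ Finset.range n, (if Even i then q ^ (i + 1) + 1 else q ^ (i + 1) - 1) := by
    rw [← Int.natAbsHom_apply, map_prod]
    exact Finset.prod_congr rfl fun i _ => natAbs_factor hq i
  rw [vp, h]

/-- the `p`-part of `(q + 1) |SU_n(q)|` -/
theorem vp_GU {F : Type*} [Field F] [Fintype F] (hF : Fintype.card F = q ^ 2) (hp2 : p ≠ 2)
    (hpq : ¬ (p : ℤ) ∣ (q : ℤ)) {e : ℕ} (he : orderOf ((-(q : ℤ) : ℤ) : ZMod p) = e) {n : ℕ} (hn : 1 ≤ n) :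
    (q + 1).factorization p + (Nat.card (SU n F q)).factorization p =
      (n / e) * vp p ((-(q : ℤ)) ^ e - 1) + (n / e).factorial.factorization p := by
  have hq := GUBasic.two_le hF
  have h := S0278.result hF n hn
  have h1 := congrArg (fun m => m.factorization p) h
  have h3 : ∏ i ∈ Finset.range n, (if Even i then q ^ (i + 1) + 1 else q ^ (i + 1) - 1) ≠ 0 := by
    rw [Finset.prod_ne_zero_iff]
    intro i _
    rw [← natAbs_factor (by omega), Int.natAbs_ne_zero]
    exact sub_ne_zero.2 (neg_pow_ne_one (by omega) _ (Nat.succ_ne_zero i))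
  have h4 : (q ^ (n * (n - 1) / 2)).factorization p = 0 := by
    apply Nat.factorization_eq_zero_of_not_dvd
    intro h5
    exact hpq (Int.natCast_dvd_natCast.2 (hp.out.dvd_of_dvd_pow h5))
  rw [Nat.factorization_mul (by omega) Nat.card_pos.ne', Finsupp.add_apply,
    Nat.factorization_mul (pow_ne_zero _ (by omega)) h3, Finsupp.add_apply, h4, zero_add,
    vp_prod_neg p (by omega), vp_prod hp2 he (neg_pow_ne_one (by omega))] at h1
  exact h1

theorem not_dvd_of_order_neg {e : ℕ} (he : orderOf ((-(q : ℤ) : ℤ) : ZMod p) = e) (he1 : e ≠ 0) :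
    ¬ (p : ℤ) ∣ (q : ℤ) := by
  intro h1
  have h2 : ((-(q : ℤ) : ℤ) : ZMod p) = 0 := (ZMod.intCast_zmod_eq_zero_iff_dvd _ _).2 ((dvd_neg).2 h1)
  rw [h2] at he
  have h3 : orderOf (0 : ZMod p) = 0 := by
    rw [orderOf_eq_zero_iff']
    intro m hm
    rw [zero_pow hm.ne']
    exact zero_ne_one
  omega

end order

/-- **`SU_n(q)`, `e > 1` the order of `-q` modulo `p`.** -/
theorem dichSU {p : ℕ} [hp : Fact p.Prime] {F : Type*} [Field F] [Fintype F] {q : ℕ} (hF : Fintype.card F = q ^ 2)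
    (hp2 : p ≠ 2) {e : ℕ} (he : orderOf ((-(q : ℤ) : ℤ) : ZMod p) = e) (he1 : 1 < e) {n : ℕ} (hn : 1 ≤ n) :
    DichN p (n / e) (SU n F q) := by
  have hpq := not_dvd_of_order_neg he (by omega)
  obtain ⟨σ, hσ⟩ := GUBasic.exists_powHom hF
  have hq1 : (q + 1).factorization p = 0 := by
    apply Nat.factorization_eq_zero_of_not_dvd
    intro h5
    have h6 := (dvd_pow_sub_one_iff (p := p) (x := -(q : ℤ)) 1).1 (by
      have e : (-(q : ℤ)) ^ 1 - 1 = -((q + 1 : ℕ) : ℤ) := by push_cast; ring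
      rw [e, dvd_neg]
      exact Int.natCast_dvd_natCast.2 h5)
    rw [he, Nat.dvd_one] at h6
    omega
  have hord := vp_GU hF hp2 hpq he hn
  rw [hq1, zero_add] at hord
  rcases Nat.even_or_odd' e with ⟨d, rfl | hd⟩
  · obtain ⟨L, _, _, _, hLcard, hLrank⟩ := exists_ext F d (by omega)
    exact dichU_even (L := L) hF hσ hp2 hLcard hLrank hpq he (by omega) hord.le
  · obtain ⟨L, _, _, _, hLcard, hLrank⟩ := exists_ext F e (by omega)
    exact dichU_odd (L := L) hF ⟨d, hd⟩ hLcard hσ hp2 hLrank hpq he he1 hord.le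

end Cfsg.Agent.H749
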