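import Mathlib
import Cfsg.Agent.H749.RowU
import Cfsg.Agent.H749.MonDet

/-!
# `PSL_n(q)`, `p ∣ q - 1`, and `PSU_n(q)`, `p ∣ q + 1` (helper749)

* `dichSL_one` : `DichN p n G` for the quotients `G` of `SL_n(q)` by a subgroup containing the centre, `p ∣ q - 1`;
* `dichSU_one` : the same for `SU_n(q)`, `p ∣ q + 1`.
-/

set_option autoImplicit false
set_option linter.unusedSectionVars false

namespace Cfsg.Agent.H749

open Cfsg.Agent.ClassicalGeometry

section

variable {F : Type*} [Field F]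

theorem det_mulE (u : Fˣ) : LinearMap.det (mulE F u : F ≃ₗ[F] F).toLinearMap = (u : F) := by
  have h : (mulE F u : F ≃ₗ[F] F).toLinearMap = (u : F) • LinearMap.id := rfl
  rw [h, LinearMap.det_smul, LinearMap.det_id, Module.finrank_self, pow_one, mul_one]

theorem mulE_comm (u v : Fˣ) : mulE F u * (mulE F v : F ≃ₗ[F] F) = mulE F v * mulE F u := by
  rw [← map_mul, ← map_mul, mul_comm]

variable {p : ℕ} [hp : Fact p.Prime]

/-- **The case of one-dimensional blocks.** -/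
theorem dichOne {n : ℕ} (hn : 1 ≤ n) {b : F → F → F} {ζ : Fˣ} {a : ℕ} (ha : a ≠ 0) (hζ : orderOf ζ = p ^ a)
    (hzb : ∀ m ∈ Subgroup.zpowers ζ, (mulE F m : F ≃ₗ[F] F) ∈ Iso b)
    {g : (ZMod p → F) ≃ₗ[F] (ZMod p → F)} (hg : g ∈ Iso (fun u v : ZMod p → F => ∑ i, b (u i) (v i)))
    (hgs : ∀ (w : ZMod p → F) (i : ZMod p), g (fun j => w (j - 1)) i = chz (mulE F (ζ ^ p ^ (a - 1))) i (g w i))
    (hp2 : p ≠ 2)
    (hadj : ∀ g ∈ Iso (sumForm (ι := Fin n) (W₀ := (Fin 0 → F)) b (fun _ _ => 0)), ∃ y : Fˣ, (mulE F y : F ≃ₗ[F] F) ∈ Iso b ∧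
      (y : F) * LinearMap.det g.toLinearMap = 1)
    {H : Type*} [Group H] [Finite H]
    (e : H ≃* detKer (sumForm (ι := Fin n) (W₀ := (Fin 0 → F)) b (fun _ _ => (0 : F)))) {G : Type*} [Group G] (f : H →* G)
    (hf : Function.Surjective f) (hker : ∀ h : H, (∀ x, h * x = x * h) → f h = 1)
    (hord : a + (Nat.card H).factorization p ≤ n * a + n.factorial.factorization p) :
    DichN p n G := by
  have hcz : Nat.card (Subgroup.zpowers ζ) = p ^ a := by rw [Nat.card_zpowers, hζ]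
  have hfin : Finite (Subgroup.zpowers ζ) := Nat.finite_of_card_ne_zero (by rw [hcz]; exact pow_ne_zero _ hp.out.ne_zero)
  have hμ : ∀ m : Subgroup.zpowers ζ, PEl p m := fun m =>
    ⟨a, by rw [← hcz]; exact pow_card_eq_one'⟩
  have hnt : Nontrivial (Subgroup.zpowers ζ) := by
    rw [← Finite.one_lt_card_iff_nontrivial, hcz]
    exact Nat.one_lt_pow ha hp.out.one_lt
  have hcyc : IsCyclic (Subgroup.zpowers ζ) := inferInstance
  have hfc : Fintype.card (Fin n) = n := Fintype.card_fin n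
  have hne : Nonempty (Fin n) := ⟨⟨0, hn⟩⟩
  let θ : Subgroup.zpowers ζ →* (F ≃ₗ[F] F) := (mulE F).comp (Subgroup.zpowers ζ).subtype
  have hθ : ∀ m, θ m ∈ Iso b := fun m => hzb m.1 m.2
  have hθi : Function.Injective θ := (mulE_injective F).comp (Subgroup.zpowers ζ).subtype_injective
  let ζ' : Subgroup.zpowers ζ := ⟨ζ ^ p ^ (a - 1), Subgroup.pow_mem _ (Subgroup.mem_zpowers ζ) _⟩
  have hζ' : ζ' ^ p = 1 := Subtype.ext (pow_order_p ha hζ)
  have hζ1' : ζ' ≠ 1 := fun h => pow_order_ne ha hζ (congrArg Subtype.val h)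
  let b₀ : (Fin 0 → F) → (Fin 0 → F) → F := fun _ _ => 0
  let M : MonD p (Fin n) (Subgroup.zpowers ζ) (Iso (sumForm (ι := Fin n) b b₀)) Fˣ :=
    { δ := bδ b₀ θ hθ
      ρ := bρ b b₀
      conj := fun π x => Subtype.ext (pm_conj π fun i => θ (x i))
      fus := block_fus b₀ θ hθ hζ' hζ1' hg hgs
      det := (LinearEquiv.det (R := F) (M := (Fin n → F) × (Fin 0 → F))).comp (Iso _).subtype
      θ := (Subgroup.zpowers ζ).subtype
      hθ := (Subgroup.zpowers ζ).subtype_injective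
      det_δ := by
        intro x
        apply Units.ext
        show ((LinearEquiv.det (R := F) (M := (Fin n → F) × (Fin 0 → F)) (dg fun i => θ (x i)) : Fˣ) : F) = _
        rw [LinearEquiv.coe_det, det_dg, Units.coe_prod]
        exact Finset.prod_congr rfl fun i _ => det_mulE _
      adj := by
        intro g
        obtain ⟨y, hy, hd⟩ := hadj g.1 g.2
        obtain ⟨i⟩ := hne
        refine ⟨⟨dg (Pi.mulSingle i (mulE F y)), dg_mem fun j => ?_⟩, fun x => Subtype.ext ?_, ?_⟩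
        · by_cases hj : j = i
          · subst hj
            rw [Pi.mulSingle_eq_same]
            exact hy
          · rw [Pi.mulSingle_eq_of_ne hj]
            exact one_mem _
        · show dg (Pi.mulSingle i (mulE F y)) * dg (fun i => θ (x i)) = dg (fun i => θ (x i)) * dg (Pi.mulSingle i (mulE F y))
          rw [← map_mul, ← map_mul]
          congr 1
          funext j
          show (Pi.mulSingle i (mulE F y) : Fin n → _) j * θ (x j) = θ (x j) * (Pi.mulSingle i (mulE F y) : Fin n → _) j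
          by_cases hj : j = i
          · subst hj
            rw [Pi.mulSingle_eq_same]
            exact mulE_comm _ _
          · rw [Pi.mulSingle_eq_of_ne hj, mul_one, one_mul]
        · apply Units.ext
          show ((LinearEquiv.det (R := F) (M := (Fin n → F) × (Fin 0 → F)) (dg (Pi.mulSingle i (mulE F y)) * g.1) : Fˣ) : F) = 1
          rw [map_mul, Units.val_mul, LinearEquiv.coe_det, LinearEquiv.coe_det, det_dg_single, det_mulE]
          exact hd }
  have h := M.dich hμ (mem_pow_of_cyclic hμ) ?_ hp2 ?_ (e : H ≃* M.det.ker) f hf hker ?_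
  · rwa [hfc] at h
  · intro x π hx
    have h2 : (dg (fun i => θ (x i)) : ((Fin n → F) × (Fin 0 → F)) ≃ₗ[F] ((Fin n → F) × (Fin 0 → F))) * pm π = 1 :=
      congrArg Subtype.val hx
    obtain ⟨h3, h4⟩ := eq_one_of_dg_mul_pm h2
    refine ⟨funext fun i => hθi ?_, h4⟩
    rw [Pi.one_apply, map_one]
    exact congrFun h3 i
  · intro m g
    refine Subtype.ext (LinearEquiv.ext fun v => ?_)
    have key : ∀ v : (Fin n → F) × (Fin 0 → F), (dg (fun _ : Fin n => θ m) : _ ≃ₗ[F] _) v = ((m : Fˣ) : F) • v := by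
      intro v
      refine Prod.ext ?_ (Subsingleton.elim _ _)
      rfl
    show g.1 ((dg (fun _ : Fin n => θ m) : _ ≃ₗ[F] _) v) = (dg (fun _ : Fin n => θ m) : _ ≃ₗ[F] _) (g.1 v)
    rw [key, key, map_smul]
  · rw [hcz, Nat.Prime.factorization_pow hp.out, Finsupp.single_eq_same, hfc]
    exact hord

omit hp in
theorem sum_chz_mulE [hp : Fact p.Prime] {ζ : Fˣ} {a : ℕ} (ha : a ≠ 0) (hζ : orderOf ζ = p ^ a) (w : F) :
    ∑ i : ZMod p, chz (mulE F (ζ ^ p ^ (a - 1)) : F ≃ₗ[F] F) i w = 0 := by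
  refine sum_chz_zero ?_ (fun w hw => ?_) w
  · rw [← map_pow, pow_order_p ha hζ, map_one]
  · rw [mulE_apply] at hw
    by_contra hw0
    have h5 : ((ζ ^ p ^ (a - 1) : Fˣ) : F) = 1 := mul_right_cancel₀ hw0 (by rw [hw, one_mul])
    exact pow_order_ne ha hζ (Units.ext h5)

/-- **`PSL_n(q)`, `p ∣ q - 1`.** -/
theorem dichSL_one [Finite F] (hp2 : p ≠ 2) (hdvd : p ∣ Nat.card F - 1) {n : ℕ} (hn : 1 ≤ n) {G : Type*} [Group G]
    (f : Matrix.SpecialLinearGroup (Fin n) F →* G) (hf : Function.Surjective f)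
    (hker : ∀ h : Matrix.SpecialLinearGroup (Fin n) F, (∀ x, h * x = x * h) → f h = 1) : DichN p n G := by
  have hq1 : 1 < Nat.card F := Finite.one_lt_card
  have hcast : ((Nat.card F - 1 : ℕ) : ℤ) = (Nat.card F : ℤ) - 1 := by rw [Nat.cast_sub hq1.le]; rfl
  have hdvd' : (p : ℤ) ∣ (Nat.card F : ℤ) - 1 := by
    rw [← hcast]
    exact Int.natCast_dvd_natCast.2 hdvd
  have he : orderOf (((Nat.card F : ℕ) : ℤ) : ZMod p) = 1 := by
    rw [← Nat.dvd_one, ← dvd_pow_sub_one_iff, pow_one]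
    exact hdvd'
  have hpq : ¬ p ∣ Nat.card F := by
    intro h
    have h1 : p ∣ 1 := by
      have := (Nat.dvd_add_right hdvd).1 (by rwa [Nat.sub_add_cancel hq1.le])
      exact this
    exact hp.out.one_lt.ne' (Nat.dvd_one.1 h1)
  have hpF : (p : F) ≠ 0 := cast_ne_zero_of hpq
  obtain ⟨a, ha⟩ : ∃ a, a = (Nat.card F - 1).factorization p := ⟨_, rfl⟩
  have ha0 : a ≠ 0 := by
    rw [ha]
    exact (hp.out.factorization_pos_of_dvd (by omega) hdvd).ne'
  obtain ⟨ζ, hζ⟩ := exists_order F (m := p ^ a) (by rw [ha]; exact Nat.ordProj_dvd _ _)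
  have hzp : (mulE F (ζ ^ p ^ (a - 1)) : F ≃ₗ[F] F) ^ p = 1 := by rw [← map_pow, pow_order_p ha0 hζ, map_one]
  have hlm : ∀ w : F, (p : F) • ((p : F)⁻¹ • (LinearMap.id : F →ₗ[F] F)) (LinearMap.id (R := F) w) = w := by
    intro w
    rw [LinearMap.smul_apply, smul_smul, mul_inv_cancel₀ hpF, one_smul]
    rfl
  have hrank : Module.finrank F (Fin n → F) = Module.finrank F ((Fin n → F) × (Fin 0 → F)) := by
    rw [Module.finrank_prod, Module.finrank_fin_fun, Module.finrank_fin_fun, add_zero]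
  have hS : SimF (LinearEquiv.ofFinrankEq _ _ hrank) (fun _ _ => (0 : F))
      (sumForm (ι := Fin n) (W := F) (fun _ _ => 0) (W₀ := (Fin 0 → F)) (fun _ _ => 0)) 1 := by
    refine ⟨one_ne_zero, fun x y => ?_⟩
    unfold sumForm
    simp
  have htop : preserving (slToMat n F) (fun _ _ => (0 : F)) = ⊤ := by
    rw [eq_top_iff]
    intro A _ u v
    rfl
  refine dichOne hn ha0 hζ (b := fun _ _ => 0) (fun _ _ _ _ => rfl)
    (g := fou (lam := LinearMap.id) hzp (sum_chz_mulE ha0 hζ) (fun _ => rfl) hlm) (fun _ _ => rfl)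
    (fou_shift (lam := LinearMap.id) hzp (sum_chz_mulE ha0 hζ) (fun _ => rfl) hlm) hp2 ?_
    (((Subgroup.topEquiv).symm.trans (MulEquiv.subgroupCongr htop.symm)).trans (slEquiv hS)) f hf hker ?_
  · intro g _
    refine ⟨(LinearEquiv.det (R := F) (M := (Fin n → F) × (Fin 0 → F)) g)⁻¹, fun _ _ => rfl, ?_⟩
    rw [← LinearEquiv.coe_det, ← Units.val_mul, inv_mul_cancel, Units.val_one]
  · have h := vp_GL (F := F) hp2 he one_ne_zero hn
    rw [Nat.div_one, pow_one, ← hcast, vp_natCast, ← ha] at h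
    exact h.le

/-- **`PSU_n(q)`, `p ∣ q + 1`.** -/
theorem dichSU_one [Fintype F] {q : ℕ} (hF : Fintype.card F = q ^ 2) (hp2 : p ≠ 2) (hdvd : p ∣ q + 1) {n : ℕ} (hn : 1 ≤ n)
    {G : Type*} [Group G] (f : SU n F q →* G) (hf : Function.Surjective f)
    (hker : ∀ h : SU n F q, (∀ x, h * x = x * h) → f h = 1) : DichN p n G := by
  have hq2 := GUBasic.two_le hF
  obtain ⟨σ, hσ⟩ := GUBasic.exists_powHom hF
  have hcast : (-(q : ℤ)) ^ 1 - 1 = -((q + 1 : ℕ) : ℤ) := by push_cast; ring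
  have he : orderOf ((-(q : ℤ) : ℤ) : ZMod p) = 1 := by
    rw [← Nat.dvd_one, ← dvd_pow_sub_one_iff, hcast, dvd_neg]
    exact Int.natCast_dvd_natCast.2 hdvd
  have hpq : ¬ (p : ℤ) ∣ (q : ℤ) := not_dvd_of_order_neg he one_ne_zero
  have hpqn : ¬ p ∣ q := fun h => hpq (Int.natCast_dvd_natCast.2 h)
  have hpF : (p : F) ≠ 0 := cast_ne_zero_of (by
    rw [natCard_F hF]
    exact fun h => hpqn (hp.out.dvd_of_dvd_pow h))
  obtain ⟨a, ha⟩ : ∃ a, a = (q + 1).factorization p := ⟨_, rfl⟩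
  have ha0 : a ≠ 0 := by
    rw [ha]
    exact (hp.out.factorization_pos_of_dvd (by omega) hdvd).ne'
  have hcardU : Nat.card Fˣ = (q - 1) * (q + 1) := by
    rw [Nat.card_units, natCard_F hF]
    obtain ⟨c, hc⟩ := Nat.exists_eq_add_of_le hq2
    rw [hc, show 2 + c - 1 = c + 1 by omega]
    have : (2 + c) ^ 2 = (c + 1) * (2 + c + 1) + 1 := by ring
    omega
  obtain ⟨ζ, hζ⟩ := exists_order F (m := p ^ a) (by
    rw [← Nat.card_units, hcardU, ha]
    exact dvd_mul_of_dvd_right (Nat.ordProj_dvd _ _) _)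
  have hζ1 : ζ ^ (q + 1) = 1 := by
    apply orderOf_dvd_iff_pow_eq_one.1
    rw [hζ, ha]
    exact Nat.ordProj_dvd _ _
  have hherm : HermF σ (fun u v : F => u * v ^ q) :=
    { add := fun u u' v => by rw [add_mul]
      smul := fun c u v => by rw [smul_eq_mul, mul_assoc]
      symm := fun u v => by
        rw [map_mul, ← hσ v, sigma_sigma hF hσ, hσ, mul_comm]
      nd := fun u hu => by
        have := hu 1
        rwa [one_pow, mul_one] at this }
  have hzb : ∀ m : Fˣ, m ^ (q + 1) = 1 → (mulE F m : F ≃ₗ[F] F) ∈ Iso (fun u v : F => u * v ^ q) := by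
    intro m hm u v
    show (m : F) * u * ((m : F) * v) ^ q = u * v ^ q
    have h : (m : F) ^ (q + 1) = 1 := by rw [← Units.val_pow_eq_pow_val, hm, Units.val_one]
    calc (m : F) * u * ((m : F) * v) ^ q = (m : F) ^ (q + 1) * (u * v ^ q) := by ring
      _ = u * v ^ q := by rw [h, one_mul]
  -- the element λ
  obtain ⟨lam, hlam⟩ : ∃ lam : Fˣ, (lam : F) ^ (q + 1) = (p : F)⁻¹ := by
    have hpL : (p : F)⁻¹ ≠ 0 := inv_ne_zero hpF
    obtain ⟨x, hx⟩ := exists_pow_eq (G := Fˣ) (m := q - 1) (k := q + 1) (by omega) hcardU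
      (c := Units.mk0 _ hpL) (by
        apply Units.ext
        rw [Units.val_pow_eq_pow_val, Units.val_mk0, Units.val_one]
        have h1 : ((p : F)⁻¹) ^ q = (p : F)⁻¹ := by
          rw [← hσ, map_inv₀, map_natCast]
        have h2 : ((p : F)⁻¹) ^ (q - 1) * (p : F)⁻¹ = (p : F)⁻¹ := by
          rw [← pow_succ, Nat.sub_add_cancel (by omega), h1]
        exact mul_right_cancel₀ hpL (by rw [h2, one_mul]))
    exact ⟨x, by rw [← Units.val_pow_eq_pow_val, hx, Units.val_mk0]⟩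
  have hzp : (mulE F (ζ ^ p ^ (a - 1)) : F ≃ₗ[F] F) ^ p = 1 := by rw [← map_pow, pow_order_p ha0 hζ, map_one]
  let l1 : F →ₗ[F] F := (mulE F lam : F ≃ₗ[F] F).toLinearMap
  let l2 : F →ₗ[F] F := (p : F)⁻¹ • (mulE F lam⁻¹ : F ≃ₗ[F] F).toLinearMap
  have hc : ∀ w, l1 ((mulE F (ζ ^ p ^ (a - 1)) : F ≃ₗ[F] F) w) = (mulE F (ζ ^ p ^ (a - 1)) : F ≃ₗ[F] F) (l1 w) := by
    intro w
    show (lam : F) * (((ζ ^ p ^ (a - 1) : Fˣ) : F) * w) = ((ζ ^ p ^ (a - 1) : Fˣ) : F) * ((lam : F) * w)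
    ring
  have hlm : ∀ w, (p : F) • l2 (l1 w) = w := by
    intro w
    show (p : F) • ((p : F)⁻¹ • (((lam⁻¹ : Fˣ) : F) * ((lam : F) * w))) = w
    rw [smul_smul, mul_inv_cancel₀ hpF, one_smul, ← mul_assoc, Units.inv_mul, one_mul]
  have hadd2 : ∀ u v w : F, u * (v + w) ^ q = u * v ^ q + u * w ^ q := fun u v w => by
    rw [← hσ, map_add, hσ, hσ, mul_add]
  have hH : HermF σ (sumForm (ι := Fin n) (W₀ := (Fin 0 → F)) (fun u v : F => u * v ^ q) (fun _ _ => 0)) :=
    hherm.sum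
      { add := fun _ _ _ => by rw [add_zero]
        smul := fun _ _ _ => by rw [mul_zero]
        symm := fun _ _ => by rw [map_zero]
        nd := fun _ _ => Subsingleton.elim _ _ }
  have hrank : Module.finrank F ((Fin n → F) × (Fin 0 → F)) = n := by
    rw [Module.finrank_prod, Module.finrank_fin_fun, Module.finrank_fin_fun, add_zero]
  obtain ⟨j, hj⟩ := hH.exists_iso (sigma_ne hF hσ) (sigma_sigma hF hσ) hσ hrank
  have hS : SimF j (hermForm n F q) (sumForm (ι := Fin n) (W₀ := (Fin 0 → F)) (fun u v : F => u * v ^ q) (fun _ _ => 0)) 1 :=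
    ⟨one_ne_zero, fun x y => by rw [one_mul]; exact hj x y⟩
  refine dichOne hn ha0 hζ (b := fun u v => u * v ^ q) ?_
    (g := fou (lam := l1) (mu := l2) hzp (sum_chz_mulE ha0 hζ) hc hlm) ?_
    (fou_shift (lam := l1) hzp (sum_chz_mulE ha0 hζ) hc hlm) hp2 ?_
    (slEquiv hS) f hf hker ?_
  · intro m hm
    obtain ⟨i, rfl⟩ := Subgroup.mem_zpowers_iff.1 hm
    exact hzb _ (by rw [← zpow_natCast, ← zpow_mul, mul_comm, zpow_mul, zpow_natCast, hζ1, one_zpow])
  · refine fou_mem hzp (sum_chz_mulE ha0 hζ) hc hlm hherm.add hadd2 (hzb _ ?_) ?_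
    · rw [← pow_mul, mul_comm, pow_mul, hζ1, one_pow]
    · intro u v
      show (p : F) * ((lam : F) * u * ((lam : F) * v) ^ q) = u * v ^ q
      calc (p : F) * ((lam : F) * u * ((lam : F) * v) ^ q) = (p : F) * (lam : F) ^ (q + 1) * (u * v ^ q) := by ring
        _ = u * v ^ q := by rw [hlam, mul_inv_cancel₀ hpF, one_mul]
  · intro g hg
    have h1 := det_iso_pow hF hσ hH hg
    refine ⟨(LinearEquiv.det (R := F) (M := (Fin n → F) × (Fin 0 → F)) g)⁻¹, hzb _ ?_, ?_⟩
    · rw [inv_pow, inv_eq_one]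
      apply Units.ext
      rw [Units.val_pow_eq_pow_val, LinearEquiv.coe_det, h1, Units.val_one]
    · rw [← LinearEquiv.coe_det, ← Units.val_mul, inv_mul_cancel, Units.val_one]
  · have h := vp_GU (F := F) hF hp2 hpq he hn
    rw [Nat.div_one, hcast, vp_neg, vp_natCast, ← ha] at h
    exact h.le

end

end Cfsg.Agent.H749
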