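import Mathlib
import Cfsg.Prelude.Def_LieTypeChar
import Cfsg.Agent.H749.RowOne
import Cfsg.Agent.H749.RowO

/-!
# The simple classical groups in cross characteristic, `p` odd (helper749)

For each family: a group of the family is defined in characteristic `p`, or it is `FullP p`, or all its `p`-subgroups are
abelian (`Dich p G`).
-/

set_option autoImplicit false
set_option linter.unusedSectionVars false

namespace Cfsg.Agent.H749

open Cfsg.Agent.ClassicalGeometry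

section

variable {p : ℕ} [hp : Fact p.Prime] {F : Type*} [Field F]

theorem charP_of_dvd [Finite F] (h : p ∣ Nat.card F) : CharP F p := by
  have := Fintype.ofFinite F
  obtain ⟨r, hr⟩ := CharP.exists F
  obtain ⟨k, hrp, hk⟩ := FiniteField.card F r
  rw [Nat.card_eq_fintype_card, hk] at h
  have h1 := (Nat.prime_dvd_prime_iff_eq hp.out hrp).1 (hp.out.dvd_of_dvd_pow h)
  rw [h1]
  exact hr

/-- quotients modulo the centre -/
theorem Dich.center {H : Type*} [Group H] [Finite H] (h : Dich p H) : Dich p (H ⧸ Subgroup.center H) :=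
  h.quot (QuotientGroup.mk' _) (QuotientGroup.mk'_surjective _)

theorem mk'_center {H : Type*} [Group H] (h : H) (hc : ∀ x, h * x = x * h) :
    QuotientGroup.mk' (Subgroup.center H) h = 1 := by
  rw [QuotientGroup.mk'_apply, QuotientGroup.eq_one_iff, Subgroup.mem_center_iff]
  exact fun x => (hc x).symm

theorem order_cast_ne [Finite F] (h : ¬ p ∣ Nat.card F) : orderOf (((Nat.card F : ℕ) : ℤ) : ZMod p) ≠ 0 := by
  refine (orderOf_pos_of ?_).ne'
  intro h1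
  exact h (Int.natCast_dvd_natCast.1 h1)

theorem order_sq_ne [Finite F] (h : ¬ p ∣ Nat.card F) :
    orderOf (((Nat.card F : ℤ) ^ 2 : ℤ) : ZMod p) ≠ 0 := by
  refine (orderOf_pos_of ?_).ne'
  intro h1
  exact h (Int.natCast_dvd_natCast.1 ((Nat.prime_iff_prime_int.1 hp.out).dvd_of_dvd_pow h1))

/-- **`PSL_n(q)`.** -/
theorem dich_PSL [Finite F] (hp2 : p ≠ 2) (hpq : ¬ p ∣ Nat.card F) {n : ℕ} (hn : 1 ≤ n) :
    Dich p (Matrix.ProjectiveSpecialLinearGroup (Fin n) F) := by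
  have hq1 : 1 < Nat.card F := Finite.one_lt_card
  obtain ⟨e, he⟩ : ∃ e, orderOf (((Nat.card F : ℕ) : ℤ) : ZMod p) = e := ⟨_, rfl⟩
  have he0 : e ≠ 0 := by rw [← he]; exact order_cast_ne hpq
  rcases Nat.lt_or_ge 1 e with h1 | h1
  · exact (dichSL hp2 he h1 hn).dich.center
  · have he1 : e = 1 := by omega
    have hdvd : p ∣ Nat.card F - 1 := by
      have h2 := (dvd_pow_sub_one_iff (p := p) (x := ((Nat.card F : ℕ) : ℤ)) 1).2 (by rw [he, he1])
      rw [pow_one] at h2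
      have h3 : (((Nat.card F - 1 : ℕ)) : ℤ) = (Nat.card F : ℤ) - 1 := by rw [Nat.cast_sub hq1.le]; rfl
      rw [← h3] at h2
      exact Int.natCast_dvd_natCast.1 h2
    exact (dichSL_one hp2 hdvd hn (QuotientGroup.mk' _) (QuotientGroup.mk'_surjective _) mk'_center).dich

/-- **`PSU_n(q)`.** -/
theorem dich_PSU [Fintype F] {q : ℕ} (hF : Fintype.card F = q ^ 2) (hp2 : p ≠ 2) (hpq : ¬ p ∣ q) {n : ℕ} (hn : 1 ≤ n) :
    Dich p (PSU n F q) := by
  obtain ⟨e, he⟩ : ∃ e, orderOf ((-(q : ℤ) : ℤ) : ZMod p) = e := ⟨_, rfl⟩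
  have he0 : e ≠ 0 := by
    rw [← he]
    refine (orderOf_pos_of ?_).ne'
    intro h1
    exact hpq (Int.natCast_dvd_natCast.1 ((dvd_neg).1 h1))
  rcases Nat.lt_or_ge 1 e with h1 | h1
  · exact (dichSU hF hp2 he h1 hn).dich.center
  · have he1 : e = 1 := by omega
    have hdvd : p ∣ q + 1 := by
      have h2 := (dvd_pow_sub_one_iff (p := p) (x := (-(q : ℤ))) 1).2 (by rw [he, he1])
      have h3 : (-(q : ℤ)) ^ 1 - 1 = -((q + 1 : ℕ) : ℤ) := by push_cast; ring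
      rw [h3, dvd_neg] at h2
      exact Int.natCast_dvd_natCast.1 h2
    exact (dichSU_one hF hp2 hdvd hn (QuotientGroup.mk' _) (QuotientGroup.mk'_surjective _) mk'_center).dich

/-- **`PSp_{2m}(q)`.** -/
theorem dich_PSp [Finite F] (hp2 : p ≠ 2) (hpq : ¬ p ∣ Nat.card F) (m : ℕ) : Dich p (PSp m F) :=
  (dichSp hp2 rfl (order_sq_ne hpq) m).dich.center

/-- **`PΩ_{2m+1}(q)`.** -/
theorem dich_POmegaOdd [Finite F] (hp2 : p ≠ 2) (hodd : Odd (Nat.card F)) (hpq : ¬ p ∣ Nat.card F) {m : ℕ} (hm : 2 ≤ m) :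
    Dich p (POmega F (quadFormOdd m F)) :=
  (dichOdd hp2 hodd rfl (order_sq_ne hpq) hm).dich.center

/-- **`PΩ⁺_{2m}(q)`.** -/
theorem dich_POmegaPlus [Finite F] (hp2 : p ≠ 2) (hpq : ¬ p ∣ Nat.card F) {m : ℕ} (hm : 3 ≤ m) :
    Dich p (POmega F (quadFormPlus m F)) := by
  by_cases h : (p : ℤ) ∣ (Nat.card F : ℤ) ^ m - 1
  · exact (dichPlus hp2 rfl (order_sq_ne hpq) hm (Or.inl ⟨h, rfl⟩)).dich.center
  · exact (dichPlus hp2 rfl (order_sq_ne hpq) hm (Or.inr ⟨h, rfl⟩)).dich.center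

/-- **`PΩ⁻_{2m}(q)`.** -/
theorem dich_POmegaMinus [Finite F] (hp2 : p ≠ 2) (hpq : ¬ p ∣ Nat.card F) {m : ℕ} (hm : 3 ≤ m) (a b : F)
    (hab : ∀ z₁ z₂ : F, z₁ ^ 2 + a * z₁ * z₂ + b * z₂ ^ 2 = 0 → z₁ = 0 ∧ z₂ = 0) :
    Dich p (POmega F (quadFormMinus (m - 1) F a b)) := by
  by_cases h : (p : ℤ) ∣ (Nat.card F : ℤ) ^ m + 1
  · exact (dichMinus hp2 rfl (order_sq_ne hpq) hm a b hab (Or.inl ⟨h, rfl⟩)).dich.center
  · exact (dichMinus hp2 rfl (order_sq_ne hpq) hm a b hab (Or.inr ⟨h, rfl⟩)).dich.center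

end

section

variable {p : ℕ} [hp : Fact p.Prime] {G : Type*} [Group G]

theorem row_PSL (hp2 : p ≠ 2) (h : IsPSL G) : IsPSLChar p G ∨ Dich p G := by
  obtain ⟨F, _, _, n, hn, h4, ⟨e⟩⟩ := h
  by_cases hp : p ∣ Nat.card F
  · exact Or.inl ⟨F, inferInstance, inferInstance, charP_of_dvd hp, n, hn, h4, ⟨e⟩⟩
  · exact Or.inr ((dich_PSL hp2 hp (by omega)).of_mulEquiv e.symm)

theorem row_PSp (hp2 : p ≠ 2) (h : IsPSp G) : IsPSpChar p G ∨ Dich p G := by
  obtain ⟨F, _, _, m, hm, h4, ⟨e⟩⟩ := h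
  by_cases hp : p ∣ Nat.card F
  · exact Or.inl ⟨F, inferInstance, inferInstance, charP_of_dvd hp, m, hm, h4, ⟨e⟩⟩
  · exact Or.inr ((dich_PSp hp2 hp m).of_mulEquiv e.symm)

theorem row_PSU (hp2 : p ≠ 2) (h : IsPSU G) : IsPSUChar p G ∨ Dich p G := by
  obtain ⟨F, _, _, n, q, hq, hn, h4, ⟨e⟩⟩ := h
  by_cases hp : p ∣ Nat.card F
  · exact Or.inl ⟨F, inferInstance, inferInstance, charP_of_dvd hp, n, q, hq, hn, h4, ⟨e⟩⟩
  · refine Or.inr ((dich_PSU hq hp2 ?_ (by omega)).of_mulEquiv e.symm)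
    intro h
    apply hp
    rw [Nat.card_eq_fintype_card, hq]
    exact dvd_pow h two_ne_zero

theorem row_POmegaOdd (hp2 : p ≠ 2) (h : IsPOmegaOdd G) : IsPOmegaOddChar p G ∨ Dich p G := by
  obtain ⟨F, _, _, m, hm, hodd, ⟨e⟩⟩ := h
  by_cases hp : p ∣ Nat.card F
  · exact Or.inl ⟨F, inferInstance, inferInstance, charP_of_dvd hp, m, hm, hodd, ⟨e⟩⟩
  · exact Or.inr ((dich_POmegaOdd hp2 (by rwa [Nat.card_eq_fintype_card]) hp (by omega)).of_mulEquiv e.symm)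

theorem row_POmegaPlus (hp2 : p ≠ 2) (h : IsPOmegaPlus G) : IsPOmegaPlusChar p G ∨ Dich p G := by
  obtain ⟨F, _, _, m, hm, ⟨e⟩⟩ := h
  by_cases hp : p ∣ Nat.card F
  · exact Or.inl ⟨F, inferInstance, inferInstance, charP_of_dvd hp, m, hm, ⟨e⟩⟩
  · exact Or.inr ((dich_POmegaPlus hp2 hp (by omega)).of_mulEquiv e.symm)

theorem row_POmegaMinus (hp2 : p ≠ 2) (h : IsPOmegaMinus G) : IsPOmegaMinusChar p G ∨ Dich p G := by
  obtain ⟨F, _, _, m, a, b, hm, hab, ⟨e⟩⟩ := h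
  by_cases hp : p ∣ Nat.card F
  · exact Or.inl ⟨F, inferInstance, inferInstance, charP_of_dvd hp, m, a, b, hm, hab, ⟨e⟩⟩
  · exact Or.inr ((dich_POmegaMinus hp2 hp (by omega) a b hab).of_mulEquiv e.symm)

/-- **All simple classical groups, `p` odd.** -/
theorem row_classical (hp2 : p ≠ 2)
    (h : IsPSL G ∨ IsPSp G ∨ IsPSU G ∨ IsPOmegaOdd G ∨ IsPOmegaPlus G ∨ IsPOmegaMinus G) :
    IsLieTypeChar p G ∨ Dich p G := by
  unfold IsLieTypeChar
  rcases h with h | h | h | h | h | h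
  · rcases row_PSL hp2 h with h | h <;> tauto
  · rcases row_PSp hp2 h with h | h <;> tauto
  · rcases row_PSU hp2 h with h | h <;> tauto
  · rcases row_POmegaOdd hp2 h with h | h <;> tauto
  · rcases row_POmegaPlus hp2 h with h | h <;> tauto
  · rcases row_POmegaMinus hp2 h with h | h <;> tauto

end

end Cfsg.Agent.H749
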