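import Cfsg.Agent.H749.TwoPlus

/-!
# Pairs of characters of `PΩ⁻_{2l+2}(q)` (helper749)
-/

set_option autoImplicit false

open scoped ComplexConjugate
open Cfsg

namespace Cfsg.Agent.H749.Two

open Cfsg.Agent.Characters MulAction Module Cfsg.Agent.H53.HC Cfsg.Agent.H477.HC

universe u v w

section arith

variable {q l r : ℕ}

theorem td_key' (hl : 4 ≤ l) (hq : 2 ≤ q) {p d : ℕ}
    (h : ∃ e, (q ^ (l - 1 + 1 + 1) + 1) * (q ^ (1 + 1) - 1) *
      ∏ i ∈ Finset.Ico (1 + 1) (l - 1 + 1), (q ^ (2 * (i + 1)) - 1) ∣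
      p ^ e * (d * (q ^ (l - 1) - 1))) : ∃ e, M2 q l ∣ p ^ e * d := by
  obtain ⟨e, he⟩ := h
  refine ⟨e, ?_⟩
  have h1 : (q ^ (l - 1 + 1 + 1) + 1) * (q ^ (1 + 1) - 1) *
      ∏ i ∈ Finset.Ico (1 + 1) (l - 1 + 1), (q ^ (2 * (i + 1)) - 1) = M2 q l * (q ^ (l - 1) - 1) := by
    obtain ⟨j, rfl⟩ : ∃ j, l = j + 4 := ⟨l - 4, by omega⟩
    have e1 : j + 4 - 1 + 1 = j + 2 + 1 + 1 := by omega
    have e2 : j + 4 - 2 = j + 2 := by omega
    have e3 : j + 4 - 1 = j + 3 := by omega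
    rw [M2, e1, e2, e3, Finset.prod_Ico_succ_top (by omega), Finset.prod_Ico_succ_top (by omega)]
    have e4 : q ^ (2 * (j + 2 + 1)) - 1 = (q ^ (j + 3) + 1) * (q ^ (j + 3) - 1) := sq_sub q _
    rw [e4]
    ring
  rw [h1, ← mul_assoc] at he
  have h2 : 1 < q ^ (l - 1) := Nat.one_lt_pow (by omega) (by omega)
  exact Nat.dvd_of_mul_dvd_mul_right (by omega) he

/-- the primes of type `²D` -/
theorem td_split (hl : 4 ≤ l) (hr : r.Prime) (h : r ∣ MG q l) :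
    r ∣ M2 q l ∨ (r ∣ M1 q l ∧ r ∣ q ^ (l - 1) - 1 ∧ ¬ r ∣ q ^ 2 - 1) := by
  by_cases h0 : r ∣ M2 q l
  · exact Or.inl h0
  right
  have hA : ¬ r ∣ q ^ (l + 1) + 1 := fun h =>
    h0 (Dvd.dvd.mul_right (Dvd.dvd.mul_right (Dvd.dvd.mul_right (Dvd.dvd.mul_right h _) _) _) _)
  have hB : ¬ r ∣ q ^ 2 - 1 := fun h =>
    h0 (Dvd.dvd.mul_right (Dvd.dvd.mul_right (Dvd.dvd.mul_right (Dvd.dvd.mul_left h _) _) _) _)
  have hC : ¬ r ∣ q ^ (l - 1) + 1 := fun h =>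
    h0 (Dvd.dvd.mul_right (Dvd.dvd.mul_right (Dvd.dvd.mul_left h _) _) _)
  have hD : ¬ r ∣ q ^ (2 * l) - 1 := fun h => h0 (Dvd.dvd.mul_right (Dvd.dvd.mul_left h _) _)
  have hE : ¬ r ∣ q ^ 2 + 1 := by
    intro h5
    rcases Nat.even_or_odd l with he | ho
    · obtain ⟨j, hj⟩ := he
      apply hD
      have h6 : q ^ (2 * 2) - 1 ∣ q ^ (2 * l) - 1 := pow_sub_one_dvd q ⟨j, by omega⟩
      rw [sq_sub q 2] at h6
      exact (Dvd.dvd.mul_right h5 _).trans h6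
    · obtain ⟨j, hj⟩ := ho
      rcases Nat.even_or_odd j with he | ho
      · apply hA
        have h6 : l + 1 = 2 * (j + 1) := by omega
        rw [h6]
        exact h5.trans (sq_add_dvd q he.add_one)
      · apply hC
        have h6 : l - 1 = 2 * j := by omega
        rw [h6]
        exact h5.trans (sq_add_dvd q ho)
  have hmid : ∀ i, i < l - 2 → r ∣ q ^ (2 * (i + 1)) - 1 → False := by
    intro i hi h2
    rcases Nat.eq_zero_or_pos i with rfl | h3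
    · exact hB h2
    rcases Nat.lt_or_ge i 2 with h4 | h4
    · have hi1 : i = 1 := by omega
      subst hi1
      have h4 : q ^ (2 * (1 + 1)) - 1 = (q ^ 2 + 1) * (q ^ 2 - 1) := sq_sub q 2
      rw [h4] at h2
      rcases hr.dvd_mul.1 h2 with h5 | h5
      · exact hE h5
      · exact hB h5
    · exact h0 (Dvd.dvd.mul_left (dvd_prod_idx (Finset.mem_Ico.2 ⟨h4, hi⟩) h2) _)
  obtain ⟨i, hi, h2⟩ := exists_idx hr ((hr.dvd_mul.1 h).resolve_left hA)
  rw [Finset.mem_range] at hi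
  have h3 : ¬ i < l - 2 := fun h3 => hmid i h3 h2
  have h4 : i + 1 ≠ l := by
    rintro rfl
    exact hD h2
  have h5 : i + 1 = l - 1 := by omega
  have h6 : r ∣ M1 q l := Dvd.dvd.mul_left (dvd_prod_idx (Finset.mem_Ico.2 ⟨by omega, by omega⟩) h2) _
  rw [h5, sq_sub] at h2
  exact ⟨h6, (hr.dvd_mul.1 h2).resolve_left hC, hB⟩

theorem M1_ge (hl : 3 ≤ l) (hq : 2 ≤ q) : (q ^ (l + 1) + 1) * (q - 1) * (q ^ l + 1) * (q ^ 4 - 1) ≤ M1 q l := by
  unfold M1
  refine Nat.mul_le_mul_left _ ?_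
  have h1 : q ^ 4 - 1 ∣ ∏ i ∈ Finset.Ico 1 (l - 1), (q ^ (2 * (i + 1)) - 1) :=
    Finset.dvd_prod_of_mem (fun i => q ^ (2 * (i + 1)) - 1) (show 1 ∈ Finset.Ico 1 (l - 1) from
      Finset.mem_Ico.2 ⟨le_rfl, by omega⟩)
  refine Nat.le_of_dvd ?_ h1
  apply Finset.prod_pos
  intro i _
  have : 1 < q ^ (2 * (i + 1)) := Nat.one_lt_pow (by omega) (by omega)
  omega

theorem lt_M1 (hl : 3 ≤ l) (hq : 2 ≤ q) {t : ℕ}
    (ht : ((q : ℤ) ^ 2 - 1) * t = q * (q ^ (l + 1) + 1) * ((q : ℤ) ^ (l - 1) - 1)) : 8 * t < M1 q l := by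
  have h1 := M1_ge hl hq
  obtain ⟨A, hA⟩ : ∃ A : ℤ, A = (q : ℤ) ^ (l + 1) + 1 := ⟨_, rfl⟩
  have h3 : A * ((q : ℤ) - 1) * ((q : ℤ) ^ l + 1) * ((q : ℤ) ^ 4 - 1) ≤ M1 q l := by
    rw [hA, ← cast_pow_sub q 4 hq]
    have : ((q - 1 : ℕ) : ℤ) = (q : ℤ) - 1 := by
      rw [Nat.cast_sub (by omega)]; push_cast; ring
    rw [← this]
    exact_mod_cast h1
  rw [← hA] at ht
  have hq' : (2 : ℤ) ≤ q := by exact_mod_cast hq
  have hA0 : 0 < A := by rw [hA]; positivity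
  obtain ⟨B, hB⟩ : ∃ B : ℤ, B = (q : ℤ) ^ (l - 1) := ⟨_, rfl⟩
  have hB1 : 1 ≤ B := by rw [hB]; exact one_le_pow₀ (by omega)
  have eB : (q : ℤ) ^ l = q * B := by
    rw [hB, ← pow_succ']
    congr 1; omega
  rw [eB] at h3
  rw [← hB] at ht
  have h4 : ((q : ℤ) ^ 2 - 1) * (8 * t) < ((q : ℤ) ^ 2 - 1) * M1 q l := by
    refine lt_of_lt_of_le ?_ (mul_le_mul_of_nonneg_left h3 (by nlinarith))
    have h5 : ((q : ℤ) ^ 2 - 1) * (8 * t) = (8 * q * (B - 1)) * A := by linear_combination 8 * ht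
    have h6 : ((q : ℤ) ^ 2 - 1) * (A * ((q : ℤ) - 1) * (q * B + 1) * ((q : ℤ) ^ 4 - 1)) =
        (((q ^ 2 - 1) * (q ^ 4 - 1)) * ((q - 1) * (q * B + 1))) * A := by ring
    rw [h5, h6]
    refine mul_lt_mul_of_pos_right ?_ hA0
    have h7 : (3 : ℤ) ≤ (q : ℤ) ^ 2 - 1 := by nlinarith
    have h8 : (15 : ℤ) ≤ (q : ℤ) ^ 4 - 1 := by nlinarith
    have h9 : (45 : ℤ) ≤ ((q : ℤ) ^ 2 - 1) * (q ^ 4 - 1) := by nlinarith
    have h11 : 0 < (q : ℤ) * B + 1 := by positivity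
    have h12 : (q : ℤ) * B + 1 ≤ (q - 1) * (q * B + 1) := by nlinarith
    nlinarith
  have h7 := lt_of_mul_lt_mul_left h4 (by nlinarith)
  exact_mod_cast h7

end arith

section

variable (K : Type u) [Field K] [Finite K] {p : ℕ} [Fact p.Prime] [CharP K p] (a b : K)
  (hab : ∀ z₁ z₂ : K, z₁ ^ 2 + a * z₁ * z₂ + b * z₂ ^ 2 = 0 → z₁ = 0 ∧ z₂ = 0)

/-- the Witt index -/
theorem minus_witt (l : ℕ) (W : Submodule K ((Fin l ⊕ Fin l) ⊕ Fin 2 → K)) (hW : (CForm.minusF K l a b hab).TS W) :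
    finrank K W ≤ l := by
  obtain ⟨W₀, hW₀, hcmp⟩ := minusF_cmp (K := K) hab l 0
  refine witt_le hcmp hW₀ (fun x hx => ?_) W hW
  have h1 : (x (.inr 0)) ^ 2 + a * x (.inr 0) * x (.inr 1) + b * (x (.inr 1)) ^ 2 = 0 := by
    have h2 : (CForm.minusF K 0 a b hab).Q x = quadFormMinus 0 K a b x := rfl
    rw [h2] at hx
    simpa [quadFormMinus] using hx
  obtain ⟨h3, h4⟩ := hab _ _ h1
  funext i
  rcases i with i | i
  · rcases i with i | i <;> exact i.elim0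
  · fin_cases i
    · exact h3
    · exact h4

theorem minus_sing : Nat.card {v // (CForm.minusF K 1 a b hab).Sing v} = (Nat.card K - 1) * (Nat.card K ^ 2 + 1) + 1 := by
  have hq : 2 ≤ Nat.card K := Finite.one_lt_card
  let _ := Fintype.ofFinite K
  have hc : Fintype.card K = Nat.card K := Nat.card_eq_fintype_card.symm
  rw [card_Sing_quad]
  have h1 := S0290.result hc (1 + 1) (by omega) a b hab
  refine h1.trans ?_
  rw [num_minus hq 1, pow_one]

/-- the character of degree `q²` of `O⁻_4(q)` -/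
theorem minus_two :
    ∃ ψ : (CForm.minusF K 1 a b hab).iso → ℂ, IsIrrCharacter (CForm.minusF K 1 a b hab).iso ψ ∧
    ψ 1 = ((Nat.card K ^ 2 : ℕ) : ℂ) ∧
    ∀ (z : (CForm.minusF K 1 a b hab).iso) (c : Kˣ),
      (∀ v, (z : ((Fin 1 ⊕ Fin 1) ⊕ Fin 2 → K) ≃ₗ[K] ((Fin 1 ⊕ Fin 1) ⊕ Fin 2 → K)) v = (c : K) • v) → ψ z = ψ 1 :=
  exists_two (CForm.minusF K 1 a b hab) (Nat.one_le_pow _ _ (Finite.card_pos)) (minus_sing K a b hab)
    fun W hW => minus_witt K a b hab 1 W hW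

/-- `|Om 1|` for `O⁻_4(q)` -/
theorem minus_dg_one : dg (CForm.minusF K (1 + 0) a b hab) 1 = Nat.card K ^ 2 + 1 := by
  have hq : 2 ≤ Nat.card K := Finite.one_lt_card
  have h1 := (CForm.minusF K 1 a b hab).card_sing
  rw [minus_sing] at h1
  have h2 := Nat.eq_of_mul_eq_mul_left (by omega) (Nat.add_right_cancel h1)
  rw [← h2]
  unfold dg
  rw [Finset.Ico_self, Finset.prod_empty, mul_one]
  rfl

include hab in
/-- the index of `Ω` -/
theorem minus_t {l : ℕ} (hl : 3 ≤ l) : ∃ t, t ≤ 3 ∧ (Omega K (quadFormMinus l K a b)).index ∣ 2 ^ t ∧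
    ((Odd (Nat.card K ^ 2) ∧ 1 < Nat.card K ^ 2) ∨ 2 ^ t < Nat.card K ^ 2) := by
  have hq : 2 ≤ Nat.card K := Finite.one_lt_card
  rcases Nat.even_or_odd (Nat.card K) with he | ho
  · refine ⟨1, by norm_num, ?_, Or.inr (by nlinarith)⟩
    have h1 := minus_idx_mul K a b hab hl
    have h2 : Nat.gcd 4 (Nat.card K ^ (l + 1) + 1) = 1 := by
      have h3 : Odd (Nat.card K ^ (l + 1) + 1) := (he.pow_of_ne_zero (by omega)).add_one
      exact Nat.Coprime.pow_left 2 h3.coprime_two_left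
    rw [h2] at h1
    rw [pow_one]
    exact Dvd.intro _ (h1.trans (mul_one 2))
  · exact ⟨3, le_rfl, minus_idx K a b hab hl, Or.inl ⟨ho.pow, by nlinarith⟩⟩

include p hab in
/-- the centre of `Ω⁻_8(q)` -/
theorem minus_cen (z : Omega K (quadFormMinus 3 K a b)) (hz : z ∈ Subgroup.center (Omega K (quadFormMinus 3 K a b))) :
    omMat z = 1 := by
  rcases Nat.even_or_odd (Nat.card K) with he | ho
  · have h2 : (2 : K) = 0 := by
      have h6 : 2 ∣ Nat.card K := he.two_dvd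
      obtain ⟨n, hn⟩ := card_pow K p
      rw [hn] at h6
      have h7 : p = 2 := ((Nat.prime_dvd_prime_iff_eq Nat.prime_two Fact.out).1 (Nat.prime_two.dvd_of_dvd_pow h6)).symm
      subst h7
      exact_mod_cast (CharP.cast_eq_zero K 2)
    rcases cen_minus K (by omega) a b hab z hz with h | h
    · exact h
    · rw [h]
      ext i j
      rw [Matrix.neg_apply, neg_eq_iff_add_eq_zero]
      have : (1 : Matrix _ _ K) i j + (1 : Matrix _ _ K) i j = 2 * (1 : Matrix _ _ K) i j := by ring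
      rw [this, h2, zero_mul]
  · have h1 := minus_idx_mul K a b hab (l := 3) le_rfl
    rw [minus_idx_four K (p := p) ho a b hab 3] at h1
    have h2 : Nat.gcd 4 (Nat.card K ^ (3 + 1) + 1) = 2 := by
      obtain ⟨x, hx⟩ := ho
      have h3 : (Nat.card K ^ (3 + 1) + 1) % 4 = 2 := by
        have h4 : Nat.card K ^ (3 + 1) + 1 = 4 * (4 * x ^ 4 + 8 * x ^ 3 + 6 * x ^ 2 + 2 * x) + 2 := by
          rw [hx]; ring
        rw [h4]; omega
      rw [Nat.gcd_rec, h3]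
      decide
    rw [h2] at h1
    have h3 : Nat.card (Subgroup.center (Omega K (quadFormMinus 3 K a b))) = 1 := by omega
    rw [Subgroup.eq_bot_of_card_eq _ h3] at hz
    rw [Subgroup.mem_bot.1 hz]
    rfl

/-- descent, `l ≥ 4` -/
theorem minus_down {l t : ℕ} (hl : 3 ≤ l) (hidx : (Omega K (quadFormMinus l K a b)).index ∣ 2 ^ t)
    {χ : (CForm.minusF K l a b hab).iso → ℂ} (hχ : IsIrrCharacter _ χ) {d : ℕ} (h1 : χ 1 = d)
    (hz : ∀ (z : (CForm.minusF K l a b hab).iso) (c : Kˣ), c ^ 2 = 1 →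
      (∀ v, (z : ((Fin l ⊕ Fin l) ⊕ Fin 2 → K) ≃ₗ[K] ((Fin l ⊕ Fin l) ⊕ Fin 2 → K)) v = (c : K) • v) → χ z = χ 1) :
    ∃ e i, Ch (POmega K (quadFormMinus l K a b)) e ∧ d = e * 2 ^ i ∧ i ≤ t ∧ 0 < e :=
  om_down (CForm.minusF K l a b hab) (minus_hB K l a b hab) hχ h1 hz
    (fun z hz => scal_of (cen_minus K (by omega) a b hab z hz)) hidx

include p in
/-- descent, `l = 3` -/
theorem minus_down3 {t : ℕ} (hidx : (Omega K (quadFormMinus 3 K a b)).index ∣ 2 ^ t)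
    {χ : (CForm.minusF K 3 a b hab).iso → ℂ} (hχ : IsIrrCharacter _ χ) {d : ℕ} (h1 : χ 1 = d) :
    ∃ e i, Ch (POmega K (quadFormMinus 3 K a b)) e ∧ d = e * 2 ^ i ∧ i ≤ t ∧ 0 < e :=
  om_down (CForm.minusF K 3 a b hab) (minus_hB K 3 a b hab) hχ h1 (Z := fun a => a = 1) (fun z c hc hz => by
      congr 1
      apply Subtype.ext
      ext v : 1
      rw [hz, hc, Units.val_one, one_smul]
      rfl) (fun z hz => ⟨1, rfl, fun v => by
      have h3 : omMat z = 1 := minus_cen K (p := p) a b hab z hz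
      rw [show omMat z = 1 from h3]
      rw [Matrix.one_mulVec, Units.val_one, one_smul]⟩) hidx

include p hab in
/-- **the two characters** -/
theorem minus_pair {l : ℕ} (hl : 3 ≤ l) (h2 : Nat.card K = 2 → 4 ≤ l) : ∃ t e i e' i',
    t ≤ 3 ∧ ((Odd (Nat.card K ^ 2) ∧ 1 < Nat.card K ^ 2) ∨ 2 ^ t < Nat.card K ^ 2) ∧
    Ch (POmega K (quadFormMinus l K a b)) e ∧ Ch (POmega K (quadFormMinus l K a b)) e' ∧
    dg (CForm.minusF K (l - 1 + 1) a b hab) (l - 1) = e * 2 ^ i ∧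
    dg (CForm.minusF K (l - 1 + 1) a b hab) (l - 1) * Nat.card K ^ 2 = e' * 2 ^ i' ∧ i ≤ t ∧ i' ≤ t ∧ 0 < e := by
  obtain ⟨k, rfl⟩ : ∃ k, l = k + 1 := ⟨l - 1, by omega⟩
  rw [Nat.add_sub_cancel]
  have hq2 : 2 ≤ Nat.card K := Finite.one_lt_card
  obtain ⟨t, ht, hidx, hN⟩ := minus_t K a b hab hl
  obtain ⟨W₀, hW₀, hcmp⟩ := minusF_cmp (K := K) hab k 1
  obtain ⟨ψ, hψ, hψ1, hψz⟩ := minus_two K a b hab
  by_cases hk : k = 2
  · subst hk
    have hq3 : 3 ≤ Nat.card K := by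
      by_contra h
      have := h2 (by omega)
      omega
    obtain ⟨c, hc⟩ := exists_cus_one (K := K) rfl 2 (by norm_num) (by nlinarith) (by rintro ⟨h3, -⟩; omega)
    obtain ⟨χ, hχ, hχ1, -⟩ := exists_char (CForm.minusF K (2 + 1) a b hab) hW₀ hc
    obtain ⟨χ', hχ', hχ1', -⟩ := exists_prod hcmp hc hW₀ (m := 2 + 1) (minus_witt K a b hab _) (by omega) hψ hψ1
      (fun z a _ hz => hψz z a hz)
    obtain ⟨e, i, h3, h4, h5, h6⟩ := minus_down3 K (p := p) a b hab hidx hχ hχ1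
    obtain ⟨e', i', h3', h4', h5', h6'⟩ := minus_down3 K (p := p) a b hab hidx hχ' hχ1'
    exact ⟨t, e, i, e', i', ht, hN, h3, h3', h4, h4', h5, h5', h6⟩
  · obtain ⟨c, hc⟩ := exists_cus_sq K rfl k (by omega) (fun h => by omega) (fun h => by omega) (fun h => by omega)
    obtain ⟨χ, hχ, hχ1, hχz⟩ := exists_char (CForm.minusF K (k + 1) a b hab) hW₀ hc
    obtain ⟨χ', hχ', hχ1', hχz'⟩ := exists_prod hcmp hc hW₀ (m := k + 1) (minus_witt K a b hab _) (by omega) hψ hψ1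
      (fun z a _ hz => hψz z a hz)
    obtain ⟨e, i, h3, h4, h5, h6⟩ := minus_down K a b hab hl hidx hχ hχ1 hχz
    obtain ⟨e', i', h3', h4', h5', h6'⟩ := minus_down K a b hab hl hidx hχ' hχ1' hχz'
    exact ⟨t, e, i, e', i', ht, hN, h3, h3', h4, h4', h5, h5', h6⟩

omit [Fact p.Prime] [CharP K p] in
include hab in
/-- the character of degree `dg F l` -/
theorem minus_top {l : ℕ} (hl : 3 ≤ l) : ∃ t e i, t ≤ 3 ∧ (Nat.card K = 2 → t ≤ 1) ∧
    Ch (POmega K (quadFormMinus l K a b)) e ∧ dg (CForm.minusF K (l + 0) a b hab) l = e * 2 ^ i ∧ i ≤ t ∧ 0 < e := by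
  have hq2 : 2 ≤ Nat.card K := Finite.one_lt_card
  obtain ⟨t, ht, hidx, hN⟩ := minus_t K a b hab hl
  obtain ⟨W₀, hW₀, hcmp⟩ := minusF_cmp (K := K) hab l 0
  obtain ⟨c, hc⟩ := exists_cus_sq K rfl l (by omega) (fun h => by omega) (fun h => by omega) (fun h => by omega)
  obtain ⟨χ, hχ, hχ1, hχz⟩ := exists_char (CForm.minusF K (l + 0) a b hab) hW₀ hc
  obtain ⟨e, i, h3, h4, h5, h6⟩ := minus_down K a b hab hl hidx hχ hχ1 hχz
  refine ⟨t, e, i, ht, fun h => ?_, h3, h4, h5, h6⟩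
  rw [h] at hN
  by_contra h7
  have h8 : 2 ^ 2 ≤ 2 ^ t := Nat.pow_le_pow_right (by norm_num) (by omega)
  rcases hN with ⟨h9, -⟩ | h9
  · exact absurd h9 (by decide)
  · omega

include p in
/-- **the third character**, `Ω⁻_8(q)`, `q ≥ 4` -/
theorem minus_third (hq4 : 4 ≤ Nat.card K) : ∃ t e i, t ≤ 3 ∧ Ch (POmega K (quadFormMinus 3 K a b)) e ∧
    dg (CForm.minusF K (2 + 1) a b hab) 2 * (Nat.card K ^ 2 + 1) = e * 2 ^ i ∧ i ≤ t ∧ 0 < e := by
  obtain ⟨t, ht, hidx, hN⟩ := minus_t K a b hab (l := 3) le_rfl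
  obtain ⟨W₀, hW₀, hcmp⟩ := minusF_cmp (K := K) hab 2 1
  obtain ⟨W₁, hW₁, -⟩ := minusF_cmp (K := K) hab 1 0
  obtain ⟨c, hc⟩ := exists_cus_one (K := K) rfl 2 (by norm_num) (by nlinarith) (by rintro ⟨h3, -⟩; omega)
  obtain ⟨c₁, hc₁⟩ := exists_cus_one (K := K) rfl 1 (by norm_num) (by rw [pow_one]; omega) (by rintro ⟨h3, -⟩; omega)
  obtain ⟨ψ, hψ, hψ1, -⟩ := exists_char (CForm.minusF K (1 + 0) a b hab) hW₁ hc₁
  rw [minus_dg_one] at hψ1
  obtain ⟨χ', hχ', hχ1', -⟩ := exists_prod hcmp hc hW₀ (m := 2 + 1) (minus_witt K a b hab _) (by omega) hψ hψ1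
    (fun z a ha hz => by
      congr 1
      apply Subtype.ext
      ext v : 1
      rw [hz, (pow_one a).symm.trans ha, Units.val_one, one_smul]
      rfl)
  obtain ⟨e', i', h3', h4', h5', h6'⟩ := minus_down3 K (p := p) a b hab hidx hχ' hχ1'
  exact ⟨t, e', i', ht, h3', h4', h5', h6'⟩

include p in
theorem minus_ne (hq3 : 3 ≤ Nat.card K) {e e' i i' : ℕ} (h : dg (CForm.minusF K (3 + 0) a b hab) 3 = e * 2 ^ i)
    (h' : dg (CForm.minusF K (2 + 1) a b hab) 2 * (Nat.card K ^ 2 + 1) = e' * 2 ^ i') (he : 0 < e) : e ≠ e' := by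
  rintro rfl
  have hp : p.Prime := Fact.out
  obtain ⟨W₀, hW₀, hcmp⟩ := minusF_cmp (K := K) hab 3 0
  obtain ⟨W₁, hW₁, hcmp₁⟩ := minusF_cmp (K := K) hab 2 1
  obtain ⟨b₀, hb⟩ := card_dg hcmp (p := p) (by omega) hW₀
  obtain ⟨b', hb'⟩ := card_dg hcmp₁ (p := p) (by omega) hW₁
  have h1 : Nat.card (CForm.minusF K 0 a b hab).iso = 2 * (Nat.card K + 1) := by
    rw [card_minusF]; simp
  have h2 : Nat.card (CForm.minusF K 1 a b hab).iso = 2 * Nat.card K ^ 2 * (Nat.card K ^ 2 + 1) * (Nat.card K ^ 2 - 1) := by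
    rw [card_minusF]; simp
  obtain ⟨s, hs⟩ := card_pow K p
  rw [h1, h] at hb
  rw [h2] at hb'
  have e2 : Nat.card (CForm.minusF K (2 + 1) a b hab).iso = Nat.card (CForm.minusF K (3 + 0) a b hab).iso := rfl
  rw [e2, hb] at hb'
  obtain ⟨q, hq⟩ : ∃ q, q = Nat.card K := ⟨_, rfl⟩
  obtain ⟨w, hw⟩ : ∃ w, q = w + 1 := ⟨q - 1, by omega⟩
  rw [← hq] at hb' hs h' hq3
  have e3 : q ^ 3 - 1 = w * (q ^ 2 + q + 1) := by
    have : q ^ 3 = w * (q ^ 2 + q + 1) + 1 := by rw [hw]; ring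
    omega
  have e4 : q ^ 2 - 1 = w * (q + 1) := by
    have : q ^ 2 = w * (q + 1) + 1 := by rw [hw]; ring
    omega
  have hw0 : 0 < w := by omega
  have h3 : p ^ b₀ * (2 ^ i * (q ^ 2 + q + 1)) = p ^ (b' + s * 2) * (2 ^ i' * (q ^ 2 - 1)) := by
    have h4 : 0 < 2 * (e * (w * (q + 1))) := by positivity
    apply Nat.eq_of_mul_eq_mul_left h4
    rw [pow_add, pow_mul, ← hs]
    rw [e3] at hb'
    calc 2 * (e * (w * (q + 1))) * (p ^ b₀ * (2 ^ i * (q ^ 2 + q + 1)))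
        = p ^ b₀ * (e * 2 ^ i * (w * (q ^ 2 + q + 1)) * (2 * (q + 1))) := by ring
      _ = p ^ b' * (dg (CForm.minusF K (2 + 1) a b hab) 2 * (q ^ 2 - 1) *
            (2 * q ^ 2 * (q ^ 2 + 1) * (q ^ 2 - 1))) := hb'
      _ = p ^ b' * ((dg (CForm.minusF K (2 + 1) a b hab) 2 * (q ^ 2 + 1)) * (q ^ 2 - 1) *
            (2 * q ^ 2 * (q ^ 2 - 1))) := by ring
      _ = p ^ b' * ((e * 2 ^ i') * (w * (q + 1)) * (2 * q ^ 2 * (q ^ 2 - 1))) := by rw [h']; nth_rewrite 1 [e4]; rfl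
      _ = _ := by ring
  have hpq : p ∣ q := by rw [hq]; exact char_dvd K
  obtain ⟨x, y, h4⟩ := strip hp (by
    rw [Nat.coprime_comm, hp.coprime_iff_not_dvd]
    intro h5
    have h6 : p ∣ q ^ 2 + q := (dvd_pow hpq (by norm_num)).add hpq
    exact hp.one_lt.ne' (Nat.dvd_one.1 ((Nat.dvd_add_right h6).1 h5))) (cop_sub hp hpq (by norm_num) (by omega)) h3
  refine no_pow (c := 0) h4 ?_ ?_
  · rw [pow_zero, one_mul]; omega
  · rw [zero_add, pow_one, e4]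
    rw [hw] at hq3 ⊢
    nlinarith

include p hab in
/-- **`PΩ⁻_{2l+2}(q)`**, apart from `(Ω⁻_8(2), 5)`, `(Ω⁻_8(2), 7)`, `(Ω⁻_8(3), 5)` -/
theorem two_minus_main {l : ℕ} (hl : 3 ≤ l) {r : ℕ} (hr : r.Prime) (hrp : r ≠ p)
    (hd : r ∣ Nat.card (POmega K (quadFormMinus l K a b)))
    (hex2 : l = 3 → Nat.card K = 2 → r ≠ 5 ∧ r ≠ 7) (hex3 : l = 3 → Nat.card K = 3 → r ≠ 5) :
    H596.OneFacts.Two r (POmega K (quadFormMinus l K a b)) := by
  have hp : p.Prime := Fact.out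
  have hq2 : 2 ≤ Nat.card K := Finite.one_lt_card
  have hMG := minus_prod K a b hab hr hrp hd
  obtain ⟨t, e, i, ht, ht', he, he1, he2, he3⟩ := minus_top K a b hab hl
  obtain ⟨x, hx⟩ := minus_dvd_top K (p := p) a b hab (l := l) (by omega)
  have k1 : r ∣ M1 (Nat.card K) l → r ∣ e := fun h => dvd_down hr he1 he2 (fun hr2 =>
    (pow_dvd_pow 2 (by omega)).trans (prime_pow_dvd (t := 5) Nat.prime_two hp (by rw [← hr2]; exact hrp)
      ((two_M1 (two_cases K hrp hr2) hl).trans hx))) (rm_p (p := p) hr hrp h hx)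
  have hMc : Nat.Coprime (M1 (Nat.card K) l) p :=
    Nat.Coprime.mul_left (Nat.Coprime.mul_left (Nat.Coprime.mul_left (cop_add hp (char_dvd K) (by omega))
      (by have := cop_sub (i := 1) hp (char_dvd K) one_pos (by omega); rwa [pow_one] at this))
      (cop_add hp (char_dvd K) (by omega))) (cop_prod hp (char_dvd K) (by omega) _)
  have hM1e : M1 (Nat.card K) l ≤ e * 2 ^ t := (le_of_cop hMc hx (by
    have : 0 < dg (CForm.minusF K (l + 0) a b hab) l := by rw [he1]; positivity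
    exact this)).trans (le_down he1 he2)
  have h2t : 2 ^ t ≤ 8 := (Nat.pow_le_pow_right (by norm_num) ht).trans (by norm_num)
  have hq2' : (Nat.card K : ℤ) ^ 2 - 1 = ((Nat.card K ^ 2 - 1 : ℕ) : ℤ) := (cast_pow_sub _ 2 hq2).symm
  rcases Nat.lt_or_ge l 4 with hl4 | hl4
  · have hl3 : l = 3 := by omega
    subst hl3
    rcases Nat.lt_or_ge (Nat.card K) 3 with hq3 | hq3
    · -- `Ω⁻_8(2)`
      have hq : Nat.card K = 2 := by omega
      obtain ⟨f, g, hf, hg, hf', hg'⟩ := rk3_minus K a b hab (l := 3) le_rfl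
      obtain ⟨h5, h7⟩ := hex2 rfl hq
      have h2t : 2 ^ t ≤ 2 := (Nat.pow_le_pow_right (by norm_num) (ht' hq)).trans (by norm_num)
      have hM : M1 (Nat.card K) 3 = 2295 := by rw [hq]; rfl
      rw [hM] at hM1e k1
      have he4 : 1148 ≤ e := by nlinarith
      rw [hq] at hf' hg' hMG
      norm_num at hf' hg'
      have e1 : f = 84 := by omega
      have e2 : g = 34 := by omega
      have hMG' : MG 2 3 = 3 ^ 4 * 5 * 7 * 17 := by rfl
      rw [hMG'] at hMG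
      have h6 : r ∣ 3 ^ 4 ∨ r ∣ 17 := by
        rcases hr.dvd_mul.1 hMG with h8 | h8
        · rcases hr.dvd_mul.1 h8 with h9 | h9
          · rcases hr.dvd_mul.1 h9 with h10 | h10
            · exact Or.inl h10
            · exact absurd ((Nat.prime_dvd_prime_iff_eq hr (by norm_num)).1 h10) h5
          · exact absurd ((Nat.prime_dvd_prime_iff_eq hr (by norm_num)).1 h9) h7
        · exact Or.inr h8
      rcases h6 with h6 | h6
      · have hr3 : r = 3 := (Nat.prime_dvd_prime_iff_eq hr Nat.prime_three).1 (hr.dvd_of_dvd_pow h6)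
        subst hr3
        exact two_of_ch he hf (k1 (by norm_num)) (by rw [e1]; norm_num) (by omega)
      · have hr3 : r = 17 := (Nat.prime_dvd_prime_iff_eq hr (by norm_num)).1 h6
        subst hr3
        exact two_of_ch he hg (k1 (by norm_num)) (by rw [e2]; norm_num) (by omega)
    by_cases h4 : r ∣ (Nat.card K ^ 4 + 1) * (Nat.card K ^ 6 - 1)
    · obtain ⟨t', e', i', e'', i'', h5, h6, h7, h8, h9, h10, h11, h12, h13⟩ := minus_pair K (p := p) a b hab hl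
        (fun h => by omega)
      obtain ⟨x', hx'⟩ := td_key_three hq2 (minus_dvd K (p := p) a b hab (k := 2) (n := 1) (by omega))
      have h14 := rm_p (p := p) hr hrp h4 hx'
      have h15 : r = 2 → 2 ^ (t' + 1) ∣ dg (CForm.minusF K (3 - 1 + 1) a b hab) (3 - 1) := fun hr2 =>
        (pow_dvd_pow 2 (by omega)).trans (prime_pow_dvd (t := 4) Nat.prime_two hp (by rw [← hr2]; exact hrp)
          ((two_M3 (two_cases K hrp hr2)).trans hx'))
      exact two_of_ch h7 h8 (dvd_down hr h9 h11 h15 h14)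
        (dvd_down hr h10 h12 (fun h => Dvd.dvd.mul_right (h15 h) _) (Dvd.dvd.mul_right h14 _))
        (ne_down h9 h10 h12 h13 h6)
    · have h5 : r ∣ Nat.card K ^ 2 + 1 := (td_three hr hMG).resolve_left h4
      have hr2 : r ≠ 2 := by
        intro hr2
        have ho := two_cases K hrp hr2
        exact h4 (Dvd.dvd.mul_right (by rw [hr2]; exact (ho.pow (n := 4)).add_one.two_dvd) _)
      have hq4 : 4 ≤ Nat.card K := by
        by_contra h6
        have hq : Nat.card K = 3 := by omega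
        rw [hq] at h5
        have h6 : r ∣ 2 * 5 := by norm_num at h5; exact h5
        rcases hr.dvd_mul.1 h6 with h7 | h7
        · exact hr2 ((Nat.prime_dvd_prime_iff_eq hr Nat.prime_two).1 h7)
        · exact hex3 rfl hq ((Nat.prime_dvd_prime_iff_eq hr (by norm_num)).1 h7)
      obtain ⟨t', e', i', h6, h7, h8, h9, h10⟩ := minus_third K (p := p) a b hab hq4
      have h11 : r ∣ M1 (Nat.card K) 3 := by
        refine Dvd.dvd.mul_left (dvd_prod_idx (i := 1) (Finset.mem_Ico.2 ⟨le_rfl, by omega⟩) ?_) _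
        have h12 : Nat.card K ^ (2 * (1 + 1)) - 1 = (Nat.card K ^ 2 + 1) * (Nat.card K ^ 2 - 1) := sq_sub _ 2
        rw [h12]
        exact Dvd.dvd.mul_right h5 _
      exact two_of_ch he h7 (k1 h11) (dvd_down hr h8 h9 (fun h => absurd h hr2) (Dvd.dvd.mul_left h5 _))
        (minus_ne K (p := p) a b hab hq3 he1 h8 he3)
  · rcases td_split hl4 hr hMG with h4 | ⟨h4, h5, h6⟩
    · obtain ⟨t', e', i', e'', i'', h5, h6, h7, h8, h9, h10, h11, h12, h13⟩ := minus_pair K (p := p) a b hab hl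
        (fun h => hl4)
      obtain ⟨x', hx'⟩ := td_key' hl4 hq2 (minus_dvd K (p := p) a b hab (k := l - 1) (n := 1) (by omega))
      have h14 := rm_p (p := p) hr hrp h4 hx'
      have h15 : r = 2 → 2 ^ (t' + 1) ∣ dg (CForm.minusF K (l - 1 + 1) a b hab) (l - 1) := fun hr2 =>
        (pow_dvd_pow 2 (by omega)).trans (prime_pow_dvd (t := 4) Nat.prime_two hp (by rw [← hr2]; exact hrp)
          ((two_M2 (two_cases K hrp hr2)).trans hx'))
      exact two_of_ch h7 h8 (dvd_down hr h9 h11 h15 h14)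
        (dvd_down hr h10 h12 (fun h => Dvd.dvd.mul_right (h15 h) _) (Dvd.dvd.mul_right h14 _))
        (ne_down h9 h10 h12 h13 h6)
    · obtain ⟨f, g, -, hg, -, hg'⟩ := rk3_minus K a b hab hl
      have h7 := lt_M1 hl hq2 hg'
      have h8 : r ∣ g := by
        have h9 : (r : ℤ) ∣ ((Nat.card K ^ 2 - 1 : ℕ) : ℤ) * g := by
          rw [← hq2', hg', ← cast_pow_sub _ (l - 1) hq2]
          exact Dvd.dvd.mul_left (by exact_mod_cast h5) _
        exact (hr.dvd_mul.1 (by exact_mod_cast h9)).resolve_left h6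
      exact two_of_ch he hg (k1 h4) h8 (by nlinarith)

end

end Cfsg.Agent.H749.Two
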