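import Cfsg.Agent.H749.TwoSpSmall
import Cfsg.Agent.H749.TwoMinus
import Cfsg.Agent.H967.Two.Minus8
import Cfsg.Prelude.Def_LieTypeChar

/-!
# Two characters of degree divisible by `p`, symplectic and orthogonal groups, `p` not the characteristic (helper749)

`two_psp` (hypothesis `Sp4Two` : `PSp_4(q)`, odd `p ∣ q - 1`), `two_omega_odd`, `two_omega_plus`, `two_omega_minus`
(hypothesis `O8mTwo` : `Ω⁻_8(2)`, `p = 5, 7`).
-/

set_option autoImplicit false

open scoped ComplexConjugate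
open Cfsg

namespace Cfsg.Agent.H749.Two

open Cfsg.Agent.Characters MulAction Module Cfsg.Agent.H53.HC Cfsg.Agent.H477.HC

universe u v w

/-- `PSp_4(q)`, odd `p ∣ q - 1` -/
def Sp4Two : Prop := ∀ (F : Type) [Field F] [Fintype F], 4 ≤ Fintype.card F → ∀ r : ℕ, r.Prime → r ≠ 2 →
  r ∣ Fintype.card F - 1 → H596.OneFacts.Two r (PSp 2 F)

/-- `Ω⁻_8(2)`, `p = 5, 7` -/
def O8mTwo : Prop := ∀ (F : Type) [Field F] [Fintype F] (a b : F), Fintype.card F = 2 →
  (∀ z₁ z₂ : F, z₁ ^ 2 + a * z₁ * z₂ + b * z₂ ^ 2 = 0 → z₁ = 0 ∧ z₂ = 0) → ∀ r : ℕ, (r = 5 ∨ r = 7) →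
  H596.OneFacts.Two r (POmega F (quadFormMinus 3 F a b))

theorem two_psp (h4 : Sp4Two) (S : Type u) [Group S] [Finite S] (h : IsPSp S) {r : ℕ} (hr : r.Prime)
    (hd : r ∣ Nat.card S) (hL : ¬ IsLieTypeChar r S) : H596.OneFacts.Two r S := by
  obtain ⟨F, _, _, m, hm, h3, ⟨e⟩⟩ := h
  obtain ⟨p, hp⟩ := CharP.exists F
  have hpr : p.Prime := (CharP.char_is_prime_or_zero F p).resolve_right (CharP.char_ne_zero_of_finite F p)
  have : Fact p.Prime := ⟨hpr⟩
  have hrp : r ≠ p := by
    rintro rfl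
    exact hL (Or.inr (Or.inl ⟨F, inferInstance, inferInstance, inferInstance, m, hm, h3, ⟨e⟩⟩))
  refine two_congr e ?_
  rw [Nat.card_congr e.toEquiv] at hd
  have hprod := sp_prod F (p := p) hr hrp hd
  have hcF : Nat.card F = Fintype.card F := Nat.card_eq_fintype_card
  rcases Nat.lt_or_ge m 3 with hm3 | hm3
  · have hm2 : m = 2 := by omega
    subst hm2
    have hq3 := h3 rfl
    by_cases hq : Fintype.card F = 3
    · apply two_sp43 F hq
      rw [hcF, hq] at hprod
      have h5 : r ∣ 2 ^ 7 * 5 := by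
        refine hprod.trans (dvd_of_eq ?_)
        rw [Finset.prod_range_succ, Finset.prod_range_one]
        norm_num
      rcases hr.dvd_mul.1 h5 with h6 | h6
      · exact Or.inl ((Nat.prime_dvd_prime_iff_eq hr Nat.prime_two).1 (hr.dvd_of_dvd_pow h6))
      · exact Or.inr ((Nat.prime_dvd_prime_iff_eq hr Nat.prime_five).1 h6)
    · have hq4 : 4 ≤ Fintype.card F := by omega
      rw [hcF, Finset.prod_range_succ, Finset.prod_range_one] at hprod
      have e1 : Fintype.card F ^ (2 * (0 + 1)) - 1 = (Fintype.card F + 1) * (Fintype.card F - 1) := by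
        have := sq_sub (Fintype.card F) 1
        rwa [pow_one] at this
      have e2 : Fintype.card F ^ (2 * (1 + 1)) - 1 =
          (Fintype.card F ^ 2 + 1) * ((Fintype.card F + 1) * (Fintype.card F - 1)) := by
        rw [← e1]
        exact sq_sub (Fintype.card F) 2
      rw [e1, e2] at hprod
      have h5 : r ∣ Fintype.card F + 1 ∨ r ∣ Fintype.card F - 1 ∨ r ∣ Fintype.card F ^ 2 + 1 := by
        rcases hr.dvd_mul.1 hprod with h6 | h6
        · rcases hr.dvd_mul.1 h6 with h7 | h7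
          · exact Or.inl h7
          · exact Or.inr (Or.inl h7)
        · rcases hr.dvd_mul.1 h6 with h7 | h7
          · exact Or.inr (Or.inr h7)
          · rcases hr.dvd_mul.1 h7 with h8 | h8
            · exact Or.inl h8
            · exact Or.inr (Or.inl h8)
      by_cases h6 : r ∣ Fintype.card F + 1 ∨ r ∣ Fintype.card F ^ 2 + 1
      · exact two_sp_four F (p := p) (by rw [hcF]; exact hq4) hr hrp (by rw [hcF]; exact h6)
      · rw [not_or] at h6
        have h7 : r ∣ Fintype.card F - 1 := by tauto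
        refine h4 F hq4 r hr (fun hr2 => h6.1 ?_) h7
        subst hr2
        omega
  · by_cases h62 : m = 3 ∧ Fintype.card F = 2
    · obtain ⟨rfl, hF⟩ := h62
      apply two_sp62 F hF
      rw [hcF, hF] at hprod
      have h5 : r ∣ 3 ^ 4 * 5 * 7 := by
        refine hprod.trans (dvd_of_eq ?_)
        rw [Finset.prod_range_succ, Finset.prod_range_succ, Finset.prod_range_one]
        norm_num
      rcases hr.dvd_mul.1 h5 with h6 | h6
      · rcases hr.dvd_mul.1 h6 with h7 | h7
        · exact Or.inl ((Nat.prime_dvd_prime_iff_eq hr Nat.prime_three).1 (hr.dvd_of_dvd_pow h7))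
        · exact Or.inr (Or.inl ((Nat.prime_dvd_prime_iff_eq hr Nat.prime_five).1 h7))
      · exact Or.inr (Or.inr ((Nat.prime_dvd_prime_iff_eq hr (by norm_num)).1 h6))
    by_cases h63 : m = 3 ∧ Fintype.card F = 3
    · obtain ⟨rfl, hF⟩ := h63
      apply two_sp63 F (by rw [hcF]; exact hF)
      rw [hcF, hF] at hprod
      have h5 : r ∣ 2 ^ 10 * 5 * 7 * 13 := by
        refine hprod.trans (dvd_of_eq ?_)
        rw [Finset.prod_range_succ, Finset.prod_range_succ, Finset.prod_range_one]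
        norm_num
      rcases hr.dvd_mul.1 h5 with h6 | h6
      · rcases hr.dvd_mul.1 h6 with h7 | h7
        · rcases hr.dvd_mul.1 h7 with h8 | h8
          · exact Or.inl ((Nat.prime_dvd_prime_iff_eq hr Nat.prime_two).1 (hr.dvd_of_dvd_pow h8))
          · exact Or.inr (Or.inl ((Nat.prime_dvd_prime_iff_eq hr Nat.prime_five).1 h8))
        · exact Or.inr (Or.inr (Or.inl ((Nat.prime_dvd_prime_iff_eq hr (by norm_num)).1 h7)))
      · exact Or.inr (Or.inr (Or.inr ((Nat.prime_dvd_prime_iff_eq hr (by norm_num)).1 h6)))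
    refine two_sp_main F (p := p) hm3 (fun h5 => ?_) (fun h5 => ?_) hr hrp hd
    · rw [hcF] at h5
      by_contra h6
      exact h62 ⟨by omega, h5⟩
    · rw [hcF] at h5
      by_contra h6
      exact h63 ⟨by omega, h5⟩

theorem two_omega_odd (S : Type u) [Group S] [Finite S] (h : IsPOmegaOdd S) {r : ℕ} (hr : r.Prime)
    (hd : r ∣ Nat.card S) (hL : ¬ IsLieTypeChar r S) : H596.OneFacts.Two r S := by
  obtain ⟨F, _, _, m, hm, ho, ⟨e⟩⟩ := h
  obtain ⟨p, hp⟩ := CharP.exists F
  have hpr : p.Prime := (CharP.char_is_prime_or_zero F p).resolve_right (CharP.char_ne_zero_of_finite F p)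
  have : Fact p.Prime := ⟨hpr⟩
  have hrp : r ≠ p := by
    rintro rfl
    exact hL (Or.inr (Or.inr (Or.inr (Or.inl ⟨F, inferInstance, inferInstance, inferInstance, m, hm, ho, ⟨e⟩⟩))))
  refine two_congr e ?_
  rw [Nat.card_congr e.toEquiv] at hd
  exact two_odd_main F (p := p) (by rwa [Nat.card_eq_fintype_card]) hm hr hrp hd

theorem two_omega_plus (S : Type u) [Group S] [Finite S] (h : IsPOmegaPlus S) {r : ℕ} (hr : r.Prime)
    (hd : r ∣ Nat.card S) (hL : ¬ IsLieTypeChar r S) : H596.OneFacts.Two r S := by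
  obtain ⟨F, _, _, m, hm, ⟨e⟩⟩ := h
  obtain ⟨p, hp⟩ := CharP.exists F
  have hpr : p.Prime := (CharP.char_is_prime_or_zero F p).resolve_right (CharP.char_ne_zero_of_finite F p)
  have : Fact p.Prime := ⟨hpr⟩
  have hrp : r ≠ p := by
    rintro rfl
    exact hL (Or.inr (Or.inr (Or.inr (Or.inr (Or.inl
      ⟨F, inferInstance, inferInstance, inferInstance, m, hm, ⟨e⟩⟩)))))
  refine two_congr e ?_
  rw [Nat.card_congr e.toEquiv] at hd
  exact two_plus_main F (p := p) hm hr hrp hd

theorem two_omega_minus (h8 : O8mTwo) (S : Type u) [Group S] [Finite S] (h : IsPOmegaMinus S) {r : ℕ} (hr : r.Prime)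
    (hd : r ∣ Nat.card S) (hL : ¬ IsLieTypeChar r S) : H596.OneFacts.Two r S := by
  obtain ⟨F, _, _, m, a, b, hm, hab, ⟨e⟩⟩ := h
  obtain ⟨p, hp⟩ := CharP.exists F
  have hpr : p.Prime := (CharP.char_is_prime_or_zero F p).resolve_right (CharP.char_ne_zero_of_finite F p)
  have : Fact p.Prime := ⟨hpr⟩
  have hrp : r ≠ p := by
    rintro rfl
    exact hL (Or.inr (Or.inr (Or.inr (Or.inr (Or.inr (Or.inl
      ⟨F, inferInstance, inferInstance, inferInstance, m, a, b, hm, hab, ⟨e⟩⟩))))))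
  refine two_congr e ?_
  rw [Nat.card_congr e.toEquiv] at hd
  have hcF : Nat.card F = Fintype.card F := Nat.card_eq_fintype_card
  by_cases h82 : m = 4 ∧ Fintype.card F = 2 ∧ (r = 5 ∨ r = 7)
  · obtain ⟨rfl, hF, hr57⟩ := h82
    exact h8 F a b hF hab r hr57
  by_cases h83 : m = 4 ∧ Fintype.card F = 3 ∧ r = 5
  · obtain ⟨rfl, hF, rfl⟩ := h83
    exact H967.Two.two_minus_eight p hab (by rw [hcF, hF]) hr (by norm_num) (by rw [hcF, hF]; norm_num)
  exact two_minus_main F (p := p) a b hab (l := m - 1) (by omega) hr hrp hd (fun h5 h6 => by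
    rw [hcF] at h6
    constructor
    · intro h7
      exact h82 ⟨by omega, h6, Or.inl h7⟩
    · intro h7
      exact h82 ⟨by omega, h6, Or.inr h7⟩) (fun h5 h6 h7 => h83 ⟨by omega, by rw [← hcF]; exact h6, h7⟩)

end Cfsg.Agent.H749.Two
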