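import Cfsg.Agent.H749.TwoRows
import Cfsg.Agent.H477.HC.N5

/-!
# `Ω⁻_8(2)`, `p = 5, 7` (helper749, with helper477's characters)
-/

set_option autoImplicit false

open Cfsg

namespace Cfsg.Agent.H749.Two

open Cfsg.Agent.Characters Cfsg.Agent.H477.HC

universe u

theorem o8mTwo : O8mTwo := by
  intro F _ _ a b hF hab r hr
  have hcF : Nat.card F = 2 := by rw [Nat.card_eq_fintype_card, hF]
  obtain ⟨p, hp⟩ := CharP.exists F
  have hpr : p.Prime := (CharP.char_is_prime_or_zero F p).resolve_right (CharP.char_ne_zero_of_finite F p)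
  have : Fact p.Prime := ⟨hpr⟩
  have hp2 : p = 2 := by
    have := char_dvd F (p := p)
    rw [hcF] at this
    exact (Nat.prime_dvd_prime_iff_eq hpr Nat.prime_two).1 this
  subst hp2
  obtain ⟨d, hd1, hd2, hd3⟩ := o8m_two hcF hab
  have hd4 := Nat.le_of_dvd (by norm_num) hd2
  rcases hr with rfl | rfl
  · obtain ⟨t, e, i, ht, ht', he, he1, he2, he3⟩ := minus_top F a b hab (l := 3) le_rfl
    obtain ⟨x, hx⟩ := minus_dvd_top F (p := 2) a b hab (l := 3) (by norm_num)
    have h1 : 2295 ∣ 2 ^ x * dg (CForm.minusF F (3 + 0) a b hab) 3 := by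
      refine Dvd.dvd.trans (dvd_of_eq ?_) hx
      rw [hcF]
      rfl
    rw [he1] at h1
    have h2 : 2295 ∣ e := by
      have h3 : 2295 ∣ 2 ^ (x + i) * e := by
        rw [pow_add]
        exact h1.trans (dvd_of_eq (by ring))
      exact (Nat.Coprime.pow_right (x + i) (by norm_num : Nat.Coprime 2295 2)).dvd_of_dvd_mul_left h3
    have h3 := Nat.le_of_dvd he3 h2
    exact two_of_ch he hd3 (Dvd.dvd.trans (by norm_num) h2) (Dvd.dvd.trans (by norm_num) hd1) (by omega)
  · obtain ⟨f, g, hf, -, hf', -⟩ := rk3_minus F a b hab (l := 3) le_rfl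
    rw [hcF] at hf'
    norm_num at hf'
    have e1 : f = 84 := by omega
    subst e1
    exact two_of_ch hf hd3 (by norm_num) (Dvd.dvd.trans (by norm_num) hd1) (by
      rintro rfl
      revert hd1
      norm_num)

/-- **`PΩ⁻`** -/
theorem two_omega_minus' (S : Type u) [Group S] [Finite S] (h : IsPOmegaMinus S) {r : ℕ} (hr : r.Prime)
    (hd : r ∣ Nat.card S) (hL : ¬ IsLieTypeChar r S) : H596.OneFacts.Two r S :=
  two_omega_minus o8mTwo S h hr hd hL

end Cfsg.Agent.H749.Two
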