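import Cfsg.Agent.H477.HC.NPO

/-!
# Pairs of characters of the simple classical groups: arithmetic (helper749)

`le_of_cop` : `M ≤ d` if `M ∣ p^e d`, `p ∤ M`; `bc_split` : the primes of type `B`, `C`; `d_split` : type `D`;
`td_split` : type `²D`.
-/

set_option autoImplicit false

namespace Cfsg.Agent.H749.Two

open Cfsg.Agent.H477.HC

theorem le_of_cop {p e M d : ℕ} (hM : Nat.Coprime M p) (h : M ∣ p ^ e * d) (hd : 0 < d) : M ≤ d :=
  Nat.le_of_dvd hd ((Nat.Coprime.pow_right e hM).dvd_of_dvd_mul_left h)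

theorem cop_sub {p q i : ℕ} (hp : p.Prime) (h : p ∣ q) (hi : 0 < i) (hq : 0 < q) : Nat.Coprime (q ^ i - 1) p := by
  rw [Nat.coprime_comm, hp.coprime_iff_not_dvd]
  intro h1
  have h2 : p ∣ q ^ i := dvd_pow h hi.ne'
  have h3 : 1 ≤ q ^ i := Nat.one_le_pow _ _ hq
  have h4 : p ∣ 1 := by
    have := (Nat.dvd_sub_iff_right h3 h2).1 h1
    exact this
  exact hp.one_lt.ne' (Nat.dvd_one.1 h4)

theorem cop_add {p q i : ℕ} (hp : p.Prime) (h : p ∣ q) (hi : 0 < i) : Nat.Coprime (q ^ i + 1) p := by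
  rw [Nat.coprime_comm, hp.coprime_iff_not_dvd]
  intro h1
  have h2 : p ∣ q ^ i := dvd_pow h hi.ne'
  exact hp.one_lt.ne' (Nat.dvd_one.1 ((Nat.dvd_add_right h2).1 h1))

theorem cop_prod {p q : ℕ} (hp : p.Prime) (h : p ∣ q) (hq : 0 < q) (t : Finset ℕ) :
    Nat.Coprime (∏ i ∈ t, (q ^ (2 * (i + 1)) - 1)) p :=
  Nat.Coprime.prod_left fun _ _ => cop_sub hp h (by omega) hq

theorem cop_P1 {p q m : ℕ} (hp : p.Prime) (h : p ∣ q) (hq : 0 < q) (hm : 0 < m) : Nat.Coprime (P1 q m) p :=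
  Nat.Coprime.mul_left (cop_add hp h hm) (cop_prod hp h hq _)

theorem cop_P2 {p q m : ℕ} (hp : p.Prime) (h : p ∣ q) (hq : 0 < q) (hm : 2 ≤ m) : Nat.Coprime (P2 q m) p :=
  Nat.Coprime.mul_left (Nat.Coprime.mul_left (cop_add hp h (by omega)) (cop_sub hp h (by omega) hq))
    (cop_prod hp h hq _)

theorem cop_D1 {p q m : ℕ} (hp : p.Prime) (h : p ∣ q) (hq : 0 < q) : Nat.Coprime (D1 q m) p := cop_prod hp h hq _

theorem cop_D2 {p q m : ℕ} (hp : p.Prime) (h : p ∣ q) (hq : 0 < q) (hm : 2 ≤ m) : Nat.Coprime (D2 q m) p :=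
  Nat.Coprime.mul_left (Nat.Coprime.mul_left (Nat.Coprime.mul_left (cop_sub hp h (by omega) hq)
    (by have := cop_add (i := 1) hp h one_pos; rwa [pow_one] at this)) (cop_add hp h (by omega)))
    (cop_prod hp h hq _)

variable {q m r : ℕ}

/-- the case left out for the second character of type `B`, `C` -/
theorem bc_split (hm : 3 ≤ m) (hq : 2 ≤ q) (hr : r.Prime) (h : r ∣ ∏ i ∈ Finset.range m, (q ^ (2 * (i + 1)) - 1)) :
    r ∣ P2 q m ∨ (4 ≤ m ∧ r ∣ P1 q m ∧ r ∣ q ^ (m - 1) - 1 ∧ ¬ r ∣ 2 * (q - 1)) := by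
  by_cases h0 : r ∣ P2 q m
  · exact Or.inl h0
  right
  have hm' : ∀ x, x ∣ 2 * m → r ∣ q ^ x - 1 → False := fun x hx hx' =>
    h0 (Dvd.dvd.mul_right (Dvd.dvd.mul_left (hx'.trans (pow_sub_one_dvd q hx)) _) _)
  have hmid : ∀ i, i < m - 2 → r ∣ q ^ (2 * (i + 1)) - 1 → False := by
    intro i hi h2
    rcases Nat.eq_zero_or_pos i with rfl | h3
    · exact hm' _ ⟨m, by ring⟩ h2
    · exact h0 (Dvd.dvd.mul_left (dvd_prod_idx (Finset.mem_Ico.2 ⟨h3, hi⟩) h2) _)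
  obtain ⟨i, hi, h2⟩ := exists_idx hr h
  rw [Finset.mem_range] at hi
  have h3 : ¬ i < m - 2 := fun h3 => hmid i h3 h2
  have h4 : i + 1 ≠ m := by
    rintro rfl
    exact hm' _ dvd_rfl h2
  have h5 : i + 1 = m - 1 := by omega
  rw [h5, sq_sub] at h2
  have h6 : r ∣ q ^ (m - 1) - 1 :=
    (hr.dvd_mul.1 h2).resolve_left fun h6 => h0 (Dvd.dvd.mul_right (Dvd.dvd.mul_right h6 _) _)
  have h7 : 4 ≤ m := by
    by_contra h8
    have h9 : m = 3 := by omega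
    subst h9
    exact hmid 0 (by omega) h6
  have h8 : ¬ r ∣ q - 1 := fun h8 => hm' 1 (one_dvd _) (by rwa [pow_one])
  refine ⟨h7, ?_, h6, fun h9 => ?_⟩
  · refine Dvd.dvd.mul_left (dvd_prod_idx (i := m - 2) (Finset.mem_range.2 (by omega)) ?_) _
    have h10 : m - 2 + 1 = m - 1 := by omega
    rw [h10, sq_sub]
    exact Dvd.dvd.mul_left h6 _
  · rcases hr.dvd_mul.1 h9 with h10 | h10
    · have h11 : r = 2 := (Nat.prime_dvd_prime_iff_eq hr Nat.prime_two).1 h10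
      subst h11
      apply h8
      have h12 : 1 ≤ q ^ (m - 1) := Nat.one_le_pow _ _ (by omega)
      have h13 : Odd q := by
        by_contra h14
        rw [Nat.not_odd_iff_even] at h14
        have h15 : Even (q ^ (m - 1)) := h14.pow_of_ne_zero (by omega)
        rcases h6 with ⟨a, ha⟩
        rcases h15 with ⟨b, hb⟩
        omega
      rcases h13 with ⟨a, ha⟩
      exact ⟨a, by omega⟩
    · exact h8 h10

/-- the size of the first product -/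
theorem P1_ge (hm : 3 ≤ m) (hq : 2 ≤ q) : (q ^ m + 1) * ((q ^ 2 - 1) * (q ^ (2 * (m - 1)) - 1)) ≤ P1 q m := by
  unfold P1
  refine Nat.mul_le_mul_left _ ?_
  obtain ⟨j, rfl⟩ : ∃ j, m = j + 3 := ⟨m - 3, by omega⟩
  have e1 : j + 3 - 1 = j + 1 + 1 := by omega
  rw [e1, Finset.prod_range_succ, Finset.prod_range_succ']
  have h1 : 1 ≤ ∏ i ∈ Finset.range j, (q ^ (2 * (i + 1 + 1)) - 1) := by
    apply Nat.one_le_iff_ne_zero.2
    apply Finset.prod_ne_zero_iff.2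
    intro i _
    have : 1 < q ^ (2 * (i + 1 + 1)) := Nat.one_lt_pow (by omega) (by omega)
    omega
  refine Nat.mul_le_mul_right _ ?_
  calc q ^ 2 - 1 = 1 * (q ^ (2 * (0 + 1)) - 1) := by rw [one_mul]
    _ ≤ _ := Nat.mul_le_mul_right _ h1

/-- the second rank 3 degree is smaller than the first product -/
theorem lt_P1 (hm : 3 ≤ m) (hq : 2 ≤ q) {g : ℕ}
    (hg : 2 * ((q : ℤ) - 1) * g = q * (q ^ (m - 1) - 1) * ((q : ℤ) ^ m + 1)) : g < P1 q m ∧ (3 ≤ q → 8 * g < P1 q m) := by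
  have h1 := P1_ge hm hq
  have h2 : ((((q ^ m + 1) * ((q ^ 2 - 1) * (q ^ (2 * (m - 1)) - 1)) : ℕ)) : ℤ) =
      ((q : ℤ) ^ m + 1) * (((q : ℤ) ^ 2 - 1) * (((q : ℤ) ^ (m - 1) + 1) * ((q : ℤ) ^ (m - 1) - 1))) := by
    rw [sq_sub q (m - 1), Nat.cast_mul, Nat.cast_mul, Nat.cast_mul, Nat.cast_add, Nat.cast_add,
      Nat.cast_sub (Nat.one_le_pow _ _ (by omega)), Nat.cast_sub (Nat.one_le_pow _ _ (by omega))]
    push_cast
    ring
  have h3 : ((q : ℤ) ^ m + 1) * (((q : ℤ) ^ 2 - 1) * (((q : ℤ) ^ (m - 1) + 1) * ((q : ℤ) ^ (m - 1) - 1))) ≤ P1 q m := by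
    rw [← h2]; exact_mod_cast h1
  obtain ⟨A, hA⟩ : ∃ A : ℤ, A = (q : ℤ) ^ (m - 1) := ⟨_, rfl⟩
  have hq' : (2 : ℤ) ≤ q := by exact_mod_cast hq
  have hqA : (q : ℤ) ≤ A := by
    rw [hA]
    calc (q : ℤ) = (q : ℤ) ^ 1 := (pow_one _).symm
      _ ≤ (q : ℤ) ^ (m - 1) := pow_le_pow_right₀ (by omega) (by omega)
  obtain ⟨B, hB⟩ : ∃ B : ℤ, B = (q : ℤ) ^ m + 1 := ⟨_, rfl⟩
  have hB0 : 0 < B := by rw [hB]; positivity
  rw [← hA, ← hB] at hg h3
  have hX : 0 < (A - 1) * B := mul_pos (by omega) hB0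
  constructor
  · have h4 : (2 * ((q : ℤ) - 1)) * g < (2 * ((q : ℤ) - 1)) * P1 q m := by
      refine lt_of_lt_of_le ?_ (mul_le_mul_of_nonneg_left h3 (by omega))
      rw [hg]
      have h5 : (q : ℤ) * (A - 1) * B = q * ((A - 1) * B) := by ring
      have h6 : 2 * ((q : ℤ) - 1) * (B * (((q : ℤ) ^ 2 - 1) * ((A + 1) * (A - 1)))) =
          (2 * (q - 1) * (q ^ 2 - 1) * (A + 1)) * ((A - 1) * B) := by ring
      rw [h5, h6]
      refine mul_lt_mul_of_pos_right ?_ hX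
      nlinarith [mul_pos (show (0 : ℤ) < q - 1 by omega) (show (0 : ℤ) < (q : ℤ) ^ 2 - 1 by nlinarith)]
    have h7 := lt_of_mul_lt_mul_left h4 (by omega)
    exact_mod_cast h7
  · intro hq3
    have hq3' : (3 : ℤ) ≤ q := by exact_mod_cast hq3
    have h4 : (2 * ((q : ℤ) - 1)) * (8 * g) < (2 * ((q : ℤ) - 1)) * P1 q m := by
      refine lt_of_lt_of_le ?_ (mul_le_mul_of_nonneg_left h3 (by omega))
      have h5 : 2 * ((q : ℤ) - 1) * (8 * g) = (8 * q) * ((A - 1) * B) := by linear_combination 8 * hg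
      have h6 : 2 * ((q : ℤ) - 1) * (B * (((q : ℤ) ^ 2 - 1) * ((A + 1) * (A - 1)))) =
          (2 * (q - 1) * (q ^ 2 - 1) * (A + 1)) * ((A - 1) * B) := by ring
      rw [h5, h6]
      refine mul_lt_mul_of_pos_right ?_ hX
      have h8 : (8 : ℤ) ≤ (q : ℤ) ^ 2 - 1 := by nlinarith
      have h9 : (32 : ℤ) ≤ 2 * (q - 1) * (q ^ 2 - 1) := by nlinarith
      nlinarith
    have h7 := lt_of_mul_lt_mul_left h4 (by omega)
    exact_mod_cast h7

end Cfsg.Agent.H749.Two
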