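import Cfsg.Agent.H749.TwoDown
import Cfsg.Agent.H749.TwoArith
import Cfsg.Agent.H677.DG.SpRank

/-!
# Pairs of characters of `PSp_{2m}(q)` (helper749)
-/

set_option autoImplicit false

open scoped ComplexConjugate
open Cfsg

namespace Cfsg.Agent.H749.Two

open Cfsg.Agent.Characters MulAction Module Cfsg.Agent.H53.HC Cfsg.Agent.H477.HC

universe u v w

theorem ch_pos {S : Type u} [Group S] [Finite S] {d : ℕ} (h : Ch S d) : 0 < d := by
  obtain ⟨χ, hχ, h1⟩ := h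
  have h2 := Core.isIrr_apply_one_ne_zero hχ
  rw [h1] at h2
  rcases Nat.eq_zero_or_pos d with rfl | h3
  · simp at h2
  · exact h3

section

variable (K : Type u) [Field K] [Finite K]

theorem char_dvd {p : ℕ} [Fact p.Prime] [CharP K p] : p ∣ Nat.card K := by
  obtain ⟨s, hs⟩ := card_pow K p
  have h1 : 1 < Nat.card K := Finite.one_lt_card
  rw [hs] at h1 ⊢
  exact dvd_pow_self p (by rintro rfl; simp at h1)

/-- the character of degree `q` of `Sp_2(q)` -/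
theorem sp_two : ∃ ψ : (CForm.spF K 1).iso → ℂ, IsIrrCharacter (CForm.spF K 1).iso ψ ∧ ψ 1 = (Nat.card K : ℂ) ∧
    ∀ (z : (CForm.spF K 1).iso) (a : Kˣ), (∀ v, (z : (Fin 1 ⊕ Fin 1 → K) ≃ₗ[K] (Fin 1 ⊕ Fin 1 → K)) v = (a : K) • v) →
      ψ z = ψ 1 := by
  have hq : 1 < Nat.card K := Finite.one_lt_card
  refine exists_two (CForm.spF K 1) (by omega) ?_ fun W hW => ?_
  · have h1 : Nat.card {v : Fin 1 ⊕ Fin 1 → K // (CForm.spF K 1).Sing v} = Nat.card (Fin 1 ⊕ Fin 1 → K) :=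
      Nat.card_congr (Equiv.subtypeUnivEquiv fun v => ⟨rfl, (CForm.spF K 1).alt v rfl⟩)
    rw [h1, Nat.card_fun, Nat.card_eq_fintype_card (α := Fin 1 ⊕ Fin 1)]
    simp only [Fintype.card_sum, Fintype.card_fin, Nat.reduceAdd]
    obtain ⟨s, hs⟩ : ∃ s, Nat.card K = s + 1 := ⟨Nat.card K - 1, by omega⟩
    rw [hs, Nat.add_sub_cancel]
    ring
  · have h1 := two_finrank_le hW
    rw [Module.finrank_fintype_fun_eq_card] at h1
    simp only [Fintype.card_sum, Fintype.card_fin] at h1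
    omega

/-- **the two characters** of degrees `dg` and `dg * q` -/
theorem sp_pair {m : ℕ} (hm3 : 3 ≤ m) (h2 : Nat.card K = 2 → 4 ≤ m) (h3 : Nat.card K = 3 → 4 ≤ m) :
    Ch (PSp m K) (dg (CForm.spF K (m - 1 + 1)) (m - 1)) ∧
      Ch (PSp m K) (dg (CForm.spF K (m - 1 + 1)) (m - 1) * Nat.card K) := by
  obtain ⟨k, rfl⟩ : ∃ k, m = k + 1 := ⟨m - 1, by omega⟩
  rw [Nat.add_sub_cancel]
  have hq2 : 2 ≤ Nat.card K := Finite.one_lt_card
  obtain ⟨c, hc⟩ := exists_cus_sq K rfl k (by omega) (fun h => by have := h2 h; omega)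
    (fun h => by have := h3 h; omega) (fun h => by omega)
  constructor
  · obtain ⟨χ, hχ, hχ1⟩ := psp_char (k := k) (n := 1) hc (one_pow 2) (neg_one_sq)
    exact ⟨χ, hχ, hχ1⟩
  · obtain ⟨W₀, hW₀, hcmp⟩ := spF_cmp (K := K) k 1
    obtain ⟨ψ, hψ, hψ1, hψz⟩ := sp_two K
    obtain ⟨χ, hχ, hχ1, hχz⟩ := exists_prod hcmp hc hW₀ (m := k + 1) (fun W hW => by
      have h1 := two_finrank_le hW
      rw [Module.finrank_fintype_fun_eq_card] at h1
      simp only [Fintype.card_sum, Fintype.card_fin] at h1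
      omega) (by omega) hψ hψ1 (fun z a _ hz => hψz z a hz)
    exact sp_down hχ hχ1 hχz

/-- **`PSp_{2m}(q)`, `m ≥ 3`**, apart from `q = 2, 3` and `m = 3` -/
theorem two_sp_main {p : ℕ} [Fact p.Prime] [CharP K p] {m : ℕ} (hm3 : 3 ≤ m) (h2 : Nat.card K = 2 → 4 ≤ m)
    (h3 : Nat.card K = 3 → 4 ≤ m) {r : ℕ} (hr : r.Prime) (hrp : r ≠ p) (hd : r ∣ Nat.card (PSp m K)) :
    H596.OneFacts.Two r (PSp m K) := by
  have hp : p.Prime := Fact.out
  have hq2 : 2 ≤ Nat.card K := Finite.one_lt_card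
  rcases bc_split hm3 hq2 hr (sp_prod K (p := p) hr hrp hd) with h4 | ⟨h4, h5, h6, h7⟩
  · obtain ⟨ha, hb⟩ := sp_pair K hm3 h2 h3
    obtain ⟨e, he⟩ := bc_key hm3 hq2 (psp_dvd K (p := p) (k := m - 1) (n := 1) (by omega))
    have h5 := rm_p (p := p) hr hrp h4 he
    have h6 := ch_pos ha
    exact two_of_ch ha hb h5 (Dvd.dvd.mul_right h5 _) (by nlinarith)
  · have : Fintype K := Fintype.ofFinite K
    obtain ⟨c, hc⟩ := exists_cus_sq K rfl m (by omega) (fun _ => by omega) (fun _ => by omega) (fun h => by omega)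
    obtain ⟨χ, hχ, hχ1⟩ := psp_char (k := m) (n := 0) hc (one_pow 2) (neg_one_sq)
    obtain ⟨e, he⟩ := psp_dvd_top K (p := p) (m := m) (by omega)
    obtain ⟨χ₁, χ₂, f, g, -, i2, -, i4, -, i6⟩ := H677.SpRank.exists_chars (F := K) (m := m) (by omega)
    have ha : Ch (PSp m K) (dg (CForm.spF K (m + 0)) m) := ⟨χ, hχ, hχ1⟩
    have hb : Ch (PSp m K) g := ⟨χ₂, i2, i4⟩
    have hg : r ∣ g := by
      have h8 : (r : ℤ) ∣ 2 * ((Nat.card K : ℤ) - 1) * g := by
        rw [i6]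
        refine Dvd.dvd.mul_left ?_ _
        have h9 : ((Nat.card K ^ (m - 1) - 1 : ℕ) : ℤ) = (Nat.card K : ℤ) ^ (m - 1) - 1 := by
          rw [Nat.cast_sub (Nat.one_le_pow _ _ (by omega))]; push_cast; ring
        rw [← h9]
        exact_mod_cast h6
      have h9 : 2 * ((Nat.card K : ℤ) - 1) * g = ((2 * (Nat.card K - 1) * g : ℕ) : ℤ) := by
        push_cast [Nat.cast_sub (show 1 ≤ Nat.card K by omega)]; ring
      rw [h9] at h8
      exact (hr.dvd_mul.1 (by exact_mod_cast h8)).resolve_left h7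
    have h8 := (lt_P1 hm3 hq2 (g := g) (by rw [i6]; ring)).1
    have h9 := le_of_cop (cop_P1 hp (char_dvd K) (by omega) (by omega)) he (ch_pos ha)
    exact two_of_ch ha hb (rm_p (p := p) hr hrp h5 he) hg (by omega)

end

end Cfsg.Agent.H749.Two
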