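import Cfsg.Agent.H749.TwoSp

/-!
# Pairs of characters of `Ω_{2m+1}(q)` (helper749)
-/

set_option autoImplicit false

open scoped ComplexConjugate
open Cfsg

namespace Cfsg.Agent.H749.Two

open Cfsg.Agent.Characters MulAction Module Cfsg.Agent.H53.HC Cfsg.Agent.H477.HC

universe u v w

/-! ### descended degrees -/

theorem ne_down {D N e e' i i' t : ℕ} (h : D = e * 2 ^ i) (h' : D * N = e' * 2 ^ i') (hi : i' ≤ t) (he : 0 < e)
    (hN : (Odd N ∧ 1 < N) ∨ 2 ^ t < N) : e ≠ e' := by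
  rintro rfl
  rw [h] at h'
  have h1 : 2 ^ i * N = 2 ^ i' := by
    apply Nat.eq_of_mul_eq_mul_left he
    rw [← h']; ring
  rcases hN with ⟨h2, h3⟩ | h2
  · have h4 : N ∣ 2 ^ i' := Dvd.intro_left _ h1
    have h5 : Nat.Coprime N (2 ^ i') := Nat.Coprime.pow_right _ h2.coprime_two_right
    have h6 := Nat.Coprime.eq_one_of_dvd h5 h4
    omega
  · have h3 : 2 ^ i' ≤ 2 ^ t := Nat.pow_le_pow_right (by norm_num) hi
    have h4 : 1 ≤ 2 ^ i := Nat.one_le_pow _ _ (by norm_num)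
    nlinarith

theorem dvd_down {D e i t r : ℕ} (hr : r.Prime) (h : D = e * 2 ^ i) (hi : i ≤ t) (h2 : r = 2 → 2 ^ (t + 1) ∣ D)
    (hd : r ∣ D) : r ∣ e := by
  by_cases hr2 : r = 2
  · subst hr2
    have h3 := h2 rfl
    rw [h] at h3
    have h4 : 2 ^ (i + 1) ∣ e * 2 ^ i := (pow_dvd_pow 2 (by omega)).trans h3
    rw [pow_succ', mul_comm e] at h4
    have h5 : 2 ^ i * 2 ∣ 2 ^ i * e := by rwa [mul_comm (2 ^ i) 2]
    exact Nat.dvd_of_mul_dvd_mul_left (pow_pos (by norm_num) i) h5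
  · rw [h] at hd
    exact (hr.dvd_mul.1 hd).resolve_right fun h3 =>
      hr2 ((Nat.prime_dvd_prime_iff_eq hr Nat.prime_two).1 (hr.dvd_of_dvd_pow h3))

theorem le_down {D e i t : ℕ} (h : D = e * 2 ^ i) (hi : i ≤ t) : D ≤ e * 2 ^ t := by
  rw [h]
  exact Nat.mul_le_mul_left _ (Nat.pow_le_pow_right (by norm_num) hi)

section

variable (K : Type u) [Field K] [Finite K] {p : ℕ} [Fact p.Prime] [CharP K p]

/-- the character of degree `q` of `O_3(q)` -/
theorem odd_two (h2 : (2 : K) ≠ 0) (ho : Odd (Nat.card K)) :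
    ∃ ψ : (CForm.oddF K 1 h2).iso → ℂ, IsIrrCharacter (CForm.oddF K 1 h2).iso ψ ∧ ψ 1 = (Nat.card K : ℂ) ∧
    ∀ (z : (CForm.oddF K 1 h2).iso) (a : Kˣ),
      (∀ v, (z : (Unit ⊕ (Fin 1 ⊕ Fin 1) → K) ≃ₗ[K] (Unit ⊕ (Fin 1 ⊕ Fin 1) → K)) v = (a : K) • v) → ψ z = ψ 1 := by
  have hq : 1 < Nat.card K := Finite.one_lt_card
  refine exists_two (CForm.oddF K 1 h2) (by omega) ?_ fun W hW => ?_
  · let _ := Fintype.ofFinite K
    have hc : Fintype.card K = Nat.card K := Nat.card_eq_fintype_card.symm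
    rw [card_Sing_quad]
    have h1 := S0291.result hc ho 1
    refine h1.trans ?_
    rw [num_odd hq.nat_succ_le 1, pow_one]
  · have h1 := two_finrank_le hW
    rw [Module.finrank_fintype_fun_eq_card] at h1
    simp only [Fintype.card_sum, Fintype.card_fin, Fintype.card_unit] at h1
    omega

include p in
theorem odd_down {k n : ℕ} (ho : Odd (Nat.card K)) (h2 : (2 : K) ≠ 0) (hm : 3 ≤ k + n)
    {χ : (CForm.oddF K (k + n) h2).iso → ℂ} (hχ : IsIrrCharacter _ χ) {d : ℕ} (h1 : χ 1 = d) :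
    ∃ e i, Ch (POmega K (quadFormOdd (k + n) K)) e ∧ d = e * 2 ^ i ∧ i ≤ 3 ∧ 0 < e := by
  obtain ⟨hidx, hcen⟩ := odd_idx K (p := p) ho hm
  exact om_down (CForm.oddF K (k + n) h2) (odd_hB K (k + n) h2) hχ h1 (Z := fun a => a = 1) (fun z a ha hz => by
    congr 1
    apply Subtype.ext
    ext v : 1
    rw [hz, ha, Units.val_one, one_smul]
    rfl) (fun z hz => ⟨1, rfl, fun v => by
    rw [hcen z hz]
    change (1 : Matrix _ _ K).mulVec v = _
    rw [Matrix.one_mulVec, Units.val_one, one_smul]⟩) (by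
      change (Omega K (quadFormOdd (k + n) K)).index ∣ 2 ^ 3
      rw [hidx]; norm_num)

include p in
/-- **the two characters** -/
theorem odd_pair {m : ℕ} (ho : Odd (Nat.card K)) (h2 : (2 : K) ≠ 0) (hm : 3 ≤ m) : ∃ e i e' i',
    Ch (POmega K (quadFormOdd m K)) e ∧ Ch (POmega K (quadFormOdd m K)) e' ∧
    dg (CForm.oddF K (m - 1 + 1) h2) (m - 1) = e * 2 ^ i ∧
    dg (CForm.oddF K (m - 1 + 1) h2) (m - 1) * Nat.card K = e' * 2 ^ i' ∧ i ≤ 3 ∧ i' ≤ 3 ∧ 0 < e := by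
  obtain ⟨k, rfl⟩ : ∃ k, m = k + 1 := ⟨m - 1, by omega⟩
  rw [Nat.add_sub_cancel]
  have hq3 : 3 ≤ Nat.card K := by
    have : 1 < Nat.card K := Finite.one_lt_card
    rcases ho with ⟨j, hj⟩; omega
  obtain ⟨c, hc⟩ := exists_cus_one (K := K) rfl k (by omega) (by
    have : Nat.card K ^ 2 ≤ Nat.card K ^ k := Nat.pow_le_pow_right (by omega) (by omega)
    nlinarith) (by rintro ⟨h3, -⟩; omega)
  obtain ⟨W₀, hW₀, hcmp⟩ := oddF_cmp (K := K) h2 k 1
  obtain ⟨χ, hχ, hχ1, -⟩ := exists_char (CForm.oddF K (k + 1) h2) hW₀ hc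
  obtain ⟨ψ, hψ, hψ1, hψz⟩ := odd_two K h2 ho
  obtain ⟨χ', hχ', hχ1', -⟩ := exists_prod hcmp hc hW₀ (m := k + 1) (fun W hW => by
    have h1 := two_finrank_le hW
    rw [Module.finrank_fintype_fun_eq_card] at h1
    simp only [Fintype.card_sum, Fintype.card_fin, Fintype.card_unit] at h1
    omega) (by omega) hψ hψ1 (fun z a _ hz => hψz z a hz)
  obtain ⟨e, i, h3, h4, h5, h6⟩ := odd_down K (p := p) ho h2 hm hχ hχ1
  obtain ⟨e', i', h3', h4', h5', h6'⟩ := odd_down K (p := p) ho h2 hm hχ' hχ1'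
  exact ⟨e, i, e', i', h3, h3', h4, h4', h5, h5', h6⟩

/-- **`Ω_{2m+1}(q)`** -/
theorem two_odd_main {m : ℕ} (ho : Odd (Nat.card K)) (hm : 3 ≤ m) {r : ℕ} (hr : r.Prime) (hrp : r ≠ p)
    (hd : r ∣ Nat.card (POmega K (quadFormOdd m K))) : H596.OneFacts.Two r (POmega K (quadFormOdd m K)) := by
  have hp : p.Prime := Fact.out
  have h2 := two_ne_zero_of_odd (K := K) (p := p) ho
  have hp2 : p ≠ 2 := char_ne_two_of_odd (K := K) ho
  have hq2 : 2 ≤ Nat.card K := Finite.one_lt_card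
  have hq3 : 3 ≤ Nat.card K := by rcases ho with ⟨j, hj⟩; omega
  have hpr : r ∣ ∏ i ∈ Finset.range m, (Nat.card K ^ (2 * (i + 1)) - 1) := by
    by_cases hr2 : r = 2
    · subst hr2
      exact dvd_prod_idx (i := 0) (Finset.mem_range.2 (by omega))
        ((dvd_pow_self 2 (by norm_num : 3 ≠ 0)).trans (two_pow_sq ho))
    · exact odd_prod K (p := p) ho hr hrp hr2 hd
  rcases bc_split hm hq2 hr hpr with h4 | ⟨h4, h5, h6, h7⟩
  · obtain ⟨e, i, e', i', ha, hb, h5, h6, h7, h8, h9⟩ := odd_pair K (p := p) ho h2 hm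
    obtain ⟨x, hx⟩ := bc_key hm hq2 (odd_dvd K h2 ho (p := p) (k := m - 1) (n := 1) (by omega))
    have h10 := rm_p (p := p) hr hrp h4 hx
    have h11 : r = 2 → 2 ^ (3 + 1) ∣ dg (CForm.oddF K (m - 1 + 1) h2) (m - 1) := fun _ =>
      prime_pow_dvd Nat.prime_two hp hp2.symm ((two_P2 ho).trans hx)
    exact two_of_ch ha hb (dvd_down hr h5 h7 h11 h10)
      (dvd_down hr h6 h8 (fun h => Dvd.dvd.mul_right (h11 h) _) (Dvd.dvd.mul_right h10 _))
      (ne_down h5 h6 h8 h9 (Or.inl ⟨ho, by omega⟩))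
  · have hr2 : r ≠ 2 := by
      rintro rfl
      exact h7 (dvd_mul_right _ _)
    obtain ⟨c, hc⟩ := exists_cus_one (K := K) rfl m (by omega) (by
      have : Nat.card K ^ 2 ≤ Nat.card K ^ m := Nat.pow_le_pow_right (by omega) (by omega)
      nlinarith) (by rintro ⟨h3, -⟩; omega)
    obtain ⟨W₀, hW₀, hcmp⟩ := oddF_cmp (K := K) h2 m 0
    obtain ⟨χ, hχ, hχ1, -⟩ := exists_char (CForm.oddF K (m + 0) h2) hW₀ hc
    obtain ⟨e, i, h8, h9, h10, h11⟩ := odd_down K (p := p) ho h2 (by omega) hχ hχ1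
    obtain ⟨x, hx⟩ := odd_dvd_top K h2 ho (p := p) (m := m) (by omega)
    have h12 := le_of_cop (cop_P1 hp (char_dvd K) (by omega) (by omega)) hx (by rw [h9]; positivity)
    have h13 := rm_p (p := p) hr hrp h5 hx
    obtain ⟨f, g, -, h14, -, h15⟩ := rk3_odd K h2 ho hm
    have hg : r ∣ g := by
      have h8 : (r : ℤ) ∣ 2 * ((Nat.card K : ℤ) - 1) * g := by
        rw [h15]
        refine Dvd.dvd.mul_right (Dvd.dvd.mul_left ?_ _) _
        have h9 : ((Nat.card K ^ (m - 1) - 1 : ℕ) : ℤ) = (Nat.card K : ℤ) ^ (m - 1) - 1 := by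
          rw [Nat.cast_sub (Nat.one_le_pow _ _ (by omega))]; push_cast; ring
        rw [← h9]
        exact_mod_cast h6
      have h9 : 2 * ((Nat.card K : ℤ) - 1) * g = ((2 * (Nat.card K - 1) * g : ℕ) : ℤ) := by
        push_cast [Nat.cast_sub (show 1 ≤ Nat.card K by omega)]; ring
      rw [h9] at h8
      exact (hr.dvd_mul.1 (by exact_mod_cast h8)).resolve_left h7
    have h16 := (lt_P1 hm hq2 (g := g) h15).2 hq3
    have h17 := le_down h9 h10
    exact two_of_ch (by simpa using h8) h14 (dvd_down hr h9 h10 (fun h => absurd h hr2) h13) hg (by omega)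

end

end Cfsg.Agent.H749.Two
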