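import Cfsg.Agent.H749.TwoOdd

/-!
# Pairs of characters of `PΩ⁺_{2m}(q)` (helper749)
-/

set_option autoImplicit false

open scoped ComplexConjugate
open Cfsg

namespace Cfsg.Agent.H749.Two

open Cfsg.Agent.Characters MulAction Module Cfsg.Agent.H53.HC Cfsg.Agent.H477.HC

universe u v w

/-- the exact order in terms of `dg` -/
theorem card_dg {K : Type u} [Field K] {V : Type v} [AddCommGroup V] [Module K V] {X : Type w} [AddCommGroup X]
    [Module K X] {F : CForm K V} {F' : CForm K X} {j : X →ₗ[K] V} {W₀ : Submodule K V}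
    [FiniteDimensional K V] [Finite V] [Finite K] (h : Cmp F F' j W₀) {p : ℕ} [Fact p.Prime] [CharP K p]
    {k : ℕ} (hk : 0 < k) (hW₀ : W₀ ∈ F.Om k) :
    ∃ b, Nat.card F.iso = p ^ b * (dg F k * (Nat.card K ^ k - 1) * Nat.card F'.iso) := by
  obtain ⟨a, ha⟩ := card_exact h (p := p) hW₀
  obtain ⟨s, hs⟩ := card_GL_eq K k hk
  obtain ⟨t, ht⟩ := card_pow K p
  refine ⟨a + t * s, ?_⟩
  rw [ha, hs]
  unfold dg
  rw [pow_add, pow_mul, ← ht]
  ring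

section arith

variable {q m r : ℕ}

theorem no_pow {A B x y c : ℕ} (h : 2 ^ x * A = 2 ^ y * B) (h1 : 2 ^ c * B < A) (h2 : A < 2 ^ (c + 1) * B) : False := by
  have hc : 1 ≤ 2 ^ c := Nat.one_le_pow _ _ (by norm_num)
  rcases Nat.lt_or_ge y x with hxy | hxy
  · obtain ⟨z, rfl⟩ : ∃ z, x = y + z := ⟨x - y, by omega⟩
    rw [pow_add, mul_assoc] at h
    have h3 := Nat.eq_of_mul_eq_mul_left (pow_pos (by norm_num) y) h
    have h4 : 1 ≤ 2 ^ z := Nat.one_le_pow _ _ (by norm_num)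
    nlinarith
  · obtain ⟨z, rfl⟩ : ∃ z, y = x + z := ⟨y - x, by omega⟩
    rw [pow_add, mul_assoc] at h
    have h3 := Nat.eq_of_mul_eq_mul_left (pow_pos (by norm_num) x) h
    rw [h3] at h1 h2
    have hB : 0 < B := by
      rcases Nat.eq_zero_or_pos B with rfl | hB
      · simp at h1
      · exact hB
    have h4 := lt_of_mul_lt_mul_right h1 (Nat.zero_le B)
    have h5 := lt_of_mul_lt_mul_right h2 (Nat.zero_le B)
    have h6 := (Nat.pow_lt_pow_iff_right (show 1 < 2 by norm_num)).1 h4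
    have h7 := (Nat.pow_lt_pow_iff_right (show 1 < 2 by norm_num)).1 h5
    omega

/-- removing the powers of `p` -/
theorem strip {p A B a b x y : ℕ} (hp : p.Prime) (hA : Nat.Coprime A p) (hB : Nat.Coprime B p)
    (h : p ^ a * (2 ^ x * A) = p ^ b * (2 ^ y * B)) : ∃ x y, 2 ^ x * A = 2 ^ y * B := by
  by_cases h2 : p = 2
  · subst h2
    exact ⟨a + x, b + y, by rw [pow_add, pow_add, mul_assoc, mul_assoc, h]⟩
  · have h3 : Nat.Coprime 2 p := (Nat.coprime_primes Nat.prime_two hp).2 (Ne.symm h2)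
    have h4 : Nat.Coprime (p ^ a) (2 ^ y * B) := by
      rw [Nat.coprime_comm]
      exact Nat.Coprime.pow_right _ (Nat.Coprime.mul_left (Nat.Coprime.pow_left _ h3) hB)
    have h5 : Nat.Coprime (p ^ b) (2 ^ x * A) := by
      rw [Nat.coprime_comm]
      exact Nat.Coprime.pow_right _ (Nat.Coprime.mul_left (Nat.Coprime.pow_left _ h3) hA)
    have h6 : p ^ a ∣ p ^ b := h4.dvd_of_dvd_mul_right ⟨_, h.symm⟩
    have h7 : p ^ b ∣ p ^ a := h5.dvd_of_dvd_mul_right ⟨_, h⟩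
    have h8 := Nat.dvd_antisymm h6 h7
    rw [h8] at h
    exact ⟨x, y, Nat.eq_of_mul_eq_mul_left (pow_pos hp.pos b) h⟩

/-- the two degrees are not proportional by a power of two -/
theorem no_pow_plus (hm : 4 ≤ m) (hq : 2 ≤ q) {x y : ℕ}
    (h : 2 ^ x * (q ^ m - 1) = 2 ^ y * ((q ^ (m - 1) - 1) * (q - 1))) : False := by
  obtain ⟨j, rfl⟩ : ∃ j, m = j + 1 := ⟨m - 1, by omega⟩
  rw [Nat.add_sub_cancel] at h
  obtain ⟨s, rfl⟩ : ∃ s, q = s + 1 := ⟨q - 1, by omega⟩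
  obtain ⟨Q, hQ⟩ : ∃ Q, (s + 1) ^ j = Q + 1 := ⟨(s + 1) ^ j - 1, by
    have : 1 ≤ (s + 1) ^ j := Nat.one_le_pow _ _ (by omega)
    omega⟩
  have hQ8 : 7 ≤ Q := by
    have : 2 ^ 3 ≤ (s + 1) ^ j := (Nat.pow_le_pow_left (by omega) 3).trans (Nat.pow_le_pow_right (by omega) (by omega))
    omega
  have e1 : (s + 1) ^ (j + 1) - 1 = Q * s + Q + s := by
    rw [pow_succ, hQ]
    have : (Q + 1) * (s + 1) = Q * s + Q + s + 1 := by ring
    omega
  rw [e1, hQ, Nat.add_sub_cancel, Nat.add_sub_cancel] at h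
  rcases Nat.lt_or_ge s 2 with hs | hs
  · have hs1 : s = 1 := by omega
    subst hs1
    exact no_pow (c := 1) h (by omega) (by omega)
  · refine no_pow (c := 0) h ?_ ?_
    · rw [pow_zero, one_mul]; omega
    · rw [zero_add, pow_one]
      have h1 : 2 * s ≤ Q := by
        have h2 : (s + 1) ^ 2 ≤ (s + 1) ^ j := Nat.pow_le_pow_right (by omega) (by omega)
        nlinarith
      have h3 : 2 * Q ≤ Q * s := by nlinarith
      have h4 : s < Q := by omega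
      omega

/-- the primes of type `D` -/
theorem d_split (hm : 4 ≤ m) (hr : r.Prime) (h : r ∣ (q ^ m - 1) * D1 q m) :
    (r ∣ D1 q m ∧ r ∣ D2 q m) ∨ (r ∣ D2 q m ∧ r ∣ q ^ m - 1 ∧ ¬ r ∣ q ^ 2 - 1) ∨
      (r ∣ D1 q m ∧ r ∣ q ^ (m - 1) - 1 ∧ ¬ r ∣ q ^ 2 - 1) := by
  by_cases h1 : r ∣ D1 q m
  · by_cases h2 : r ∣ D2 q m
    · exact Or.inl ⟨h1, h2⟩
    · right; right
      have hmid : ∀ i, i < m - 2 → r ∣ q ^ (2 * (i + 1)) - 1 → False := by
        intro i hi h3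
        rcases Nat.eq_zero_or_pos i with rfl | h0
        · exact h2 (Dvd.dvd.mul_left (dvd_prod_idx (i := 1) (Finset.mem_Ico.2 ⟨le_rfl, by omega⟩)
            (h3.trans (pow_sub_one_dvd q ⟨2, by norm_num⟩))) _)
        · exact h2 (Dvd.dvd.mul_left (dvd_prod_idx (Finset.mem_Ico.2 ⟨h0, hi⟩) h3) _)
      refine ⟨h1, ?_, fun h3 => hmid 0 (by omega) h3⟩
      obtain ⟨i, hi, h3⟩ := exists_idx hr h1
      rw [Finset.mem_range] at hi
      have h4 : ¬ i < m - 2 := fun h4 => hmid i h4 h3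
      have h5 : i + 1 = m - 1 := by omega
      rw [h5, sq_sub] at h3
      exact (hr.dvd_mul.1 h3).resolve_left fun h6 => h2 (Dvd.dvd.mul_right (Dvd.dvd.mul_left h6 _) _)
  · right; left
    have h2 : r ∣ q ^ m - 1 := (hr.dvd_mul.1 h).resolve_right h1
    refine ⟨Dvd.dvd.mul_right (Dvd.dvd.mul_right (Dvd.dvd.mul_right h2 _) _) _, h2, fun h3 => h1 ?_⟩
    exact dvd_prod_idx (i := 0) (Finset.mem_range.2 (by omega)) h3

theorem D1_ge (hm : 4 ≤ m) (hq : 2 ≤ q) :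
    (q ^ 2 - 1) * (q ^ 4 - 1) * (q ^ (2 * m - 2) - 1) ≤ D1 q m := by
  unfold D1
  obtain ⟨j, rfl⟩ : ∃ j, m = j + 4 := ⟨m - 4, by omega⟩
  have e1 : j + 4 - 1 = j + 2 + 1 := by omega
  have e2 : 2 * (j + 4) - 2 = 2 * (j + 2 + 1) := by omega
  rw [e1, e2, Finset.prod_range_succ]
  refine Nat.mul_le_mul_right _ ?_
  rw [Finset.prod_range_succ', Finset.prod_range_succ']
  have h1 : 1 ≤ ∏ i ∈ Finset.range j, (q ^ (2 * (i + 1 + 1 + 1)) - 1) := by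
    apply Nat.one_le_iff_ne_zero.2
    apply Finset.prod_ne_zero_iff.2
    intro i _
    have : 1 < q ^ (2 * (i + 1 + 1 + 1)) := Nat.one_lt_pow (by omega) (by omega)
    omega
  calc (q ^ 2 - 1) * (q ^ 4 - 1) = 1 * (q ^ (2 * (0 + 1 + 1)) - 1) * (q ^ (2 * (0 + 1)) - 1) := by ring_nf
    _ ≤ _ := Nat.mul_le_mul_right _ (Nat.mul_le_mul_right _ h1)

theorem D2_ge (hm : 4 ≤ m) (hq : 2 ≤ q) :
    (q ^ m - 1) * (q + 1) * (q ^ (m - 1) + 1) * (q ^ 4 - 1) ≤ D2 q m := by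
  unfold D2
  refine Nat.mul_le_mul_left _ ?_
  have h1 : q ^ 4 - 1 ∣ ∏ i ∈ Finset.Ico 1 (m - 2), (q ^ (2 * (i + 1)) - 1) :=
    Finset.dvd_prod_of_mem (fun i => q ^ (2 * (i + 1)) - 1) (show 1 ∈ Finset.Ico 1 (m - 2) from
      Finset.mem_Ico.2 ⟨le_rfl, by omega⟩)
  refine Nat.le_of_dvd ?_ h1
  apply Finset.prod_pos
  intro i _
  have : 1 < q ^ (2 * (i + 1)) := Nat.one_lt_pow (by omega) (by omega)
  omega

theorem cast_pow_sub (q i : ℕ) (hq : 2 ≤ q) : ((q ^ i - 1 : ℕ) : ℤ) = (q : ℤ) ^ i - 1 := by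
  rw [Nat.cast_sub (Nat.one_le_pow _ _ (by omega))]; push_cast; ring

theorem lt_D1 (hm : 4 ≤ m) (hq : 2 ≤ q) {g : ℕ}
    (hg : ((q : ℤ) ^ 2 - 1) * g = q ^ 2 * ((q : ℤ) ^ (2 * m - 2) - 1)) : 8 * g < D1 q m := by
  have h1 := D1_ge hm hq
  obtain ⟨A, hA⟩ : ∃ A : ℤ, A = (q : ℤ) ^ (2 * m - 2) - 1 := ⟨_, rfl⟩
  have h3 : ((q : ℤ) ^ 2 - 1) * ((q : ℤ) ^ 4 - 1) * A ≤ D1 q m := by
    rw [hA, ← cast_pow_sub q 2 hq, ← cast_pow_sub q 4 hq, ← cast_pow_sub q _ hq]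
    exact_mod_cast h1
  rw [← hA] at hg
  have hq' : (2 : ℤ) ≤ q := by exact_mod_cast hq
  have hA0 : 0 < A := by
    rw [hA]
    have : (1 : ℤ) < (q : ℤ) ^ (2 * m - 2) := one_lt_pow₀ (by omega) (by omega)
    omega
  obtain ⟨y, hy⟩ : ∃ y : ℤ, y = (q : ℤ) ^ 2 := ⟨_, rfl⟩
  have hy4 : (4 : ℤ) ≤ y := by rw [hy]; nlinarith
  have e4 : (q : ℤ) ^ 4 = y ^ 2 := by rw [hy]; ring
  rw [e4, ← hy] at h3
  rw [← hy] at hg
  have h4 : (y - 1) * (8 * g) < (y - 1) * D1 q m := by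
    refine lt_of_lt_of_le ?_ (mul_le_mul_of_nonneg_left h3 (by omega))
    have h5 : (y - 1) * (8 * g) = (8 * y) * A := by linear_combination 8 * hg
    have h6 : (y - 1) * ((y - 1) * (y ^ 2 - 1) * A) = ((y - 1) * (y - 1) * (y ^ 2 - 1)) * A := by ring
    rw [h5, h6]
    refine mul_lt_mul_of_pos_right ?_ hA0
    have h7 : (9 : ℤ) ≤ (y - 1) * (y - 1) := by nlinarith
    have h8 : 3 * y ≤ y ^ 2 - 1 := by nlinarith
    nlinarith
  have h7 := lt_of_mul_lt_mul_left h4 (by omega)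
  exact_mod_cast h7

theorem lt_D2 (hm : 4 ≤ m) (hq : 2 ≤ q) {f : ℕ}
    (hf : ((q : ℤ) ^ 2 - 1) * f = q * (q ^ (m - 2) + 1) * ((q : ℤ) ^ m - 1)) : 8 * f < D2 q m := by
  have h1 := D2_ge hm hq
  obtain ⟨A, hA⟩ : ∃ A : ℤ, A = (q : ℤ) ^ m - 1 := ⟨_, rfl⟩
  have h3 : A * ((q : ℤ) + 1) * ((q : ℤ) ^ (m - 1) + 1) * ((q : ℤ) ^ 4 - 1) ≤ D2 q m := by
    rw [hA, ← cast_pow_sub q m hq, ← cast_pow_sub q 4 hq]
    exact_mod_cast h1
  rw [← hA] at hf
  have hq' : (2 : ℤ) ≤ q := by exact_mod_cast hq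
  have hA0 : 0 < A := by
    rw [hA]
    have : (1 : ℤ) < (q : ℤ) ^ m := one_lt_pow₀ (by omega) (by omega)
    omega
  obtain ⟨B, hB⟩ : ∃ B : ℤ, B = (q : ℤ) ^ (m - 2) := ⟨_, rfl⟩
  have hB1 : 1 ≤ B := by rw [hB]; exact one_le_pow₀ (by omega)
  have eB : (q : ℤ) ^ (m - 1) = q * B := by
    rw [hB, ← pow_succ']
    congr 1; omega
  rw [eB] at h3
  rw [← hB] at hf
  have h4 : ((q : ℤ) ^ 2 - 1) * (8 * f) < ((q : ℤ) ^ 2 - 1) * D2 q m := by
    refine lt_of_lt_of_le ?_ (mul_le_mul_of_nonneg_left h3 (by nlinarith))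
    have h5 : ((q : ℤ) ^ 2 - 1) * (8 * f) = (8 * q * (B + 1)) * A := by linear_combination 8 * hf
    have h6 : ((q : ℤ) ^ 2 - 1) * (A * ((q : ℤ) + 1) * (q * B + 1) * ((q : ℤ) ^ 4 - 1)) =
        ((q ^ 2 - 1) * (q + 1) * (q ^ 4 - 1) * (q * B + 1)) * A := by ring
    rw [h5, h6]
    refine mul_lt_mul_of_pos_right ?_ hA0
    have h7 : (3 : ℤ) ≤ (q : ℤ) ^ 2 - 1 := by nlinarith
    have h8 : (15 : ℤ) ≤ (q : ℤ) ^ 4 - 1 := by nlinarith
    have h9 : (9 : ℤ) ≤ ((q : ℤ) ^ 2 - 1) * (q + 1) := by nlinarith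
    have h10 : (135 : ℤ) ≤ ((q : ℤ) ^ 2 - 1) * (q + 1) * (q ^ 4 - 1) := by nlinarith
    have h11 : 0 < (q : ℤ) * B + 1 := by positivity
    have h12 : 8 * (q : ℤ) * (B + 1) ≤ 16 * (q * B) := by nlinarith
    nlinarith
  have h7 := lt_of_mul_lt_mul_left h4 (by nlinarith)
  exact_mod_cast h7

end arith

section

variable (K : Type u) [Field K] [Finite K] {p : ℕ} [Fact p.Prime] [CharP K p]

theorem plus_down {m k n : ℕ} (hkn : k + n = m) (hm : 4 ≤ m) (hk : 3 ≤ k) :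
    ∃ e i, Ch (POmega K (quadFormPlus m K)) e ∧ dg (CForm.plusF K (k + n)) k = e * 2 ^ i ∧ i ≤ 3 ∧ 0 < e := by
  subst hkn
  obtain ⟨c, hc⟩ := exists_cus_sq K rfl k (by omega) (fun _ => hk) (fun _ => hk) (fun _ => by omega)
  obtain ⟨W₀, hW₀, -⟩ := plusF_cmp (K := K) k n
  obtain ⟨χ, hχ, hχ1, hχz⟩ := exists_char (CForm.plusF K (k + n)) hW₀ hc
  exact om_down (CForm.plusF K (k + n)) (plus_hB K (k + n)) hχ hχ1 hχz
    (fun z hz => scal_of (cen_plus K (by omega) z hz)) (plus_idx K hm)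

include p in
/-- `D_m` and `D_{m-1}` -/
theorem plus_ne {m : ℕ} (hm : 4 ≤ m) {e e' i i' : ℕ} (h : dg (CForm.plusF K (m + 0)) m = e * 2 ^ i)
    (h' : dg (CForm.plusF K (m - 1 + 1)) (m - 1) = e' * 2 ^ i') (he : 0 < e) : e ≠ e' := by
  rintro rfl
  have hp : p.Prime := Fact.out
  have hq2 : 2 ≤ Nat.card K := Finite.one_lt_card
  obtain ⟨W₀, hW₀, hcmp⟩ := plusF_cmp (K := K) m 0
  obtain ⟨W₁, hW₁, hcmp₁⟩ := plusF_cmp (K := K) (m - 1) 1
  obtain ⟨b, hb⟩ := card_dg hcmp (p := p) (by omega) hW₀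
  obtain ⟨b', hb'⟩ := card_dg hcmp₁ (p := p) (by omega) hW₁
  have h1 : Nat.card (CForm.plusF K 0).iso = 1 := by
    rw [Nat.card_eq_one_iff_unique]
    refine ⟨⟨fun a b => ?_⟩, ⟨1⟩⟩
    apply Subtype.ext
    apply LinearEquiv.ext
    intro v
    exact Subsingleton.elim _ _
  have h2 : Nat.card (CForm.plusF K 1).iso = 2 * (Nat.card K - 1) := by
    rw [card_plusF K le_rfl]
    simp
  have e1 : m - 1 + 1 = m + 0 := by omega
  rw [h1, h] at hb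
  rw [h2, h'] at hb'
  have e2 : Nat.card (CForm.plusF K (m - 1 + 1)).iso = Nat.card (CForm.plusF K (m + 0)).iso := by
    rw [e1]
  rw [e2, hb] at hb'
  have h3 : p ^ b * (2 ^ i * (Nat.card K ^ m - 1)) =
      p ^ b' * (2 ^ (i' + 1) * ((Nat.card K ^ (m - 1) - 1) * (Nat.card K - 1))) := by
    apply Nat.eq_of_mul_eq_mul_left he
    rw [pow_succ]
    linarith
  obtain ⟨x, y, h4⟩ := strip hp (cop_sub hp (char_dvd K) (by omega) (by omega))
    (Nat.Coprime.mul_left (cop_sub hp (char_dvd K) (by omega) (by omega))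
      (by have := cop_sub (i := 1) hp (char_dvd K) one_pos (by omega); rwa [pow_one] at this)) h3
  exact no_pow_plus hm hq2 h4

/-- **`PΩ⁺_{2m}(q)`** -/
theorem two_plus_main {m : ℕ} (hm : 4 ≤ m) {r : ℕ} (hr : r.Prime) (hrp : r ≠ p)
    (hd : r ∣ Nat.card (POmega K (quadFormPlus m K))) : H596.OneFacts.Two r (POmega K (quadFormPlus m K)) := by
  have hp : p.Prime := Fact.out
  have hq2 : 2 ≤ Nat.card K := Finite.one_lt_card
  obtain ⟨e, i, he, he1, he2, he3⟩ := plus_down K (m := m) (k := m) (n := 0) (by omega) hm (by omega)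
  obtain ⟨e', i', he', he1', he2', he3'⟩ := plus_down K (m := m) (k := m - 1) (n := 1) (by omega) hm (by omega)
  obtain ⟨x, hx⟩ := plus_dvd_top K (p := p) (m := m) (by omega)
  obtain ⟨x', hx'⟩ := d_key hm hq2 (plus_dvd K (p := p) (k := m - 1) (n := 1) (by omega) le_rfl)
  have k1 : r ∣ D1 (Nat.card K) m → r ∣ e := fun h => dvd_down hr he1 he2 (fun hr2 =>
    prime_pow_dvd Nat.prime_two hp (by rw [← hr2]; exact hrp)
      (((pow_dvd_pow 2 (by norm_num)).trans (two_D1 (two_cases K hrp hr2) hm)).trans hx)) (rm_p (p := p) hr hrp h hx)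
  have k2 : r ∣ D2 (Nat.card K) m → r ∣ e' := fun h => dvd_down hr he1' he2' (fun hr2 =>
    prime_pow_dvd Nat.prime_two hp (by rw [← hr2]; exact hrp)
      ((two_D2 (two_cases K hrp hr2) hm).trans hx')) (rm_p (p := p) hr hrp h hx')
  have hq2' : (Nat.card K : ℤ) ^ 2 - 1 = ((Nat.card K ^ 2 - 1 : ℕ) : ℤ) := (cast_pow_sub _ 2 hq2).symm
  rcases d_split hm hr (plus_prod K hm hr hrp hd) with ⟨h1, h2⟩ | ⟨h1, h2, h3⟩ | ⟨h1, h2, h3⟩
  · exact two_of_ch he he' (k1 h1) (k2 h2) (plus_ne K (p := p) hm he1 he1' he3)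
  · obtain ⟨f, g, hf, -, hf', -⟩ := rk3_plus K hm
    have h5 := le_of_cop (cop_D2 hp (char_dvd K) (by omega) (by omega)) hx' (by rw [he1']; positivity)
    have h6 := lt_D2 hm hq2 hf'
    have h7 := le_down he1' he2'
    have h8 : r ∣ f := by
      have h9 : (r : ℤ) ∣ ((Nat.card K ^ 2 - 1 : ℕ) : ℤ) * f := by
        rw [← hq2', hf', ← cast_pow_sub _ m hq2]
        exact Dvd.dvd.mul_left (by exact_mod_cast h2) _
      exact (hr.dvd_mul.1 (by exact_mod_cast h9)).resolve_left h3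
    exact two_of_ch he' hf (k2 h1) h8 (by omega)
  · obtain ⟨f, g, -, hg, -, hg'⟩ := rk3_plus K hm
    have h5 := le_of_cop (cop_D1 hp (char_dvd K) (by omega)) hx (by rw [he1]; positivity)
    have h6 := lt_D1 hm hq2 hg'
    have h7 := le_down he1 he2
    have h8 : r ∣ g := by
      have h9 : (r : ℤ) ∣ ((Nat.card K ^ 2 - 1 : ℕ) : ℤ) * g := by
        rw [← hq2', hg', ← cast_pow_sub _ _ hq2]
        refine Dvd.dvd.mul_left ?_ _
        have h10 : r ∣ Nat.card K ^ (2 * m - 2) - 1 := h2.trans (pow_sub_one_dvd _ ⟨2, by omega⟩)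
        exact_mod_cast h10
      exact (hr.dvd_mul.1 (by exact_mod_cast h9)).resolve_left h3
    exact two_of_ch he hg (k1 h1) h8 (by omega)

end

end Cfsg.Agent.H749.Two
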