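import Cfsg.Agent.H749.TwoCmp
import Cfsg.Agent.H477.HC.NPO
import Cfsg.Agent.H477.HC.Rk3Chars
import Cfsg.Agent.H596.OneFacts
import Cfsg.Agent.S0157

/-!
# Pairs of characters of the simple classical groups: tools (helper749)

`two_of_ch`; `witt_le` : the Witt index; `exists_two` : the 2-transitive character of a group of Witt index 1;
`sp_down`, `om_down` : from `F.iso` to `PSp`, `PΩ`; `exists_prod` : the character of degree `dg F k * N`.
-/

set_option autoImplicit false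

open scoped ComplexConjugate
open Cfsg

namespace Cfsg.Agent.H749.Two

open Cfsg.Agent.OddOrderCharacters.Clifford Cfsg.Agent.Characters MulAction Module Cfsg.Agent.H53.HC
open Cfsg.Agent.H477.HC

universe u v w

theorem two_of_ch {p : ℕ} {S : Type u} [Group S] {a b : ℕ} (ha : Ch S a) (hb : Ch S b) (h1 : p ∣ a) (h2 : p ∣ b)
    (hne : a ≠ b) : H596.OneFacts.Two p S := by
  obtain ⟨χ, hχ⟩ := ha.exists_irr
  obtain ⟨ψ, hψ⟩ := hb.exists_irr
  exact H596.OneFacts.two_of_degree_ne χ ψ (by rwa [hχ]) (by rwa [hψ]) (by rwa [hχ, hψ])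

/-- transfer -/
theorem two_congr {p : ℕ} {S : Type u} {S' : Type w} [Group S] [Group S'] (e : S ≃* S') (h : H596.OneFacts.Two p S') :
    H596.OneFacts.Two p S := by
  obtain ⟨α, β, h1, h2, h3⟩ := h
  refine ⟨⟨α.1 ∘ e.toMonoidHom, Core.isIrr_comp e.toMonoidHom e.surjective α.2⟩,
    ⟨β.1 ∘ e.toMonoidHom, Core.isIrr_comp e.toMonoidHom e.surjective β.2⟩, ?_, ?_, fun σ => ?_⟩
  · have : charDegree (α.1 ∘ e.toMonoidHom) = charDegree α.1 := by
      simp only [charDegree, Function.comp_apply, map_one]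
    change p ∣ charDegree (α.1 ∘ e.toMonoidHom)
    rw [this]; exact h1
  · have : charDegree (β.1 ∘ e.toMonoidHom) = charDegree β.1 := by
      simp only [charDegree, Function.comp_apply, map_one]
    change p ∣ charDegree (β.1 ∘ e.toMonoidHom)
    rw [this]; exact h2
  · obtain ⟨s, hs⟩ := h3 ((e.symm.trans σ).trans e)
    refine ⟨e.symm s, fun h => hs ?_⟩
    have h4 : α.1 (e (σ (e.symm s))) = β.1 (e (e.symm s)) := h
    rw [e.apply_symm_apply] at h4
    exact h4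

section

variable {K : Type u} [Field K] {V : Type v} [AddCommGroup V] [Module K V] {X : Type w} [AddCommGroup X] [Module K X]
variable {F : CForm K V} {F' : CForm K X} {j : X →ₗ[K] V} {W₀ : Submodule K V}

/-- a subspace of given dimension -/
theorem exists_sub [FiniteDimensional K V] (W : Submodule K V) {k : ℕ} (hk : k ≤ finrank K W) :
    ∃ W' : Submodule K V, W' ≤ W ∧ finrank K W' = k := by
  obtain ⟨v, hv⟩ := exists_linearIndependent_of_le_finrank hk
  refine ⟨(Submodule.span K (Set.range v)).map W.subtype, Submodule.map_subtype_le _ _, ?_⟩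
  rw [Submodule.finrank_map_subtype_eq, finrank_span_eq_card hv, Fintype.card_fin]

/-- **the Witt index** -/
theorem witt_le [FiniteDimensional K V] (h : Cmp F F' j W₀) {k : ℕ} (hW₀ : W₀ ∈ F.Om k)
    (han : ∀ x, F'.Q x = 0 → x = 0) (W : Submodule K V) (hW : F.TS W) : finrank K W ≤ k := by
  by_contra hk
  obtain ⟨W', hW', hW'k⟩ := exists_sub W (k := k) (by omega)
  obtain ⟨g, hg⟩ := F.trans_Om hW₀ (⟨hW.mono hW', hW'k⟩ : W' ∈ F.Om k)
  apply hk
  have h1 : W ≤ W' := by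
    intro w hw
    have hinv : ∀ v : V, (g : V ≃ₗ[K] V) (((g⁻¹ : F.iso) : V ≃ₗ[K] V) v) = v :=
      fun v => (g : V ≃ₗ[K] V).apply_symm_apply v
    have hp : ((g⁻¹ : F.iso) : V ≃ₗ[K] V) w ∈ F.perp W₀ := by
      intro u hu
      have h2 : (g : V ≃ₗ[K] V) u ∈ W := hW' (by rw [← hg]; exact ⟨u, hu, rfl⟩)
      have h3 := hW.2 w hw _ h2
      rw [← F.iso_B g, hinv]
      exact h3
    obtain ⟨u, hu, x, hx⟩ := h.j2 _ hp
    have h4 : j x = ((g⁻¹ : F.iso) : V ≃ₗ[K] V) w - u := by rw [hx]; abel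
    have h5 : (g : V ≃ₗ[K] V) (j x) ∈ W := by
      rw [h4, map_sub, hinv]
      exact W.sub_mem hw (hW' (by rw [← hg]; exact ⟨u, hu, rfl⟩))
    have h6 : F'.Q x = 0 := by
      rw [← h.jQ, ← F.iso_Q g]
      exact hW.1 _ h5
    have h7 := han x h6
    rw [h7, map_zero, add_zero] at hx
    rw [← hinv w, hx, ← hg]
    exact ⟨u, hu, rfl⟩
  have h2 := Submodule.finrank_mono h1
  omega

end

section

variable {K : Type u} [Field K] {V : Type v} [AddCommGroup V] [Module K V]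

/-- **the 2-transitive character** -/
theorem exists_two (F : CForm K V) [Finite K] [FiniteDimensional K V] [Finite V] {N : ℕ} (hN : 1 ≤ N)
    (hc : Nat.card {v : V // F.Sing v} = (Nat.card K - 1) * (N + 1) + 1)
    (hw : ∀ W, F.TS W → finrank K W ≤ 1) :
    ∃ ψ : F.iso → ℂ, IsIrrCharacter F.iso ψ ∧ ψ 1 = (N : ℂ) ∧
      ∀ (z : F.iso) (a : Kˣ), (∀ v, (z : V ≃ₗ[K] V) v = (a : K) • v) → ψ z = ψ 1 := by
  classical
  have hq : 1 < Nat.card K := Finite.one_lt_card
  have hPt : Nat.card F.Pt = N + 1 := by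
    have h1 := F.card_sing
    rw [hc] at h1
    exact Nat.eq_of_mul_eq_mul_left (by omega) (Nat.add_right_cancel h1)
  have := finite_iso F
  have hfin : Finite F.Pt := (Nat.card_pos_iff.1 (by omega)).2
  have hperp : ∀ x y : F.Pt, x ≠ y → ¬ F.Perp x y := by
    intro x y hxy hp
    have h1 : F.TS (x.1 ⊔ y.1) := F.TS_sup x.2.1 y.2.1 (fun u hu v hv => hp u hu v hv)
    have h2 := hw _ h1
    have h3 : x.1 = x.1 ⊔ y.1 := Submodule.eq_of_le_of_finrank_le le_sup_left (by rw [x.2.2]; exact h2)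
    have h4 : y.1 = x.1 ⊔ y.1 := Submodule.eq_of_le_of_finrank_le le_sup_right (by rw [y.2.2]; exact h2)
    exact hxy (Subtype.ext (h3.trans h4.symm))
  have ht : IsPretransitive F.iso F.Pt := ⟨fun x y => by
    obtain ⟨g, hg⟩ := F.trans_Om x.2 y.2
    exact ⟨g, Subtype.ext hg⟩⟩
  have h2t : IsMultiplyPretransitive F.iso F.Pt 2 := by
    rw [is_two_pretransitive_iff]
    intro a b c d hab hcd
    exact F.trans_opp (hperp a b hab) (hperp c d hcd)
  have h1 := (S0157.result (G := F.iso) F.Pt (by rw [hPt]; omega)).2 h2t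
  have hfix : ∀ z : F.iso, (∀ x : F.Pt, z • x = x) → (Nat.card (MulAction.fixedBy F.Pt z) : ℂ) - 1 = (N : ℂ) := by
    intro z hz
    have h3 : MulAction.fixedBy F.Pt z = Set.univ := Set.eq_univ_of_forall fun x => hz x
    rw [h3, Nat.card_congr (Equiv.Set.univ F.Pt), hPt]
    push_cast; ring
  refine ⟨_, h1, hfix 1 fun x => one_smul _ x, fun z a hz => ?_⟩
  rw [hfix 1 fun x => one_smul _ x, hfix z fun x => ?_]
  apply Subtype.ext
  rw [F.smul_val]
  exact map_eq_of_le F.iso.subtype fun w hw => by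
    change (z : V ≃ₗ[K] V) w ∈ x.1
    rw [hz]; exact x.1.smul_mem _ hw

end

/-! ### descent -/

/-- from `Sp` to `PSp` -/
theorem sp_down {K : Type u} [Field K] [Finite K] {m : ℕ} {χ : (CForm.spF K m).iso → ℂ} (hχ : IsIrrCharacter _ χ)
    {d : ℕ} (h1 : χ 1 = d)
    (hz : ∀ (z : (CForm.spF K m).iso) (a : Kˣ), a ^ 2 = 1 →
      (∀ v, (z : (Fin m ⊕ Fin m → K) ≃ₗ[K] (Fin m ⊕ Fin m → K)) v = (a : K) • v) → χ z = χ 1) : Ch (PSp m K) d := by
  classical
  have hfin : Finite (Matrix.symplecticGroup (Fin m) K) := inferInstance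
  have hχ' : IsIrrCharacter _ (χ ∘ (isoSp m K).toMonoidHom) :=
    Core.isIrr_comp (isoSp m K).toMonoidHom (isoSp m K).surjective hχ
  obtain ⟨η, hη, hη'⟩ := exists_quot (Subgroup.center (Matrix.symplecticGroup (Fin m) K)) hχ' (fun z hzc => by
    change χ (isoSp m K z) = χ (isoSp m K 1)
    rw [map_one]
    rcases Cfsg.Agent.ClassicalGeometry.SympInvolutions.center_eq hzc with h | h
    · refine hz _ 1 (one_pow 2) fun v => ?_
      rw [isoSp_apply, h, Matrix.one_mulVec, Units.val_one, one_smul]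
    · refine hz _ (-1) neg_one_sq fun v => ?_
      rw [isoSp_apply, h, Matrix.neg_mulVec, Matrix.one_mulVec, Units.val_neg, Units.val_one, neg_one_smul])
  refine ⟨η, hη, ?_⟩
  rw [← h1]
  have := hη' 1
  rw [QuotientGroup.mk_one] at this
  rw [this]
  change χ (isoSp m K 1) = χ 1
  rw [map_one]

/-- from `O` to `PΩ` -/
theorem om_down {ι : Type} [Fintype ι] [DecidableEq ι] {K : Type u} [Field K] [Finite K] (F : CForm K (ι → K))
    (hB : ∀ u v, F.B u v = F.Q (u + v) - F.Q u - F.Q v) {χ : F.iso → ℂ} (hχ : IsIrrCharacter _ χ) {d : ℕ}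
    (h1 : χ 1 = d) {Z : Kˣ → Prop}
    (hz : ∀ (z : F.iso) (a : Kˣ), Z a → (∀ v, (z : (ι → K) ≃ₗ[K] (ι → K)) v = (a : K) • v) → χ z = χ 1)
    (hcen : ∀ z : Omega K F.Q, z ∈ Subgroup.center (Omega K F.Q) → ∃ a : Kˣ, Z a ∧ ∀ v, (omMat z).mulVec v = (a : K) • v)
    {t : ℕ} (hidx : (Omega K F.Q).index ∣ 2 ^ t) :
    ∃ e i : ℕ, Ch (POmega K F.Q) e ∧ d = e * 2 ^ i ∧ i ≤ t ∧ 0 < e := by
  have hχ' : IsIrrCharacter _ (χ ∘ (isoQuad F hB).toMonoidHom) := Core.isIrr_comp _ (isoQuad F hB).surjective hχ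
  obtain ⟨e, h2, h3, h4, h5⟩ := ch_down (Omega K F.Q) hχ' (d := d) (by
    rw [Function.comp_apply, map_one, h1]) (fun z hzc => by
    obtain ⟨a, ha, h⟩ := hcen z hzc
    rw [Function.comp_apply, Function.comp_apply, map_one]
    exact hz _ a ha h)
  obtain ⟨f, rfl⟩ := h3
  rw [Nat.mul_div_cancel_left _ h5] at h4
  obtain ⟨i, hi, rfl⟩ := (Nat.dvd_prime_pow Nat.prime_two).1 (h4.trans hidx)
  exact ⟨e, i, h2, rfl, hi, h5⟩

/-! ### the character of degree `dg F k * N` -/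

section

variable {K : Type u} [Field K] {V : Type v} [AddCommGroup V] [Module K V] {X : Type w} [AddCommGroup X] [Module K X]
variable {F : CForm K V} {F' : CForm K X} {j : X →ₗ[K] V} {W₀ : Submodule K V}

theorem exists_prod [Finite K] [FiniteDimensional K V] [Finite V] (h : Cmp F F' j W₀)
    {k m : ℕ} {Z : Kˣ → Prop} {c : GL (Fin k) K → ℂ} (hc : Cus K k F.σ Z c) (hW₀ : W₀ ∈ F.Om k)
    (hw : ∀ W : Submodule K V, F.TS W → finrank K W ≤ m) (hk : m < 2 * k) {ψ₀ : F'.iso → ℂ} (hψ : IsIrrCharacter _ ψ₀)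
    {N : ℕ} (hN : ψ₀ 1 = N)
    (hψz : ∀ (z : F'.iso) (a : Kˣ), Z a → (∀ x, (z : X ≃ₗ[K] X) x = (a : K) • x) → ψ₀ z = ψ₀ 1) :
    ∃ χ : F.iso → ℂ, IsIrrCharacter F.iso χ ∧ χ 1 = ((dg F k * N : ℕ) : ℂ) ∧
      ∀ (z : F.iso) (a : Kˣ), Z a → (∀ v, (z : V ≃ₗ[K] V) v = (a : K) • v) → χ z = χ 1 := by
  have hjinj : Function.Injective j := by
    rw [injective_iff_map_eq_zero]
    intro x hx
    refine F'.nondeg x fun y => ?_
    rw [← h.jB, hx, F.B_zero_left]
  have hfX : Finite X := Finite.of_injective j hjinj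
  have hfd : FiniteDimensional K X := Module.Finite.of_finite
  obtain ⟨χ, hχ, h1, h2⟩ := exists_hc h hc hW₀ hψ (no_disj hw hk hW₀)
  refine ⟨χ, hχ, by rw [h1, hN]; push_cast; ring, fun z a ha hz => h2 z a hz fun z' hz' => ?_⟩
  rw [hc.scal a ha, hψz z' a ha hz']

end

end Cfsg.Agent.H749.Two
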