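import Cfsg.Agent.H749.TwoSp
import Cfsg.Agent.H113.PSU.Left43
import Cfsg.Agent.H477.HC.SpSix
import Cfsg.Agent.Blocks.Central
import Cfsg.Agent.S0136

/-!
# Pairs of characters of `PSp_4(q)`, `PSp_6(2)`, `PSp_6(3)` (helper749)
-/

set_option autoImplicit false

open scoped ComplexConjugate
open Cfsg

namespace Cfsg.Agent.H749.Two

open Cfsg.Agent.Characters MulAction Module Cfsg.Agent.H53.HC Cfsg.Agent.H477.HC

universe u v w

/-- a central element of order two acts by a sign -/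
theorem central_sq {G : Type u} [Group G] [Finite G] {χ : G → ℂ} (hχ : IsIrrCharacter G χ) {z : G}
    (hz : ∀ g, z * g = g * z) (h2 : z * z = 1) : χ z = χ 1 ∨ χ z = - χ 1 := by
  obtain ⟨n, ρ, hρ, rfl⟩ := hχ
  have := hρ
  obtain ⟨c, hc⟩ := Blocks.Central.exists_smul_of_commute ρ (ρ z) (fun g => by
    rw [← Module.End.mul_eq_comp, ← Module.End.mul_eq_comp, ← map_mul, ← map_mul, hz])
  have h1 : ρ.character z = c * ρ.character 1 := by
    change LinearMap.trace ℂ _ (ρ z) = c * LinearMap.trace ℂ _ (ρ 1)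
    rw [hc, map_smul, smul_eq_mul, map_one ρ]
  have h3 : c ^ 2 * ρ.character 1 = ρ.character 1 := by
    change c ^ 2 * LinearMap.trace ℂ _ (ρ 1) = LinearMap.trace ℂ _ (ρ 1)
    have h4 : ρ 1 = c ^ 2 • (1 : Module.End ℂ (Fin n → ℂ)) := by
      rw [← h2, map_mul, hc, smul_mul_smul_comm, mul_one, pow_two]
    nth_rewrite 2 [h4]
    rw [map_smul, smul_eq_mul, map_one ρ]
  have h4 : ρ.character 1 ≠ 0 := Blocks.Central.character_one_ne_zero ρ
  have h5 : (c - 1) * (c + 1) = 0 := by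
    have h6 : c ^ 2 = 1 := mul_right_cancel₀ h4 (by rw [h3, one_mul])
    linear_combination h6
  rcases mul_eq_zero.1 h5 with h6 | h6
  · left
    rw [h1, sub_eq_zero.1 h6, one_mul]
  · right
    rw [h1, eq_neg_of_add_eq_zero_left h6]
    ring

/-- an irreducible character on which a central element of order two acts as `-1` -/
theorem exists_neg {G : Type u} [Group G] [Finite G] {z : G} (hz : ∀ g, z * g = g * z) (h2 : z * z = 1) (h1 : z ≠ 1) :
    ∃ χ : G → ℂ, IsIrrCharacter G χ ∧ χ z = - χ 1 := by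
  have h3 : ¬ IsConj z 1 := by
    intro h
    obtain ⟨c, hc⟩ := isConj_iff.1 h
    rw [← hz, mul_inv_cancel_right] at hc
    exact h1 hc
  rw [S0136.result] at h3
  push Not at h3
  obtain ⟨χ, hχ⟩ := h3
  exact ⟨χ.1, χ.2, (central_sq χ.2 hz h2).resolve_left hχ⟩

section

variable (K : Type u) [Field K] [Finite K]

/-- the top character and its size -/
theorem sp_top {p : ℕ} [Fact p.Prime] [CharP K p] {m : ℕ} (hm : 2 ≤ m) (h1 : m = 2 → 4 ≤ Nat.card K) :
    ∃ d, Ch (PSp m K) d ∧ P1 (Nat.card K) m ∣ d ∧ P1 (Nat.card K) m ≤ d := by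
  have hq2 : 2 ≤ Nat.card K := Finite.one_lt_card
  obtain ⟨c, hc⟩ := exists_cus_sq K rfl m (by omega) (fun h => by
    by_contra h'
    have := h1 (by omega)
    omega) (fun h => by
    by_contra h'
    have := h1 (by omega)
    omega) (fun h => by omega)
  obtain ⟨χ, hχ, hχ1⟩ := psp_char (k := m) (n := 0) hc (one_pow 2) (neg_one_sq)
  obtain ⟨e, he⟩ := psp_dvd_top K (p := p) (m := m) (by omega)
  have h2 : Ch (PSp m K) (dg (CForm.spF K (m + 0)) m) := ⟨χ, hχ, hχ1⟩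
  have h3 : P1 (Nat.card K) m ∣ dg (CForm.spF K (m + 0)) m :=
    (Nat.Coprime.pow_right e (cop_P1 Fact.out (char_dvd K) (by omega) (by omega))).dvd_of_dvd_mul_left he
  exact ⟨_, h2, h3, Nat.le_of_dvd (ch_pos h2) h3⟩

/-- **`PSp_4(q)`, `q ≥ 4`**, `r ∣ (q+1)(q²+1)` -/
theorem two_sp_four {p : ℕ} [Fact p.Prime] [CharP K p] (hq : 4 ≤ Nat.card K) {r : ℕ} (hr : r.Prime) (hrp : r ≠ p)
    (hd : r ∣ Nat.card K + 1 ∨ r ∣ Nat.card K ^ 2 + 1) : H596.OneFacts.Two r (PSp 2 K) := by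
  have hp : p.Prime := Fact.out
  have : Fintype K := Fintype.ofFinite K
  obtain ⟨d, hd1, hd2, hd3⟩ := sp_top K (p := p) (m := 2) le_rfl (fun _ => hq)
  obtain ⟨χ₁, χ₂, f, g, i1, i2, i3, i4, i5, i6⟩ := H677.SpRank.exists_chars (F := K) (m := 2) le_rfl
  have hf : Ch (PSp 2 K) f := ⟨χ₁, i1, i3⟩
  have hg : Ch (PSp 2 K) g := ⟨χ₂, i2, i4⟩
  obtain ⟨q, hqq⟩ : ∃ q, q = Nat.card K := ⟨_, rfl⟩
  rw [← hqq] at hq hd hd2 hd3 i5 i6
  have hrq : ¬ r ∣ q := by rw [hqq]; exact ne_card K (p := p) hr hrp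
  have hq' : (4 : ℤ) ≤ q := by exact_mod_cast hq
  have e1 : 2 * f = q * (q + 1) ^ 2 := by
    have h1 : ((q : ℤ) - 1) * (2 * f) = (q - 1) * (q * (q + 1) ^ 2) := by
      have e0 : (2 - 1 : ℕ) = 1 := rfl
      rw [e0, pow_one] at i5
      linear_combination i5
    have h2 := mul_left_cancel₀ (show (q : ℤ) - 1 ≠ 0 by omega) h1
    exact_mod_cast h2
  have e2 : 2 * g = q * (q ^ 2 + 1) := by
    have h1 : ((q : ℤ) - 1) * (2 * g) = (q - 1) * (q * (q ^ 2 + 1)) := by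
      have e0 : (2 - 1 : ℕ) = 1 := rfl
      rw [e0, pow_one] at i6
      linear_combination i6
    have h2 := mul_left_cancel₀ (show (q : ℤ) - 1 ≠ 0 by omega) h1
    exact_mod_cast h2
  have e3 : P1 q 2 = (q ^ 2 + 1) * (q ^ 2 - 1) := by
    unfold P1
    simp
  have hd' : r ∣ q + 1 ∨ (r ∣ q ^ 2 + 1 ∧ r ≠ 2) := by
    rcases hd with h | h
    · exact Or.inl h
    · by_cases hr2 : r = 2
      · left
        subst hr2
        have h1 : Odd q := by
          by_contra h2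
          exact hrq (even_iff_two_dvd.1 (Nat.not_odd_iff_even.1 h2))
        exact h1.add_one.two_dvd
      · exact Or.inr ⟨h, hr2⟩
  clear hd
  obtain ⟨s, rfl⟩ : ∃ s, q = s + 1 := ⟨q - 1, by omega⟩
  have e4 : (s + 1) ^ 2 - 1 = s * (s + 2) := by
    have : (s + 1) ^ 2 = s * (s + 2) + 1 := by ring
    omega
  rw [e3, e4] at hd2 hd3
  have hs : 3 ≤ s := by omega
  rcases hd' with h | ⟨h, hr2⟩
  · have h1 : r ∣ f := by
      by_cases hr2 : r = 2
      · subst hr2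
        have h3 : 4 ∣ 2 * f := by
          rw [e1]
          exact Dvd.dvd.mul_left (by
            have := pow_dvd_pow_of_dvd h 2
            simpa using this) _
        omega
      · have h3 : r ∣ 2 * f := by
          rw [e1]
          exact Dvd.dvd.mul_left (h.trans (dvd_pow_self _ two_ne_zero)) _
        exact (hr.dvd_mul.1 h3).resolve_left fun h4 => hr2 ((Nat.prime_dvd_prime_iff_eq hr Nat.prime_two).1 h4)
    refine two_of_ch hd1 hf ((Dvd.dvd.mul_left (Dvd.dvd.mul_left ?_ _) _).trans hd2) h1 (fun h2 => ?_)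
    · exact h
    · rw [h2] at hd3
      have : (s + 1) * (s + 1 + 1) ^ 2 < 2 * (((s + 1) ^ 2 + 1) * (s * (s + 2))) := by nlinarith
      omega
  · have h1 : r ∣ g := by
      have h3 : r ∣ 2 * g := by
        rw [e2]
        exact Dvd.dvd.mul_left h _
      exact (hr.dvd_mul.1 h3).resolve_left fun h4 => hr2 ((Nat.prime_dvd_prime_iff_eq hr Nat.prime_two).1 h4)
    refine two_of_ch hd1 hg ((Dvd.dvd.mul_right h _).trans hd2) h1 (fun h2 => ?_)
    rw [h2] at hd3
    have : (s + 1) * ((s + 1) ^ 2 + 1) < 2 * (((s + 1) ^ 2 + 1) * (s * (s + 2))) := by nlinarith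
    omega

/-- **`PSp_4(3)`** -/
theorem two_sp43 (F : Type u) [Field F] [Fintype F] (hF : Fintype.card F = 3) {r : ℕ} (hr : r = 2 ∨ r = 5) :
    H596.OneFacts.Two r (PSp 2 F) := by
  obtain ⟨χ₁, χ₂, h1, h2, h3, h4⟩ := H113.PSU.Left43.sp43 hF
  obtain ⟨χ₃, χ₄, f, g, -, i2, -, i4, -, i6⟩ := H677.SpRank.exists_chars (F := F) (m := 2) le_rfl
  rw [Nat.card_eq_fintype_card, hF] at i6
  norm_num at i6
  have e1 : g = 15 := by omega
  subst e1
  have c20 : Ch (PSp 2 F) 20 := ⟨χ₁, h1, by rw [h3]; norm_num⟩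
  have c24 : Ch (PSp 2 F) 24 := ⟨χ₂, h2, by rw [h4]; norm_num⟩
  have c15 : Ch (PSp 2 F) 15 := ⟨χ₄, i2, i4⟩
  rcases hr with rfl | rfl
  · exact two_of_ch c20 c24 (by norm_num) (by norm_num) (by norm_num)
  · exact two_of_ch c20 c15 (by norm_num) (by norm_num) (by norm_num)

/-- **`PSp_6(2)`** -/
theorem two_sp62 (F : Type) [Field F] [Fintype F] (hF : Fintype.card F = 2) {r : ℕ} (hr : r = 3 ∨ r = 5 ∨ r = 7) :
    H596.OneFacts.Two r (PSp 3 F) := by
  obtain ⟨d, hd, hd'⟩ := tsp62 F hF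
  obtain ⟨χ₃, χ₄, f, g, i1, i2, i3, i4, i5, i6⟩ := H677.SpRank.exists_chars (F := F) (m := 3) (by norm_num)
  rw [Nat.card_eq_fintype_card, hF] at i5 i6
  norm_num at i5 i6
  have e1 : f = 35 := by omega
  have e2 : g = 27 := by omega
  subst e1 e2
  have c35 : Ch (PSp 3 F) 35 := ⟨χ₃, i1, i3⟩
  have c27 : Ch (PSp 3 F) 27 := ⟨χ₄, i2, i4⟩
  have h1 := ch_pos hd'
  have h2 := Nat.le_of_dvd h1 hd
  rcases hr with rfl | rfl | rfl
  · exact two_of_ch hd' c27 (Dvd.dvd.trans (by norm_num) hd) (by norm_num) (by omega)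
  · exact two_of_ch hd' c35 (Dvd.dvd.trans (by norm_num) hd) (by norm_num) (by omega)
  · exact two_of_ch hd' c35 (Dvd.dvd.trans (by norm_num) hd) (by norm_num) (by omega)

/-- the character of degree `D_2 N` of `PSp_6(3)` -/
theorem ch_sp63 (hq : Nat.card K = 3) : ∃ N, 0 < N ∧ Ch (PSp 3 K) (dg (CForm.spF K (2 + 1)) 2 * N) := by
  classical
  obtain ⟨c, hc⟩ := exists_cus_one (K := K) hq 2 (by norm_num) (by norm_num) (by rintro ⟨h, -⟩; omega)
  obtain ⟨W₀, hW₀, hcmp⟩ := spF_cmp (K := K) 2 1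
  have hfin := finite_iso (CForm.spF K 1)
  -- `-1` in `Sp_2(3)`
  let z₁ : (CForm.spF K 1).iso := ⟨LinearEquiv.neg K, fun u v => by
    change (CForm.spF K 1).B (-u) (-v) = _
    have h1 : ∀ u v, (CForm.spF K 1).B (-u) v = - (CForm.spF K 1).B u v := fun u v => by
      have := (CForm.spF K 1).B_smul_left (-1) u v
      rwa [neg_one_smul, neg_one_mul] at this
    have h2 : ∀ u v, (CForm.spF K 1).B u (-v) = - (CForm.spF K 1).B u v := fun u v => by
      have := (CForm.spF K 1).B_smul_right (-1) u v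
      rw [neg_one_smul, map_neg, map_one, neg_one_mul] at this
      exact this
    rw [h1, h2, neg_neg], fun v => rfl⟩
  have hz₁ : ∀ v, (z₁ : (Fin 1 ⊕ Fin 1 → K) ≃ₗ[K] (Fin 1 ⊕ Fin 1 → K)) v = ((-1 : Kˣ) : K) • v := fun v => by
    rw [Units.val_neg, Units.val_one, neg_one_smul]
    rfl
  have hzc : ∀ g, z₁ * g = g * z₁ := fun g => by
    apply Subtype.ext
    ext v : 1
    change - (g : (Fin 1 ⊕ Fin 1 → K) ≃ₗ[K] (Fin 1 ⊕ Fin 1 → K)) v =
      (g : (Fin 1 ⊕ Fin 1 → K) ≃ₗ[K] (Fin 1 ⊕ Fin 1 → K)) (-v)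
    rw [map_neg]
  have hz2 : z₁ * z₁ = 1 := by
    apply Subtype.ext
    ext v : 1
    change - (- v) = v
    rw [neg_neg]
  have hneg1 : (-1 : K) ≠ 1 := by
    intro h
    have h2 : (2 : K) = 0 := by linear_combination -h
    obtain ⟨p, hp⟩ := CharP.exists K
    have hpr : p.Prime := (CharP.char_is_prime_or_zero K p).resolve_right (CharP.char_ne_zero_of_finite K p)
    have : Fact p.Prime := ⟨hpr⟩
    obtain ⟨n, hn⟩ := card_pow K p
    have h3 : p ∣ 2 := (CharP.cast_eq_zero_iff K p 2).1 (by exact_mod_cast h2)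
    have h4 : p = 2 := (Nat.prime_dvd_prime_iff_eq hpr Nat.prime_two).1 h3
    rw [hq, h4] at hn
    have h5 : n ≠ 0 := by rintro rfl; omega
    have h6 : 2 ∣ 3 := by rw [hn]; exact dvd_pow_self 2 h5
    omega
  have hz0 : z₁ ≠ 1 := by
    intro h
    have h3 := hz₁ (fun _ => 1)
    rw [h] at h3
    have h4 := congrFun h3 (.inl 0)
    change (1 : K) = ((-1 : Kˣ) : K) * 1 at h4
    rw [Units.val_neg, Units.val_one, mul_one] at h4
    exact hneg1 h4.symm
  have hc1 : c 1 ≠ 0 := Core.isIrr_apply_one_ne_zero hc.irr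
  -- the sign of `c`
  have hsc : c (Matrix.GeneralLinearGroup.scalar (Fin 2) (-1 : Kˣ)) = c 1 ∨
      c (Matrix.GeneralLinearGroup.scalar (Fin 2) (-1 : Kˣ)) = - c 1 := by
    refine central_sq hc.irr (fun g => ?_) ?_
    · exact (Matrix.GeneralLinearGroup.scalar_commute (-1 : Kˣ) g : Commute _ _)
    · rw [← map_mul, neg_mul_neg, one_mul, map_one]
  obtain ⟨ψ, hψ, N, hN, hψ1, hψz⟩ : ∃ ψ : (CForm.spF K 1).iso → ℂ, IsIrrCharacter _ ψ ∧ ∃ N : ℕ, 0 < N ∧ ψ 1 = N ∧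
      c (Matrix.GeneralLinearGroup.scalar (Fin 2) (-1 : Kˣ)) * ψ z₁ = c 1 * ψ 1 := by
    rcases hsc with h | h
    · obtain ⟨ψ, hψ, h1, h2⟩ := sp_two K
      exact ⟨ψ, hψ, Nat.card K, by omega, h1, by rw [h, h2 z₁ _ hz₁]⟩
    · obtain ⟨ψ, hψ, h1⟩ := exists_neg hzc hz2 hz0
      obtain ⟨N, hN, h2⟩ := Core.isIrr_apply_one hψ
      exact ⟨ψ, hψ, N, hN, h2, by rw [h, h1]; ring⟩
  obtain ⟨χ, hχ, hχ1, hχz⟩ := exists_hc hcmp hc hW₀ hψ (no_disj (m := 3) (fun W hW => by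
      have h1 := two_finrank_le hW
      rw [Module.finrank_fintype_fun_eq_card] at h1
      simp only [Fintype.card_sum, Fintype.card_fin] at h1
      omega) (by norm_num) hW₀)
  refine ⟨N, hN, sp_down hχ (d := dg (CForm.spF K (2 + 1)) 2 * N) (by rw [hχ1, hψ1]; push_cast; ring)
    fun z a ha hz => hχz z a hz fun z' hz' => ?_⟩
  have ha' : a = 1 ∨ a = -1 := by
    have h1 : ((a : K) - 1) * (a + 1) = 0 := by
      have h2 : (a : K) ^ 2 = 1 := by rw [← Units.val_pow_eq_pow_val, ha, Units.val_one]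
      linear_combination h2
    rcases mul_eq_zero.1 h1 with h2 | h2
    · exact Or.inl (Units.ext (sub_eq_zero.1 h2))
    · right
      apply Units.ext
      rw [Units.val_neg, Units.val_one]
      exact eq_neg_of_add_eq_zero_left h2
  rcases ha' with rfl | rfl
  · have h1 : z' = 1 := by
      apply Subtype.ext
      ext v : 1
      rw [hz', Units.val_one, one_smul]
      rfl
    rw [h1, map_one]
  · have h1 : z' = z₁ := by
      apply Subtype.ext
      ext v : 1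
      rw [hz', hz₁]
    rw [h1]
    exact hψz

/-- **`PSp_6(3)`** -/
theorem two_sp63 (hq : Nat.card K = 3) {r : ℕ} (hr : r = 2 ∨ r = 5 ∨ r = 7 ∨ r = 13) :
    H596.OneFacts.Two r (PSp 3 K) := by
  have : Fintype K := Fintype.ofFinite K
  obtain ⟨p, hp⟩ := CharP.exists K
  have hpr : p.Prime := (CharP.char_is_prime_or_zero K p).resolve_right (CharP.char_ne_zero_of_finite K p)
  have : Fact p.Prime := ⟨hpr⟩
  have hp3 : p = 3 := by
    have := char_dvd K (p := p)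
    rw [hq] at this
    exact (Nat.prime_dvd_prime_iff_eq hpr Nat.prime_three).1 this
  obtain ⟨χ₃, χ₄, f, g, i1, i2, i3, i4, i5, i6⟩ := H677.SpRank.exists_chars (F := K) (m := 3) (by norm_num)
  rw [hq] at i5 i6
  norm_num at i5 i6
  have e1 : f = 195 := by omega
  have e2 : g = 168 := by omega
  subst e1 e2
  have c195 : Ch (PSp 3 K) 195 := ⟨χ₃, i1, i3⟩
  have c168 : Ch (PSp 3 K) 168 := ⟨χ₄, i2, i4⟩
  obtain ⟨d, hd1, hd2, hd3⟩ := sp_top K (p := p) (m := 3) (by norm_num) (by omega)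
  have e3 : P1 (Nat.card K) 3 = 17920 := by rw [hq]; rfl
  rw [e3] at hd2 hd3
  rcases hr with rfl | rfl | rfl | rfl
  · exact two_of_ch hd1 c168 (Dvd.dvd.trans (by norm_num) hd2) (by norm_num) (by omega)
  · exact two_of_ch hd1 c195 (Dvd.dvd.trans (by norm_num) hd2) (by norm_num) (by omega)
  · exact two_of_ch hd1 c168 (Dvd.dvd.trans (by norm_num) hd2) (by norm_num) (by omega)
  · obtain ⟨N, hN, h1⟩ := ch_sp63 K hq
    obtain ⟨e, he⟩ := bc_key (m := 3) le_rfl (by omega) (psp_dvd K (p := p) (k := 3 - 1) (n := 1) (by omega))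
    have e4 : P2 (Nat.card K) 3 = 7280 := by rw [hq]; rfl
    rw [e4, hp3] at he
    have h2 : 7280 ∣ dg (CForm.spF K (2 + 1)) 2 :=
      (Nat.Coprime.pow_right e (by norm_num : Nat.Coprime 7280 3)).dvd_of_dvd_mul_left he
    have h3 : 7280 ∣ dg (CForm.spF K (2 + 1)) 2 * N := Dvd.dvd.mul_right h2 _
    have h4 := Nat.le_of_dvd (ch_pos h1) h3
    exact two_of_ch h1 c195 (Dvd.dvd.trans (by norm_num) h3) (by norm_num) (by omega)

end

end Cfsg.Agent.H749.Two
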